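import Groth.Prelude.Def_AlgSp4
import Mathlib.AlgebraicGeometry.Morphisms.Etale
import Mathlib.AlgebraicGeometry.Morphisms.LocalFlatDescent
import Mathlib.AlgebraicGeometry.Noetherian

/-!
# Chart yoga for algebraic spaces (helper79)

Tools to manipulate etale charts `h_U ⟶ F` of fppf sheaves, pullbacks of charts, and
descent of properties of morphisms of schemes along etale surjective base change.
-/

set_option autoImplicit false
universe u
open CategoryTheory CategoryTheory.Limits AlgebraicGeometry

namespace Groth.Agent.Lib.Helper79.AlgSpChart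

open AlgSp

variable {S : Scheme.{u}}

/-- Pullback of a representable morphism with property `P` along a map from a representable. -/
theorem exists_pullback (P : MorphismProperty Scheme.{u}) {F G : Sp S} {f : F ⟶ G}
    (hf : RepWith P f) {T : Over S} (g : (yon S).obj T ⟶ G) :
    ∃ (R : Over S) (fst : (yon S).obj R ⟶ F) (snd : R ⟶ T),
      IsPullback fst ((yon S).map snd) f g ∧ P snd.left :=
  ⟨_, hf.rep.fst g, hf.rep.snd g, hf.rep.isPullback g, hf.property_snd g⟩

/-- Pullback of a chart with property `P` along a map from a representable. -/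
theorem exists_pullback_chart (P : MorphismProperty Scheme.{u}) {F : Sp S} {U T : Over S}
    {a : (yon S).obj U ⟶ F} (ha : RepWith P a) (g : (yon S).obj T ⟶ F) :
    ∃ (R : Over S) (p1 : R ⟶ U) (p2 : R ⟶ T),
      IsPullback ((yon S).map p1) ((yon S).map p2) a g ∧ P p2.left :=
  ⟨_, ha.rep.fst' g, ha.rep.snd g, ha.rep.isPullback' g, ha.property_snd g⟩

/-- A pullback square of representable sheaves comes from a pullback square of schemes over `S`. -/
theorem isPullback_over_of_yon {A B C D : Over S} {t : A ⟶ B} {l : A ⟶ C} {r : B ⟶ D} {b : C ⟶ D}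
    (h : IsPullback ((yon S).map t) ((yon S).map l) ((yon S).map r) ((yon S).map b)) :
    IsPullback t l r b :=
  IsPullback.of_map_of_faithful (yon S) h

/-- A pullback square of representable sheaves gives a pullback square of schemes. -/
theorem isPullback_left_of_yon {A B C D : Over S} {t : A ⟶ B} {l : A ⟶ C} {r : B ⟶ D} {b : C ⟶ D}
    (h : IsPullback ((yon S).map t) ((yon S).map l) ((yon S).map r) ((yon S).map b)) :
    IsPullback t.left l.left r.left b.left :=
  (isPullback_over_of_yon h).map (Over.forget S)

/-- In a pullback square of two charts, if the second chart has `P`, the first projection has `P`. -/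
theorem fst_property_of_isPullback (P : MorphismProperty Scheme.{u}) {F : Sp S} {U T R : Over S}
    {a : (yon S).obj U ⟶ F} {g : (yon S).obj T ⟶ F} (hg : RepWith P g) {p1 : R ⟶ U} {p2 : R ⟶ T}
    (h : IsPullback ((yon S).map p1) ((yon S).map p2) a g) : P p1.left :=
  hg.property a ((yon S).map p2) p1 h.flip

/-- A morphism between two etale charts of `F` is etale. -/
theorem etale_of_chart_map {F : Sp S} {U W : Over S} (a : (yon S).obj U ⟶ F)
    (c : (yon S).obj W ⟶ F) (ha : RepWith @Etale a) (hc : RepWith @Etale c) (k : U ⟶ W)
    (hk : (yon S).map k ≫ c = a) : Etale k.left := by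
  obtain ⟨R, p1, p2, sq, e2⟩ := exists_pullback_chart @Etale ha c
  have e1 : Etale p1.left := fst_property_of_isPullback @Etale hc sq
  have hcomm : (yon S).map (𝟙 U) ≫ a = (yon S).map k ≫ c := by simp [hk]
  obtain ⟨s, hs1, hs2⟩ : ∃ s : U ⟶ R, s ≫ p1 = 𝟙 U ∧ s ≫ p2 = k := by
    refine ⟨(yon S).preimage (sq.lift _ _ hcomm), ?_, ?_⟩
    · apply (yon S).map_injective
      rw [Functor.map_comp, Functor.map_preimage, sq.lift_fst]
    · apply (yon S).map_injective
      rw [Functor.map_comp, Functor.map_preimage, sq.lift_snd]
  have hs : Etale s.left := by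
    have h1 : Etale (s.left ≫ p1.left) := by
      rw [← Over.comp_left, hs1]
      exact inferInstanceAs (Etale (𝟙 U.left))
    exact MorphismProperty.of_postcomp (W := @Etale) (W' := @Etale) s.left p1.left e1 h1
  rw [← hs2, Over.comp_left]
  infer_instance

/-- Composite of a scheme map with property `P` and a chart with property `P` is a chart with `P`. -/
theorem repWith_map_comp (P : MorphismProperty Scheme.{u}) [P.IsStableUnderBaseChange]
    [P.IsMultiplicative] {F : Sp S} {U U' : Over S} (q : U' ⟶ U) (hq : P q.left)
    {a : (yon S).obj U ⟶ F} (ha : RepWith P a) : RepWith P ((yon S).map q ≫ a) :=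
  (RepWith P).comp_mem _ _ ((repWith_yon_map_iff P q).2 hq) ha

/-- Descent along an etale surjective base change for properties with fppf descent. -/
theorem descend_of_isPullback (P : MorphismProperty Scheme.{u})
    [P.DescendsAlong (@Surjective ⊓ @Flat ⊓ @LocallyOfFinitePresentation)]
    {U V U' V' : Over S} {k : U ⟶ V} {e : V' ⟶ V} {k' : U' ⟶ V'} {q : U' ⟶ U}
    (sq : IsPullback k' q e k) (he : Etale e.left) (hes : Surjective e.left) (hk' : P k'.left) :
    P k.left := by
  have h1 : Flat e.left := inferInstance
  have h2 : LocallyOfFinitePresentation e.left := inferInstance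
  exact MorphismProperty.of_isPullback_of_descendsAlong
    (Q := @Surjective ⊓ @Flat ⊓ @LocallyOfFinitePresentation) (sq.map (Over.forget S))
    ⟨⟨hes, h1⟩, h2⟩ hk'

end Groth.Agent.Lib.Helper79.AlgSpChart
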