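import Groth.Agent.Lib.Helper79.FerrandGlue

/-!
# Ferrand pinching: the affine pushout squares of the charts
-/

set_option autoImplicit false
universe u

open AlgebraicGeometry CategoryTheory Limits TopologicalSpace Opposite

namespace Groth.Agent.Lib.Helper79.Ferrand

open Groth.Agent.Lib.Helper79.FerrandRing Groth.Agent.Lib.Helper6.PinchAlg

theorem appTop_hom {R S : CommRingCat.{u}} (φ : R ⟶ S) (x : Γ(Spec R, ⊤)) :
    (Scheme.ΓSpecIso S).hom ((Spec.map φ).appTop x) = φ ((Scheme.ΓSpecIso R).hom x) := by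
  have := ConcreteCategory.congr_hom (Scheme.ΓSpecIso_naturality φ) x
  exact this

theorem appTop_inv {R S : CommRingCat.{u}} (φ : R ⟶ S) (r : R) :
    (Spec.map φ).appTop ((Scheme.ΓSpecIso R).inv r) = (Scheme.ΓSpecIso S).inv (φ r) := by
  have := ConcreteCategory.congr_hom (Scheme.ΓSpecIso_inv_naturality φ) r
  exact this.symm

theorem ΓSpecIso_hom_inj (R : CommRingCat.{u}) : Function.Injective (Scheme.ΓSpecIso R).hom :=
  (ConcreteCategory.bijective_of_isIso (Scheme.ΓSpecIso R).hom).injective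

theorem ΓSpecIso_inv_hom (R : CommRingCat.{u}) (x : Γ(Spec R, ⊤)) :
    (Scheme.ΓSpecIso R).inv ((Scheme.ΓSpecIso R).hom x) = x := by
  rw [← CommRingCat.comp_apply, Iso.hom_inv_id]
  rfl

theorem ΓSpecIso_hom_inv (R : CommRingCat.{u}) (r : R) :
    (Scheme.ΓSpecIso R).hom ((Scheme.ΓSpecIso R).inv r) = r := by
  rw [← CommRingCat.comp_apply, Iso.inv_hom_id]
  rfl

/-- the affine pinching theorem in ring form. -/
theorem isPushout_Spec {A A' B C : Type u} [CommRing A] [CommRing A'] [CommRing B] [CommRing C]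
    (p : A' →+* A) (q : B →+* A) (f₁ : C →+* B) (f₂ : C →+* A')
    (comm : ∀ c, q (f₁ c) = p (f₂ c)) (hp : Function.Surjective p)
    (hPB : ∀ b a', q b = p a' → ∃ c, f₁ c = b ∧ f₂ c = a')
    (hINJ : ∀ c, f₁ c = 0 → f₂ c = 0 → c = 0) :
    IsPushout (Spec.map (CommRingCat.ofHom p)) (Spec.map (CommRingCat.ofHom q))
      (Spec.map (CommRingCat.ofHom f₂)) (Spec.map (CommRingCat.ofHom f₁)) := by
  have comm' : Spec.map (CommRingCat.ofHom p) ≫ Spec.map (CommRingCat.ofHom f₂) =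
      Spec.map (CommRingCat.ofHom q) ≫ Spec.map (CommRingCat.ofHom f₁) := by
    rw [← Spec.map_comp, ← Spec.map_comp, ← CommRingCat.ofHom_comp, ← CommRingCat.ofHom_comp]
    congr 2
    ext c
    exact (comm c).symm
  apply Groth.Agent.Lib.Helper6.PinchAff.isPushout _ _ _ _ comm'
  · intro z
    obtain ⟨a', ha'⟩ := hp ((Scheme.ΓSpecIso (CommRingCat.of A)).hom z)
    refine ⟨(Scheme.ΓSpecIso (CommRingCat.of A')).inv a', ?_⟩
    rw [appTop_inv]
    apply ΓSpecIso_hom_inj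
    rw [ΓSpecIso_hom_inv]
    exact ha'
  · intro y x hyx
    have h1 : q ((Scheme.ΓSpecIso (CommRingCat.of B)).hom y) =
        p ((Scheme.ΓSpecIso (CommRingCat.of A')).hom x) := by
      have e1 := appTop_hom (CommRingCat.ofHom q) y
      have e2 := appTop_hom (CommRingCat.ofHom p) x
      rw [hyx] at e1
      exact e1.symm.trans e2
    obtain ⟨c, hc1, hc2⟩ := hPB _ _ h1
    refine ⟨(Scheme.ΓSpecIso (CommRingCat.of C)).inv c, ?_, ?_⟩
    · rw [appTop_inv]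
      change (Scheme.ΓSpecIso (CommRingCat.of B)).inv (f₁ c) = y
      rw [hc1, ΓSpecIso_inv_hom]
    · rw [appTop_inv]
      change (Scheme.ΓSpecIso (CommRingCat.of A')).inv (f₂ c) = x
      rw [hc2, ΓSpecIso_inv_hom]
  · intro c h1 h2
    apply ΓSpecIso_hom_inj
    rw [map_zero]
    apply hINJ
    · have := appTop_hom (CommRingCat.ofHom f₁) c
      rw [h1, map_zero] at this
      exact this.symm
    · have := appTop_hom (CommRingCat.ofHom f₂) c
      rw [h2, map_zero] at this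
      exact this.symm

variable {X Y Z : Scheme.{u}} {i : Z ⟶ X} {j : Z ⟶ Y} [IsClosedImmersion i]

namespace GoodPair

variable (τ : GoodPair i j)

/-- the chart map `Spec Γ(X,U) ⟶ Spec C`. -/
noncomputable def α : Spec Γ(X, τ.U) ⟶ (F i j).obj τ :=
  Spec.map (CommRingCat.ofHom (fpSnd τ.qHom τ.pHom))

/-- the chart map `Spec Γ(Y,V) ⟶ Spec C`. -/
noncomputable def β : Spec Γ(Y, τ.V) ⟶ (F i j).obj τ :=
  Spec.map (CommRingCat.ofHom (fpFst τ.qHom τ.pHom))

/-- `Spec Γ(Z,W) ⟶ Spec Γ(X,U)` -/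
noncomputable def iSpec : Spec Γ(Z, τ.W) ⟶ Spec Γ(X, τ.U) :=
  Spec.map (i.appLE τ.U τ.W le_rfl)

/-- `Spec Γ(Z,W) ⟶ Spec Γ(Y,V)` -/
noncomputable def jSpec : Spec Γ(Z, τ.W) ⟶ Spec Γ(Y, τ.V) :=
  Spec.map (j.appLE τ.V τ.W τ.eq.le)

theorem isPushout_chart : IsPushout τ.iSpec τ.jSpec τ.α τ.β :=
  isPushout_Spec τ.pHom τ.qHom (fpFst τ.qHom τ.pHom) (fpSnd τ.qHom τ.pHom)
    (fp_comm τ.qHom τ.pHom) τ.pHom_surjective (fp_hPB τ.qHom τ.pHom) (fp_hINJ τ.qHom τ.pHom)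

theorem iSpec_fromSpec : τ.iSpec ≫ τ.hU.fromSpec = τ.hW.fromSpec ≫ i :=
  IsAffineOpen.SpecMap_appLE_fromSpec i τ.hU τ.hW le_rfl

theorem jSpec_fromSpec : τ.jSpec ≫ τ.hV.fromSpec = τ.hW.fromSpec ≫ j :=
  IsAffineOpen.SpecMap_appLE_fromSpec j τ.hV τ.hW τ.eq.le

end GoodPair

end Groth.Agent.Lib.Helper79.Ferrand
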