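import Groth.Agent.Lib.Helper79.FerrandFinite
import Mathlib.RingTheory.Adjoin.Tower
import Mathlib.AlgebraicGeometry.Morphisms.FiniteType

/-!
# Ferrand pinching: finite type over a locally Noetherian base
-/

set_option autoImplicit false
universe u

open AlgebraicGeometry CategoryTheory Limits TopologicalSpace Opposite

namespace Groth.Agent.Lib.Helper79.FerrandRing

variable {R B A' A : Type*} [CommRing R] [CommRing B] [CommRing A'] [CommRing A]
  (q : B →+* A) (p : A' →+* A)

/-- Artin–Tate for the fibre product ring. -/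
theorem finiteType_of_fp [IsNoetherianRing R] (hp : Function.Surjective p) (hq : q.Finite)
    (ρ : R →+* fp q p) (h1 : ((fpFst q p).comp ρ).FiniteType)
    (h2 : ((fpSnd q p).comp ρ).FiniteType) : ρ.FiniteType := by
  letI : Algebra R (fp q p) := ρ.toAlgebra
  letI : Algebra (fp q p) B := (fpFst q p).toAlgebra
  letI : Algebra (fp q p) A' := (fpSnd q p).toAlgebra
  letI : Algebra R B := ((fpFst q p).comp ρ).toAlgebra
  letI : Algebra R A' := ((fpSnd q p).comp ρ).toAlgebra
  have hRB : Algebra.FiniteType R B := h1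
  have hRA' : Algebra.FiniteType R A' := h2
  have hCB : Module.Finite (fp q p) B :=
    RingHom.Finite.of_surjective (fpFst q p) (fpFst_surjective q p hp)
  have hCA' : Module.Finite (fp q p) A' := fpSnd_finite q p hp hq
  have : IsScalarTower R (fp q p) (B × A') := IsScalarTower.of_algebraMap_eq (fun r => rfl)
  have hAC : (⊤ : Subalgebra R (B × A')).FG := (Algebra.FiniteType.prod (R := R)).out
  have hBC : (⊤ : Submodule (fp q p) (B × A')).FG := Module.Finite.fg_top
  have hinj : Function.Injective (algebraMap (fp q p) (B × A')) := by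
    intro c c' h
    exact Subtype.ext h
  exact ⟨fg_of_fg_of_fg R (fp q p) (B × A') hAC hBC hinj⟩

end Groth.Agent.Lib.Helper79.FerrandRing

namespace Groth.Agent.Lib.Helper79.Ferrand

open Groth.Agent.Lib.Helper79.FerrandRing

variable {X Y Z : Scheme.{u}} {i : Z ⟶ X} {j : Z ⟶ Y} [IsClosedImmersion i] (hF : Cond i j)

/-- finite type on a chart mapping into an affine open of a locally Noetherian base. -/
theorem locallyOfFiniteType_chart [IsFinite j] {S : Scheme.{u}} [IsLocallyNoetherian S]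
    (r : P i j ⟶ S) [LocallyOfFiniteType (a hF ≫ r)] [LocallyOfFiniteType (b hF ≫ r)]
    (τ : GoodPair i j) (U' : S.Opens) (hU' : IsAffineOpen U')
    (hτ : Set.range (ι τ ≫ r) ⊆ (U' : Set S)) :
    LocallyOfFiniteType (ι τ ≫ r) := by
  let g : (F i j).obj τ ⟶ Spec Γ(S, U') :=
    IsOpenImmersion.lift hU'.fromSpec (ι τ ≫ r) (by rw [hU'.range_fromSpec]; exact hτ)
  have hg : g ≫ hU'.fromSpec = ι τ ≫ r := IsOpenImmersion.lift_fac _ _ _
  obtain ⟨ρ, hρ⟩ : ∃ ρ : Γ(S, U') ⟶ CommRingCat.of τ.C, Spec.map ρ = g :=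
    ⟨Spec.preimage g, Spec.map_preimage g⟩
  rw [← hg, ← hρ]
  have : IsNoetherianRing Γ(S, U') := IsLocallyNoetherian.component_noetherian ⟨U', hU'⟩
  suffices h : LocallyOfFiniteType (Spec.map ρ) by
    have : LocallyOfFiniteType hU'.fromSpec := inferInstance
    exact MorphismProperty.comp_mem _ _ _ h this
  rw [HasRingHomProperty.Spec_iff (P := @LocallyOfFiniteType)]
  apply finiteType_of_fp τ.qHom τ.pHom τ.pHom_surjective τ.qHom_finite
  · have h1 : LocallyOfFiniteType (τ.β ≫ Spec.map ρ) := by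
      have : LocallyOfFiniteType ((τ.β ≫ Spec.map ρ) ≫ hU'.fromSpec) := by
        rw [Category.assoc, hρ, hg, ← Category.assoc, ← fromSpec_b hF τ, Category.assoc]
        infer_instance
      exact locallyOfFiniteType_of_comp _ hU'.fromSpec
    have e : τ.β ≫ Spec.map ρ = Spec.map (ρ ≫ CommRingCat.ofHom (fpFst τ.qHom τ.pHom)) :=
      (Spec.map_comp _ _).symm
    rw [e, HasRingHomProperty.Spec_iff (P := @LocallyOfFiniteType)] at h1
    exact h1
  · have h1 : LocallyOfFiniteType (τ.α ≫ Spec.map ρ) := by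
      have : LocallyOfFiniteType ((τ.α ≫ Spec.map ρ) ≫ hU'.fromSpec) := by
        rw [Category.assoc, hρ, hg, ← Category.assoc, ← fromSpec_a hF τ, Category.assoc]
        infer_instance
      exact locallyOfFiniteType_of_comp _ hU'.fromSpec
    have e : τ.α ≫ Spec.map ρ = Spec.map (ρ ≫ CommRingCat.ofHom (fpSnd τ.qHom τ.pHom)) :=
      (Spec.map_comp _ _).symm
    rw [e, HasRingHomProperty.Spec_iff (P := @LocallyOfFiniteType)] at h1
    exact h1

omit [IsClosedImmersion i] in
/-- every point of `P` lies in a chart mapping into an affine open of `S`. -/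
theorem exists_small_chart [IsClosedImmersion i] {S : Scheme.{u}} (r : P i j ⟶ S) (x : P i j) :
    ∃ (τ : GoodPair i j) (U' : S.Opens), IsAffineOpen U' ∧ x ∈ Set.range (ι τ) ∧
      Set.range (ι τ ≫ r) ⊆ (U' : Set S) := by
  obtain ⟨τ₀, x₀, rfl⟩ := ι_jointly_surjective x
  obtain ⟨_, ⟨U', hU', rfl⟩, hxU', -⟩ :=
    S.isBasis_affineOpens.exists_subset_of_mem_open (Set.mem_univ (r (ι τ₀ x₀))) isOpen_univ
  have hO : IsOpen ((ι τ₀ ≫ r) ⁻¹' (U' : Set S)) := U'.isOpen.preimage (ι τ₀ ≫ r).continuous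
  obtain ⟨_, ⟨c, rfl⟩, hx₀c, hcO⟩ :=
    PrimeSpectrum.isTopologicalBasis_basic_opens.exists_subset_of_mem_open
      (show x₀ ∈ (ι τ₀ ≫ r) ⁻¹' (U' : Set S) from hxU') hO
  let h : τ₀.basic c ⟶ τ₀ := homOfLE ⟨c, rfl⟩
  have hr : Set.range ((F i j).map h) = (PrimeSpectrum.basicOpen c : Set (PrimeSpectrum τ₀.C)) :=
    range_basic τ₀ c
  refine ⟨τ₀.basic c, U', hU', ?_, ?_⟩
  · have : x₀ ∈ Set.range ((F i j).map h) := by rw [hr]; exact hx₀c
    obtain ⟨y, rfl⟩ := this
    refine ⟨y, ?_⟩
    rw [← F_map_ι h, Scheme.Hom.comp_apply]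
  · rintro _ ⟨y, rfl⟩
    rw [← F_map_ι h, Category.assoc, Scheme.Hom.comp_apply]
    apply hcO
    change ((F i j).map h) y ∈ (PrimeSpectrum.basicOpen c : Set (PrimeSpectrum τ₀.C))
    rw [← hr]
    exact ⟨y, rfl⟩

/-- **the pinching is locally of finite type over a locally Noetherian base** as soon as `X`
and `Y` are and `j` is finite. -/
theorem locallyOfFiniteType_of_cond [IsFinite j] {S : Scheme.{u}} [IsLocallyNoetherian S]
    (r : P i j ⟶ S) [LocallyOfFiniteType (a hF ≫ r)] [LocallyOfFiniteType (b hF ≫ r)] :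
    LocallyOfFiniteType r := by
  let I := {τ : GoodPair i j // ∃ U' : S.Opens, IsAffineOpen U' ∧
    Set.range (ι τ ≫ r) ⊆ (U' : Set S)}
  apply IsZariskiLocalAtSource.of_iSup_eq_top (P := @LocallyOfFiniteType)
    (fun τ : I => (ι τ.1).opensRange)
  · rw [eq_top_iff]
    rintro x -
    obtain ⟨τ, U', hU', hx, hτ⟩ := exists_small_chart r x
    exact Opens.mem_iSup.mpr ⟨⟨τ, U', hU', hτ⟩, hx⟩
  · rintro ⟨τ, U', hU', hτ⟩
    have := locallyOfFiniteType_chart hF r τ U' hU' hτ
    change LocallyOfFiniteType ((ι τ).opensRange.ι ≫ r)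
    rw [← IsOpenImmersion.isoOfRangeEq_inv_fac (ι τ) (Scheme.Opens.ι _)
      (congr_arg Opens.carrier (ι τ).opensRange.opensRange_ι.symm), Category.assoc,
      MorphismProperty.cancel_left_of_respectsIso (P := @LocallyOfFiniteType)]
    exact this

include hF in
/-- version for an arbitrary pushout. -/
theorem locallyOfFiniteType_of_isPushout [IsFinite j] {S : Scheme.{u}} [IsLocallyNoetherian S]
    {P' : Scheme.{u}} {a' : X ⟶ P'} {b' : Y ⟶ P'} (hP : IsPushout i j a' b')
    (r : P' ⟶ S) [LocallyOfFiniteType (a' ≫ r)] [LocallyOfFiniteType (b' ≫ r)] :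
    LocallyOfFiniteType r := by
  have hF := hF
  have h1 : LocallyOfFiniteType (a hF ≫ (isoP hF hP).hom ≫ r) := by
    rw [a_isoP_assoc]; infer_instance
  have h2 : LocallyOfFiniteType (b hF ≫ (isoP hF hP).hom ≫ r) := by
    rw [b_isoP_assoc]; infer_instance
  have := locallyOfFiniteType_of_cond hF ((isoP hF hP).hom ≫ r)
  rwa [MorphismProperty.cancel_left_of_respectsIso (P := @LocallyOfFiniteType)] at this

end Groth.Agent.Lib.Helper79.Ferrand
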