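import Groth.Agent.Lib.Helper79.FerrandBC
import Groth.Agent.Lib.Helper79.FerrandLFT
import Groth.Agent.Lib.Helper74.FibreSq
import Mathlib.AlgebraicGeometry.Morphisms.Flat

/-!
# Ferrand pinching commutes with arbitrary base change when `Z` is flat over the base
-/

set_option autoImplicit false
universe u

open AlgebraicGeometry CategoryTheory Limits TopologicalSpace Opposite TensorProduct

namespace Groth.Agent.Lib.Helper79.Ferrand

open Groth.Agent.Lib.Helper79.FerrandRing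

theorem tensorMap_id_eq_lTensor {R A B C : Type*} [CommRing R] [CommRing A] [CommRing B]
    [CommRing C] [Algebra R A] [Algebra R B] [Algebra R C] (f : B →ₐ[R] C) (x : A ⊗[R] B) :
    Algebra.TensorProduct.map (AlgHom.id R A) f x = f.toLinearMap.lTensor A x := by
  induction x with
  | zero => simp
  | tmul a b => simp
  | add x y hx hy => simp [hx, hy]

variable {X Y Z : Scheme.{u}} {i : Z ⟶ X} {j : Z ⟶ Y}

namespace GoodPair

variable (τ : GoodPair i j) (R : Type u) [CommRing R] [Algebra R τ.C]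

/-- `R → C → Γ(X,U)` -/
@[reducible] noncomputable def algRX : Algebra R Γ(X, τ.U) :=
  ((fpSnd τ.qHom τ.pHom).comp (algebraMap R τ.C)).toAlgebra
/-- `R → C → Γ(Y,V)` -/
@[reducible] noncomputable def algRY : Algebra R Γ(Y, τ.V) :=
  ((fpFst τ.qHom τ.pHom).comp (algebraMap R τ.C)).toAlgebra
/-- `R → C → Γ(X,U) → Γ(Z,W)` -/
@[reducible] noncomputable def algRZ : Algebra R Γ(Z, τ.W) :=
  ((τ.pHom.comp (fpSnd τ.qHom τ.pHom)).comp (algebraMap R τ.C)).toAlgebra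

attribute [local instance] algRX algRY algRZ

/-- `fpSnd` as an `R`-algebra map -/
noncomputable def sndₐ : τ.C →ₐ[R] Γ(X, τ.U) :=
  { fpSnd τ.qHom τ.pHom with commutes' := fun _ => rfl }
/-- `fpFst` as an `R`-algebra map -/
noncomputable def fstₐ : τ.C →ₐ[R] Γ(Y, τ.V) :=
  { fpFst τ.qHom τ.pHom with commutes' := fun _ => rfl }
/-- `pHom` as an `R`-algebra map -/
noncomputable def pₐ : Γ(X, τ.U) →ₐ[R] Γ(Z, τ.W) :=
  { τ.pHom with commutes' := fun _ => rfl }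
/-- `qHom` as an `R`-algebra map -/
noncomputable def qₐ : Γ(Y, τ.V) →ₐ[R] Γ(Z, τ.W) :=
  { τ.qHom with commutes' := fun r => fp_comm τ.qHom τ.pHom (algebraMap R τ.C r) }

@[simp] theorem sndₐ_apply (c : τ.C) : τ.sndₐ R c = fpSnd τ.qHom τ.pHom c := rfl
@[simp] theorem fstₐ_apply (c : τ.C) : τ.fstₐ R c = fpFst τ.qHom τ.pHom c := rfl
@[simp] theorem pₐ_apply (x : Γ(X, τ.U)) : τ.pₐ R x = τ.pHom x := rfl
@[simp] theorem qₐ_apply (y : Γ(Y, τ.V)) : τ.qₐ R y = τ.qHom y := rfl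

/-- base change of the fibre square when `Γ(Z,W)` is flat over `R`. -/
theorem baseChange_of_flat [IsClosedImmersion i] [Module.Flat R Γ(Z, τ.W)]
    (R' : Type u) [CommRing R'] [Algebra R R']
    (y : R' ⊗[R] Γ(Y, τ.V)) (x : R' ⊗[R] Γ(X, τ.U))
    (hyx : (τ.qₐ R).toLinearMap.lTensor R' y = (τ.pₐ R).toLinearMap.lTensor R' x) :
    ∃! z : R' ⊗[R] τ.C, (τ.fstₐ R).toLinearMap.lTensor R' z = y ∧
      (τ.sndₐ R).toLinearMap.lTensor R' z = x :=
  Groth.Agent.Lib.Helper74.FibreSq.sq_baseChange (τ.fstₐ R).toLinearMap (τ.sndₐ R).toLinearMap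
    (τ.qₐ R).toLinearMap (τ.pₐ R).toLinearMap
    (fun b a' hba => ⟨fpMk τ.qHom τ.pHom b a' hba, ⟨rfl, rfl⟩,
      fun c hc => fp_ext τ.qHom τ.pHom hc.1 hc.2⟩)
    (fun c => fp_comm τ.qHom τ.pHom c) τ.pHom_surjective R' y x hyx

end GoodPair

section ofBase

attribute [local instance] GoodPair.algRX GoodPair.algRY GoodPair.algRZ

variable [IsClosedImmersion i] (hF : Cond i j) {P : Scheme.{u}} {a : X ⟶ P} {b : Y ⟶ P}
  (hP : IsPushout i j a b) {P' : Scheme.{u}} (h : P' ⟶ P)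

/-- the base change chart built from tensor products over a base ring. -/
noncomputable def BCChart.ofBase (τ : GoodPair i j) (R : Type u) [CommRing R] [Algebra R τ.C]
    (R' : Type u) [CommRing R'] [Algebra R R']
    (v : Spec (CommRingCat.of (R' ⊗[R] τ.C)) ⟶ P') [IsOpenImmersion v]
    (hvh : v ≫ h = Spec.map (CommRingCat.ofHom
      (Algebra.TensorProduct.includeRight (R := R) (A := R') (B := τ.C)).toRingHom) ≫ χ hF hP τ)
    (H : ∀ (y : R' ⊗[R] Γ(Y, τ.V)) (x : R' ⊗[R] Γ(X, τ.U)),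
      (τ.qₐ R).toLinearMap.lTensor R' y = (τ.pₐ R).toLinearMap.lTensor R' x →
      ∃! z : R' ⊗[R] τ.C, (τ.fstₐ R).toLinearMap.lTensor R' z = y ∧
        (τ.sndₐ R).toLinearMap.lTensor R' z = x) :
    BCChart hF hP h where
  τ := τ
  D := R' ⊗[R] τ.C
  DX := R' ⊗[R] Γ(X, τ.U)
  DY := R' ⊗[R] Γ(Y, τ.V)
  DZ := R' ⊗[R] Γ(Z, τ.W)
  ρ := (Algebra.TensorProduct.includeRight (R := R) (A := R') (B := τ.C)).toRingHom
  ρX := (Algebra.TensorProduct.includeRight (R := R) (A := R') (B := Γ(X, τ.U))).toRingHom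
  ρY := (Algebra.TensorProduct.includeRight (R := R) (A := R') (B := Γ(Y, τ.V))).toRingHom
  ρZ := (Algebra.TensorProduct.includeRight (R := R) (A := R') (B := Γ(Z, τ.W))).toRingHom
  sX := (Algebra.TensorProduct.map (AlgHom.id R R') (τ.sndₐ R)).toRingHom
  sY := (Algebra.TensorProduct.map (AlgHom.id R R') (τ.fstₐ R)).toRingHom
  pD := (Algebra.TensorProduct.map (AlgHom.id R R') (τ.pₐ R)).toRingHom
  qD := (Algebra.TensorProduct.map (AlgHom.id R R') (τ.qₐ R)).toRingHom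
  poX := by
    have left := (CommRingCat.isPushout_tensorProduct R R' τ.C).flip
    have outer := (CommRingCat.isPushout_tensorProduct R R' Γ(X, τ.U)).flip
    have e1 : CommRingCat.ofHom (algebraMap R Γ(X, τ.U)) =
        CommRingCat.ofHom (algebraMap R τ.C) ≫ CommRingCat.ofHom (fpSnd τ.qHom τ.pHom) := rfl
    have e2 : CommRingCat.ofHom (S := R' ⊗[R] Γ(X, τ.U))
          (Algebra.TensorProduct.includeLeftRingHom) =
        CommRingCat.ofHom (S := R' ⊗[R] τ.C) (Algebra.TensorProduct.includeLeftRingHom) ≫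
        CommRingCat.ofHom (Algebra.TensorProduct.map (AlgHom.id R R') (τ.sndₐ R)).toRingHom := by
      ext d
      simp
    rw [e1, e2] at outer
    refine IsPushout.of_left outer ?_ left
    ext x
    simp
  poY := by
    have left := (CommRingCat.isPushout_tensorProduct R R' τ.C).flip
    have outer := (CommRingCat.isPushout_tensorProduct R R' Γ(Y, τ.V)).flip
    have e1 : CommRingCat.ofHom (algebraMap R Γ(Y, τ.V)) =
        CommRingCat.ofHom (algebraMap R τ.C) ≫ CommRingCat.ofHom (fpFst τ.qHom τ.pHom) := rfl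
    have e2 : CommRingCat.ofHom (S := R' ⊗[R] Γ(Y, τ.V))
          (Algebra.TensorProduct.includeLeftRingHom) =
        CommRingCat.ofHom (S := R' ⊗[R] τ.C) (Algebra.TensorProduct.includeLeftRingHom) ≫
        CommRingCat.ofHom (Algebra.TensorProduct.map (AlgHom.id R R') (τ.fstₐ R)).toRingHom := by
      ext d
      simp
    rw [e1, e2] at outer
    refine IsPushout.of_left outer ?_ left
    ext x
    simp
  poZ := by
    have left := (CommRingCat.isPushout_tensorProduct R R' Γ(X, τ.U)).flip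
    have outer := (CommRingCat.isPushout_tensorProduct R R' Γ(Z, τ.W)).flip
    have e1 : CommRingCat.ofHom (algebraMap R Γ(Z, τ.W)) =
        CommRingCat.ofHom (algebraMap R Γ(X, τ.U)) ≫ CommRingCat.ofHom τ.pHom := rfl
    have e2 : CommRingCat.ofHom (S := R' ⊗[R] Γ(Z, τ.W))
          (Algebra.TensorProduct.includeLeftRingHom) =
        CommRingCat.ofHom (S := R' ⊗[R] Γ(X, τ.U)) (Algebra.TensorProduct.includeLeftRingHom) ≫
        CommRingCat.ofHom (Algebra.TensorProduct.map (AlgHom.id R R') (τ.pₐ R)).toRingHom := by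
      ext d
      simp
    rw [e1, e2] at outer
    refine IsPushout.of_left outer ?_ left
    ext x
    simp
  hq := by
    ext y
    simp
  hs := by
    apply RingHom.ext
    intro d
    change Algebra.TensorProduct.map (AlgHom.id R R') (τ.qₐ R)
        (Algebra.TensorProduct.map (AlgHom.id R R') (τ.fstₐ R) d) =
      Algebra.TensorProduct.map (AlgHom.id R R') (τ.pₐ R)
        (Algebra.TensorProduct.map (AlgHom.id R R') (τ.sndₐ R) d)
    induction d with
    | zero => simp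
    | tmul r c =>
      simp only [Algebra.TensorProduct.map_tmul, AlgHom.coe_id, id_eq, GoodPair.fstₐ_apply,
        GoodPair.qₐ_apply, GoodPair.sndₐ_apply, GoodPair.pₐ_apply]
      rw [fp_comm]
    | add x y hx hy => rw [map_add, map_add, hx, hy, map_add, map_add]
  hp := by
    have := Algebra.TensorProduct.map_surjective (f := AlgHom.id R R') (g := τ.pₐ R)
      Function.surjective_id τ.pHom_surjective
    exact this
  hPB := by
    intro y x hyx
    obtain ⟨z, ⟨hz1, hz2⟩, -⟩ := H y x (by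
      rw [← tensorMap_id_eq_lTensor, ← tensorMap_id_eq_lTensor]
      exact hyx)
    refine ⟨z, ?_, ?_⟩
    · rw [← hz1, ← tensorMap_id_eq_lTensor]; rfl
    · rw [← hz2, ← tensorMap_id_eq_lTensor]; rfl
  hINJ := by
    intro d h1 h2
    obtain ⟨z, -, hz⟩ := H 0 0 (by rw [map_zero, map_zero])
    rw [hz d ⟨by rw [← tensorMap_id_eq_lTensor]; exact h1,
      by rw [← tensorMap_id_eq_lTensor]; exact h2⟩, hz 0 ⟨map_zero _, map_zero _⟩]
  v := v
  hv := inferInstance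
  hvh := hvh

end ofBase

section main

attribute [local instance] GoodPair.algRX GoodPair.algRY GoodPair.algRZ

variable [IsClosedImmersion i] (hF : Cond i j) {P S T PT : Scheme.{u}} {a : X ⟶ P} {b : Y ⟶ P}
  (hP : IsPushout i j a b) (sP : P ⟶ S) (g : T ⟶ S) {pP : PT ⟶ P} {sPT : PT ⟶ T}
  (hPT : IsPullback pP sPT sP g)

include hF hP in
/-- every point of `P` lies in a chart mapping into an affine open of `S`. -/
theorem exists_small_χ (p : P) : ∃ (τ : GoodPair i j) (S₀ : S.Opens), IsAffineOpen S₀ ∧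
    p ∈ Set.range (χ hF hP τ) ∧ Set.range (χ hF hP τ ≫ sP) ⊆ (S₀ : Set S) := by
  obtain ⟨τ, S₀, hS₀, hx, hτ⟩ := exists_small_chart ((isoP hF hP).hom ≫ sP) ((isoP hF hP).inv p)
  refine ⟨τ, S₀, hS₀, ?_, ?_⟩
  · obtain ⟨x, hx⟩ := hx
    refine ⟨x, ?_⟩
    have hx' : ιS τ x = (isoP hF hP).inv p := hx
    rw [χ, Scheme.Hom.comp_apply, hx', ← Scheme.Hom.comp_apply, Iso.inv_hom_id]
    rfl
  · rintro _ ⟨x, rfl⟩
    apply hτ
    exact ⟨x, rfl⟩

variable (τ : GoodPair i j) {S₀ : S.Opens} (hS₀ : IsAffineOpen S₀)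
  (hτ : Set.range (χ hF hP τ ≫ sP) ⊆ (S₀ : Set S))
  {T₀ : T.Opens} (hT₀ : IsAffineOpen T₀) (hTS : T₀ ≤ g ⁻¹ᵁ S₀)

/-- `Spec C ⟶ Spec Γ(S, S₀)` -/
noncomputable def gφ : Spec (CommRingCat.of τ.C) ⟶ Spec Γ(S, S₀) :=
  IsOpenImmersion.lift hS₀.fromSpec (χ hF hP τ ≫ sP) (by rw [hS₀.range_fromSpec]; exact hτ)

/-- `Γ(S, S₀) → C` -/
noncomputable def φ : Γ(S, S₀) →+* τ.C := (Spec.preimage (gφ hF hP sP τ hS₀ hτ)).hom

theorem hφ : Spec.map (CommRingCat.ofHom (φ hF hP sP τ hS₀ hτ)) ≫ hS₀.fromSpec =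
    χ hF hP τ ≫ sP := by
  have : Spec.map (CommRingCat.ofHom (φ hF hP sP τ hS₀ hτ)) = gφ hF hP sP τ hS₀ hτ :=
    Spec.map_preimage _
  rw [this]
  exact IsOpenImmersion.lift_fac _ _ _

/-- `Γ(S, S₀) → Γ(T, T₀)` -/
noncomputable def ψ : Γ(S, S₀) →+* Γ(T, T₀) := (g.appLE S₀ T₀ hTS).hom

include hS₀ hT₀ in
theorem hψ : Spec.map (CommRingCat.ofHom (ψ g hTS)) ≫ hS₀.fromSpec = hT₀.fromSpec ≫ g :=
  IsAffineOpen.SpecMap_appLE_fromSpec g hS₀ hT₀ hTS

section chart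

variable {R R' : Type u} [CommRing R] [CommRing R'] [Algebra R τ.C] [Algebra R R']
  (e : Spec (CommRingCat.of R) ⟶ S) [IsOpenImmersion e]
  (eT : Spec (CommRingCat.of R') ⟶ T) [IsOpenImmersion eT]
  (hφ' : Spec.map (CommRingCat.ofHom (algebraMap R τ.C)) ≫ e = χ hF hP τ ≫ sP)
  (hψ' : Spec.map (CommRingCat.ofHom (algebraMap R R')) ≫ e = eT ≫ g)

theorem isPullback_tensor : IsPullback
    (Spec.map (CommRingCat.ofHom
      (Algebra.TensorProduct.includeRight (R := R) (A := R') (B := τ.C)).toRingHom))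
    (Spec.map (CommRingCat.ofHom (S := R' ⊗[R] τ.C) Algebra.TensorProduct.includeLeftRingHom))
    (Spec.map (CommRingCat.ofHom (algebraMap R τ.C)))
    (Spec.map (CommRingCat.ofHom (algebraMap R R'))) :=
  (isPullback_SpecMap_of_isPushout _ _ _ _ (CommRingCat.isPushout_tensorProduct R R' τ.C)).flip

/-- the chart `Spec (R' ⊗ C) ⟶ P_T`. -/
noncomputable def vT : Spec (CommRingCat.of (R' ⊗[R] τ.C)) ⟶ PT :=
  ((isPullback_tensor τ).isoPullback.hom ≫
    pullback.map _ _ sP g (χ hF hP τ) eT e hφ' hψ') ≫ hPT.isoPullback.inv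

instance : IsOpenImmersion (vT hF hP sP g hPT τ e eT hφ' hψ') := by
  unfold vT; infer_instance

theorem vT_pP : vT hF hP sP g hPT τ e eT hφ' hψ' ≫ pP =
    Spec.map (CommRingCat.ofHom
      (Algebra.TensorProduct.includeRight (R := R) (A := R') (B := τ.C)).toRingHom) ≫
      χ hF hP τ := by
  rw [vT, Category.assoc, hPT.isoPullback_inv_fst, Category.assoc, pullback.lift_fst,
    ← Category.assoc, (isPullback_tensor τ).isoPullback_hom_fst]

theorem vT_sPT : vT hF hP sP g hPT τ e eT hφ' hψ' ≫ sPT =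
    Spec.map (CommRingCat.ofHom (S := R' ⊗[R] τ.C) Algebra.TensorProduct.includeLeftRingHom) ≫
      eT := by
  rw [vT, Category.assoc, hPT.isoPullback_inv_snd, Category.assoc, pullback.lift_snd,
    ← Category.assoc, (isPullback_tensor τ).isoPullback_hom_snd]

theorem mem_range_vT (p : PT) (h1 : pP p ∈ Set.range (χ hF hP τ)) (h2 : sPT p ∈ Set.range eT) :
    p ∈ Set.range (vT hF hP sP g hPT τ e eT hφ' hψ') := by
  have hp' : hPT.isoPullback.hom p ∈ Set.range (pullback.map _ _ sP g (χ hF hP τ) eT e hφ' hψ') := by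
    rw [Scheme.Pullback.range_map]
    refine ⟨?_, ?_⟩
    · change pullback.fst sP g (hPT.isoPullback.hom p) ∈ Set.range (χ hF hP τ)
      rw [← Scheme.Hom.comp_apply, hPT.isoPullback_hom_fst]
      exact h1
    · change pullback.snd sP g (hPT.isoPullback.hom p) ∈ Set.range eT
      rw [← Scheme.Hom.comp_apply, hPT.isoPullback_hom_snd]
      exact h2
  obtain ⟨d, hd⟩ := hp'
  refine ⟨(isPullback_tensor τ).isoPullback.inv d, ?_⟩
  have e1 : (isPullback_tensor τ).isoPullback.hom ((isPullback_tensor τ).isoPullback.inv d) = d := by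
    rw [← Scheme.Hom.comp_apply, Iso.inv_hom_id]
    rfl
  have e2 : hPT.isoPullback.inv (hPT.isoPullback.hom p) = p := by
    rw [← Scheme.Hom.comp_apply, Iso.hom_inv_id]
    rfl
  rw [vT, Scheme.Hom.comp_apply, Scheme.Hom.comp_apply, e1, hd, e2]

end chart

/-- the base change property of a chart over a base ring -/
def BaseChangeOK (τ : GoodPair i j) (R : Type u) [CommRing R] [Algebra R τ.C] : Prop :=
  ∀ (R' : Type u) [CommRing R'] [Algebra R R'] (y : R' ⊗[R] Γ(Y, τ.V))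
    (x : R' ⊗[R] Γ(X, τ.U)),
    (τ.qₐ R).toLinearMap.lTensor R' y = (τ.pₐ R).toLinearMap.lTensor R' x →
    ∃! z : R' ⊗[R] τ.C, (τ.fstₐ R).toLinearMap.lTensor R' z = y ∧
      (τ.sndₐ R).toLinearMap.lTensor R' z = x

variable {X' Y' Z' : Scheme.{u}}
  {pX : X' ⟶ X} {a' : X' ⟶ PT} (hX : IsPullback pX a' a pP)
  {pY : Y' ⟶ Y} {b' : Y' ⟶ PT} (hY : IsPullback pY b' b pP)
  {pZ : Z' ⟶ Z} {i' : Z' ⟶ X'} (hZ : IsPullback pZ i' i pX)
  {j' : Z' ⟶ Y'} (hj1 : j' ≫ pY = pZ ≫ j) (hj2 : i' ≫ a' = j' ≫ b')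

include hPT in
theorem exists_bcChart_of_chart (τ : GoodPair i j) (S₀ : S.Opens) (hS₀ : IsAffineOpen S₀)
    (hτ : Set.range (χ hF hP τ ≫ sP) ⊆ (S₀ : Set S))
    (H : @BaseChangeOK _ _ _ i j τ Γ(S, S₀) _ (φ hF hP sP τ hS₀ hτ).toAlgebra) (p : PT)
    (hpτ : pP p ∈ Set.range (χ hF hP τ)) :
    ∃ κ : BCChart hF hP pP, p ∈ Set.range κ.v := by
  have hgp : g (sPT p) ∈ S₀ := by
    rw [← Scheme.Hom.comp_apply, ← hPT.w, Scheme.Hom.comp_apply]
    obtain ⟨c, hc⟩ := hpτ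
    rw [← hc, ← Scheme.Hom.comp_apply]
    exact hτ ⟨c, rfl⟩
  obtain ⟨_, ⟨T₀, hT₀, rfl⟩, hpT₀, hTS⟩ :=
    T.isBasis_affineOpens.exists_subset_of_mem_open
      (show sPT p ∈ ((g ⁻¹ᵁ S₀ : T.Opens) : Set T) from hgp) (g ⁻¹ᵁ S₀).isOpen
  letI : Algebra Γ(S, S₀) τ.C := (φ hF hP sP τ hS₀ hτ).toAlgebra
  letI : Algebra Γ(S, S₀) Γ(T, T₀) := (ψ g hTS).toAlgebra
  let e : Spec (CommRingCat.of Γ(S, S₀)) ⟶ S := IsAffineOpen.fromSpec hS₀
  let eT : Spec (CommRingCat.of Γ(T, T₀)) ⟶ T := IsAffineOpen.fromSpec hT₀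
  haveI : IsOpenImmersion e := inferInstanceAs (IsOpenImmersion (IsAffineOpen.fromSpec hS₀))
  haveI : IsOpenImmersion eT := inferInstanceAs (IsOpenImmersion (IsAffineOpen.fromSpec hT₀))
  have hφ' : Spec.map (CommRingCat.ofHom (algebraMap Γ(S, S₀) τ.C)) ≫ e = χ hF hP τ ≫ sP :=
    hφ hF hP sP τ hS₀ hτ
  have hψ' : Spec.map (CommRingCat.ofHom (algebraMap Γ(S, S₀) Γ(T, T₀))) ≫ e = eT ≫ g :=
    hψ g hS₀ hT₀ hTS
  refine ⟨BCChart.ofBase hF hP pP τ Γ(S, S₀) Γ(T, T₀) (vT hF hP sP g hPT τ e eT hφ' hψ')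
    (vT_pP hF hP sP g hPT τ e eT hφ' hψ') (H Γ(T, T₀)), ?_⟩
  apply mem_range_vT hF hP sP g hPT τ e eT hφ' hψ' p hpτ
  change sPT p ∈ Set.range (IsAffineOpen.fromSpec hT₀)
  rw [IsAffineOpen.range_fromSpec]
  exact hpT₀

include hPT hX hY hZ hj1 hj2 in
/-- **base change of Ferrand pushouts**, under a base change property for enough charts. -/
theorem isPushout_of_baseChangeOK'
    (H : ∀ p : P, ∃ (τ : GoodPair i j) (S₀ : S.Opens) (hS₀ : IsAffineOpen S₀)
      (hτ : Set.range (χ hF hP τ ≫ sP) ⊆ (S₀ : Set S)), p ∈ Set.range (χ hF hP τ) ∧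
      @BaseChangeOK _ _ _ i j τ Γ(S, S₀) _ (φ hF hP sP τ hS₀ hτ).toAlgebra) :
    IsPushout i' j' a' b' := by
  have key : ∀ p : PT, ∃ κ : BCChart hF hP pP, p ∈ Set.range κ.v := by
    intro p
    obtain ⟨τ, S₀, hS₀, hτ, hpτ, Hτ⟩ := H (pP p)
    exact exists_bcChart_of_chart hF hP sP g hPT τ S₀ hS₀ hτ Hτ p hpτ
  choose κ hκ using key
  exact isPushout_of_bcCharts hX hY hZ hj1 hj2 κ (fun p => ⟨p, hκ p⟩)

include hPT in
theorem exists_bcChart_of_baseChangeOK
    (H : ∀ (τ : GoodPair i j) (S₀ : S.Opens) (hS₀ : IsAffineOpen S₀)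
      (hτ : Set.range (χ hF hP τ ≫ sP) ⊆ (S₀ : Set S)),
      @BaseChangeOK _ _ _ i j τ Γ(S, S₀) _ (φ hF hP sP τ hS₀ hτ).toAlgebra) (p : PT) :
    ∃ κ : BCChart hF hP pP, p ∈ Set.range κ.v := by
  obtain ⟨τ, S₀, hS₀, hpτ, hτ⟩ := exists_small_χ hF hP sP (pP p)
  exact exists_bcChart_of_chart hF hP sP g hPT τ S₀ hS₀ hτ (H τ S₀ hS₀ hτ) p hpτ

include hPT hX hY hZ hj1 hj2 in
/-- **base change of Ferrand pushouts**, under a chartwise base change property. -/
theorem isPushout_of_baseChangeOK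
    (H : ∀ (τ : GoodPair i j) (S₀ : S.Opens) (hS₀ : IsAffineOpen S₀)
      (hτ : Set.range (χ hF hP τ ≫ sP) ⊆ (S₀ : Set S)),
      @BaseChangeOK _ _ _ i j τ Γ(S, S₀) _ (φ hF hP sP τ hS₀ hτ).toAlgebra) :
    IsPushout i' j' a' b' := by
  choose κ hκ using exists_bcChart_of_baseChangeOK hF hP sP g hPT H
  exact isPushout_of_bcCharts hX hY hZ hj1 hj2 κ (fun p => ⟨p, hκ p⟩)

theorem baseChangeOK_of_flat [Flat ((i ≫ a) ≫ sP)] (τ : GoodPair i j) (S₀ : S.Opens)
    (hS₀ : IsAffineOpen S₀) (hτ : Set.range (χ hF hP τ ≫ sP) ⊆ (S₀ : Set S)) :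
    @BaseChangeOK _ _ _ i j τ Γ(S, S₀) _ (φ hF hP sP τ hS₀ hτ).toAlgebra := by
  letI : Algebra Γ(S, S₀) τ.C := (φ hF hP sP τ hS₀ hτ).toAlgebra
  have hflat : Module.Flat Γ(S, S₀) Γ(Z, τ.W) := by
    have e1 : Spec.map (CommRingCat.ofHom
        ((τ.pHom.comp (fpSnd τ.qHom τ.pHom)).comp (φ hF hP sP τ hS₀ hτ))) =
        τ.iSpec ≫ αS τ ≫ Spec.map (CommRingCat.ofHom (φ hF hP sP τ hS₀ hτ)) := by
      rw [← Spec.map_comp, GoodPair.iSpec, ← Spec.map_comp]
      rfl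
    have e2 : Spec.map (CommRingCat.ofHom
        ((τ.pHom.comp (fpSnd τ.qHom τ.pHom)).comp (φ hF hP sP τ hS₀ hτ))) ≫ hS₀.fromSpec =
        τ.hW.fromSpec ≫ (i ≫ a) ≫ sP := by
      rw [e1, Category.assoc, Category.assoc, hφ, ← Category.assoc (αS τ),
        ← fromSpec_a' hF hP, Category.assoc, reassoc_of% τ.iSpec_fromSpec, Category.assoc]
    have h1 : Flat (Spec.map (CommRingCat.ofHom
        ((τ.pHom.comp (fpSnd τ.qHom τ.pHom)).comp (φ hF hP sP τ hS₀ hτ))) ≫ hS₀.fromSpec) := by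
      rw [e2]; infer_instance
    have h2 := MorphismProperty.of_postcomp (W := @Flat)
      (W' := MorphismProperty.monomorphisms Scheme) _ hS₀.fromSpec
      (inferInstanceAs (Mono hS₀.fromSpec)) h1
    rw [Flat.SpecMap_iff] at h2
    exact h2
  intro R' _ _ y x hyx
  exact τ.baseChange_of_flat Γ(S, S₀) R' y x hyx

include hF hP hPT hX hY hZ hj1 hj2 in
/-- **Ferrand pinching commutes with any base change `T ⟶ S` when `Z` is flat over `S`.** -/
theorem isPushout_of_flat_trace [Flat ((i ≫ a) ≫ sP)] : IsPushout i' j' a' b' :=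
  isPushout_of_baseChangeOK hF hP sP g hPT hX hY hZ hj1 hj2
    (baseChangeOK_of_flat hF hP sP)

end main

end Groth.Agent.Lib.Helper79.Ferrand
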