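import Groth.Agent.Lib.Helper79.FerrandBC
import Groth.Agent.Lib.Helper3.AzumayaMilnor
import Mathlib.AlgebraicGeometry.Morphisms.Flat

/-!
# Ferrand pinching commutes with flat base change
-/

set_option autoImplicit false
universe u

open AlgebraicGeometry CategoryTheory Limits TopologicalSpace Opposite TensorProduct

namespace Groth.Agent.Lib.Helper79.Ferrand

open Groth.Agent.Lib.Helper79.FerrandRing

variable {X Y Z : Scheme.{u}} {i : Z ⟶ X} {j : Z ⟶ Y}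

namespace GoodPair

variable (τ : GoodPair i j)

/-- `C → Γ(X,U)` -/
@[reducible] noncomputable def algX : Algebra τ.C Γ(X, τ.U) := (fpSnd τ.qHom τ.pHom).toAlgebra
/-- `C → Γ(Y,V)` -/
@[reducible] noncomputable def algY : Algebra τ.C Γ(Y, τ.V) := (fpFst τ.qHom τ.pHom).toAlgebra
/-- `C → Γ(Z,W)` -/
@[reducible] noncomputable def algZ : Algebra τ.C Γ(Z, τ.W) :=
  (τ.pHom.comp (fpSnd τ.qHom τ.pHom)).toAlgebra
/-- `Γ(X,U) → Γ(Z,W)` -/
@[reducible] noncomputable def algXZ : Algebra Γ(X, τ.U) Γ(Z, τ.W) := τ.pHom.toAlgebra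
/-- `Γ(Y,V) → Γ(Z,W)` -/
@[reducible] noncomputable def algYZ : Algebra Γ(Y, τ.V) Γ(Z, τ.W) := τ.qHom.toAlgebra

attribute [local instance] algX algY algZ algXZ algYZ

theorem towerX : IsScalarTower τ.C Γ(X, τ.U) Γ(Z, τ.W) :=
  IsScalarTower.of_algebraMap_eq (fun _ => rfl)

theorem towerY : IsScalarTower τ.C Γ(Y, τ.V) Γ(Z, τ.W) :=
  IsScalarTower.of_algebraMap_eq (fun c => (fp_comm τ.qHom τ.pHom c).symm)

attribute [local instance] towerX towerY

theorem isFibreSquare [IsClosedImmersion i] :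
    EtMil.IsFibreSquare τ.C Γ(Y, τ.V) Γ(X, τ.U) Γ(Z, τ.W) := by
  refine ⟨τ.pHom_surjective, fun b a' hba => ?_⟩
  refine ⟨fpMk τ.qHom τ.pHom b a' hba, ⟨rfl, rfl⟩, fun c hc => ?_⟩
  exact fp_ext τ.qHom τ.pHom hc.1 hc.2

end GoodPair

section ofTensor

attribute [local instance] GoodPair.algX GoodPair.algY GoodPair.algZ GoodPair.algXZ GoodPair.algYZ
  GoodPair.towerX GoodPair.towerY

variable [IsClosedImmersion i] (hF : Cond i j) {P : Scheme.{u}} {a : X ⟶ P} {b : Y ⟶ P}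
  (hP : IsPushout i j a b) {P' : Scheme.{u}} (h : P' ⟶ P)

/-- the base change chart built from tensor products over the chart ring. -/
noncomputable def BCChart.ofTensor (τ : GoodPair i j) (D : Type u) [CommRing D] [Algebra τ.C D]
    (v : Spec (CommRingCat.of D) ⟶ P') [IsOpenImmersion v]
    (hvh : v ≫ h = Spec.map (CommRingCat.ofHom (algebraMap τ.C D)) ≫ χ hF hP τ)
    (hPB : ∀ (y : Γ(Y, τ.V) ⊗[τ.C] D) (x : Γ(X, τ.U) ⊗[τ.C] D),
      (IsScalarTower.toAlgHom τ.C Γ(Y, τ.V) Γ(Z, τ.W)).toLinearMap.rTensor D y =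
        (IsScalarTower.toAlgHom τ.C Γ(X, τ.U) Γ(Z, τ.W)).toLinearMap.rTensor D x →
      ∃ d : D, (1 : Γ(Y, τ.V)) ⊗ₜ[τ.C] d = y ∧ (1 : Γ(X, τ.U)) ⊗ₜ[τ.C] d = x)
    (hINJ : ∀ d : D, (1 : Γ(Y, τ.V)) ⊗ₜ[τ.C] d = 0 → (1 : Γ(X, τ.U)) ⊗ₜ[τ.C] d = 0 → d = 0) :
    BCChart hF hP h where
  τ := τ
  D := D
  DX := Γ(X, τ.U) ⊗[τ.C] D
  DY := Γ(Y, τ.V) ⊗[τ.C] D
  DZ := Γ(Z, τ.W) ⊗[τ.C] D
  ρ := algebraMap τ.C D
  ρX := Algebra.TensorProduct.includeLeftRingHom
  ρY := Algebra.TensorProduct.includeLeftRingHom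
  ρZ := Algebra.TensorProduct.includeLeftRingHom
  sX := Algebra.TensorProduct.includeRight.toRingHom
  sY := Algebra.TensorProduct.includeRight.toRingHom
  pD := (Algebra.TensorProduct.map (IsScalarTower.toAlgHom τ.C Γ(X, τ.U) Γ(Z, τ.W))
    (AlgHom.id τ.C D)).toRingHom
  qD := (Algebra.TensorProduct.map (IsScalarTower.toAlgHom τ.C Γ(Y, τ.V) Γ(Z, τ.W))
    (AlgHom.id τ.C D)).toRingHom
  poX := CommRingCat.isPushout_tensorProduct τ.C Γ(X, τ.U) D
  poY := CommRingCat.isPushout_tensorProduct τ.C Γ(Y, τ.V) D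
  poZ := by
    have outer := CommRingCat.isPushout_tensorProduct τ.C Γ(Z, τ.W) D
    have left := CommRingCat.isPushout_tensorProduct τ.C Γ(X, τ.U) D
    have e1 : CommRingCat.ofHom (algebraMap τ.C Γ(Z, τ.W)) =
        CommRingCat.ofHom (algebraMap τ.C Γ(X, τ.U)) ≫ CommRingCat.ofHom τ.pHom := rfl
    have e2 : CommRingCat.ofHom (S := Γ(Z, τ.W) ⊗[τ.C] D)
          (Algebra.TensorProduct.includeRight (R := τ.C) (A := Γ(Z, τ.W)) (B := D)).toRingHom =
        CommRingCat.ofHom (S := Γ(X, τ.U) ⊗[τ.C] D)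
          (Algebra.TensorProduct.includeRight (R := τ.C) (A := Γ(X, τ.U)) (B := D)).toRingHom ≫
        CommRingCat.ofHom (Algebra.TensorProduct.map
          (IsScalarTower.toAlgHom τ.C Γ(X, τ.U) Γ(Z, τ.W)) (AlgHom.id τ.C D)).toRingHom := by
      ext d
      simp
    rw [e1, e2] at outer
    refine IsPushout.of_left outer ?_ left
    ext x
    simp
    rfl
  hq := by
    ext y
    simp
    rfl
  hs := by
    ext d
    simp
  hp := by
    have := Algebra.TensorProduct.map_surjective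
      (f := IsScalarTower.toAlgHom τ.C Γ(X, τ.U) Γ(Z, τ.W)) (g := AlgHom.id τ.C D)
      τ.pHom_surjective Function.surjective_id
    exact this
  hPB := by
    intro y x hyx
    apply hPB y x
    exact hyx
  hINJ := hINJ
  v := v
  hv := inferInstance
  hvh := hvh

end ofTensor

section flat

attribute [local instance] GoodPair.algX GoodPair.algY GoodPair.algZ GoodPair.algXZ GoodPair.algYZ
  GoodPair.towerX GoodPair.towerY

variable [IsClosedImmersion i] (hF : Cond i j) {P : Scheme.{u}} {a : X ⟶ P} {b : Y ⟶ P}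
  (hP : IsPushout i j a b) {X' Y' Z' P' : Scheme.{u}} {h : P' ⟶ P} [Flat h]
  {pX : X' ⟶ X} {a' : X' ⟶ P'} (hX : IsPullback pX a' a h)
  {pY : Y' ⟶ Y} {b' : Y' ⟶ P'} (hY : IsPullback pY b' b h)
  {pZ : Z' ⟶ Z} {i' : Z' ⟶ X'} (hZ : IsPullback pZ i' i pX)
  {j' : Z' ⟶ Y'} (hj1 : j' ≫ pY = pZ ≫ j) (hj2 : i' ≫ a' = j' ≫ b')

include hF hP in
theorem exists_bcChart_of_flat (p : P') : ∃ κ : BCChart hF hP h, p ∈ Set.range κ.v := by
  obtain ⟨τ, hτ⟩ := exists_χ hF hP (h p)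
  let O : P'.Opens := h ⁻¹ᵁ (χ hF hP τ).opensRange
  obtain ⟨_, ⟨V, hV, rfl⟩, hpV, hVO⟩ :=
    P'.isBasis_affineOpens.exists_subset_of_mem_open (show p ∈ (O : Set P') from hτ) O.isOpen
  let g : Spec Γ(P', V) ⟶ Spec (CommRingCat.of τ.C) :=
    IsOpenImmersion.lift (χ hF hP τ) (IsAffineOpen.fromSpec hV ≫ h) (by
      rintro _ ⟨x, rfl⟩
      rw [Scheme.Hom.comp_apply]
      exact hVO (fromSpec_mem hV x))
  have hg : g ≫ χ hF hP τ = IsAffineOpen.fromSpec hV ≫ h := IsOpenImmersion.lift_fac _ _ _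
  let ρ : τ.C →+* Γ(P', V) := (Spec.preimage g).hom
  have hρ : Spec.map (CommRingCat.ofHom ρ) = g := Spec.map_preimage g
  letI : Algebra τ.C Γ(P', V) := ρ.toAlgebra
  have hflat : Module.Flat τ.C Γ(P', V) := by
    have h1 : Flat (g ≫ χ hF hP τ) := by rw [hg]; infer_instance
    have h2 : Flat g := MorphismProperty.of_postcomp (W := @Flat)
      (W' := MorphismProperty.monomorphisms Scheme) g (χ hF hP τ)
      (inferInstanceAs (Mono (χ hF hP τ))) h1
    rw [← hρ, Flat.SpecMap_iff] at h2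
    exact h2
  refine ⟨BCChart.ofTensor hF hP h τ Γ(P', V) (IsAffineOpen.fromSpec hV)
    (by rw [← hg, ← hρ]) ?_ ?_, ?_⟩
  · intro y x hyx
    exact Groth.Agent.Lib.Helper3.Az.patch τ.isFibreSquare Γ(P', V) y x hyx
  · intro d h1 h2
    exact Groth.Agent.Lib.Helper3.Az.patch_unique τ.isFibreSquare Γ(P', V) d h1 h2
  · change p ∈ Set.range (IsAffineOpen.fromSpec hV)
    rw [IsAffineOpen.range_fromSpec]
    exact hpV

include hF hP hX hY hZ hj1 hj2 in
/-- **Ferrand pinching commutes with flat base change.** -/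
theorem isPushout_of_flat : IsPushout i' j' a' b' := by
  choose κ hκ using exists_bcChart_of_flat (h := h) hF hP
  exact isPushout_of_bcCharts hX hY hZ hj1 hj2 κ (fun p => ⟨p, hκ p⟩)

end flat

end Groth.Agent.Lib.Helper79.Ferrand
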