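import Groth.Agent.Lib.Helper79.AlgSpFormalLift
import Groth.Agent.Lib.Helper19.FormallyEtaleIff
import Groth.Agent.Lib.Helper57.FOThick
import Groth.Agent.Lib.Helper57.EtLift
import Groth.Agent.Lib.Helper7.FormalLift

/-!
# Representable etale morphisms of sheaves are formally etale; descent of formal properties along
representable etale surjections (helper79)
-/

set_option autoImplicit false
universe u
open CategoryTheory CategoryTheory.Limits AlgebraicGeometry Opposite

namespace Groth.Agent.Lib.Helper79.AlgSpFormalEtale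

open AlgSp Groth.Agent.Lib.Helper79.AlgSpFormalAffine Groth.Agent.Lib.Helper79.AlgSpChart
open Groth.Agent.Lib.Helper79.AlgSpFormalLift
open Groth.Agent.Lib.Helper23.AlgSpMor Groth.Agent.Lib.Helper5

variable {S : Scheme.{u}}

/-- `h_g` is a first order thickening of sheaves when `g.left` is a first order thickening of
schemes (base change of first order thickenings). -/
theorem isFOThickMor_yon_map {U V : Over S} (g : U ⟶ V)
    (h : MoreMor.IsFirstOrderThickening g.left) : IsFOThickMor ((yon S).map g) := by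
  refine ⟨(isThickMor_yon_map_iff g).2 h.1, ?_⟩
  intro V' W' b fst snd _ _ sq
  obtain ⟨b₀, rfl⟩ := (yon S).map_surjective b
  obtain ⟨fst₀, rfl⟩ := (yon S).map_surjective fst
  exact (Groth.Agent.Lib.Helper57.FOThick.baseChange h (isPullback_left_of_yon sq)).2

/-- `Spec (A ⧸ I) ⟶ Spec A` is a first order thickening when `I ^ 2 = 0`. -/
theorem isFirstOrderThickening_specMk {A : Type u} [CommRing A] (I : Ideal A) (hI : I ^ 2 = ⊥) :
    MoreMor.IsFirstOrderThickening (Spec.map (CommRingCat.ofHom (Ideal.Quotient.mk I))) :=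
  ⟨⟨IsClosedImmersion.spec_of_surjective _ Ideal.Quotient.mk_surjective,
    ⟨Groth.Agent.Lib.Helper19.FEG.specMap_mk_surjective I hI⟩⟩,
    Groth.Agent.Lib.Helper19.FEG.ker_specMap_mk_mul I hI⟩

theorem isFirstOrderThickening_j {F G : Sp S} {f : F ⟶ G} (sq : InfSq f) :
    MoreMor.IsFirstOrderThickening sq.j.left :=
  isFirstOrderThickening_specMk sq.I sq.sq_zero

theorem isFOThickMor_j {F G : Sp S} {f : F ⟶ G} (sq : InfSq f) :
    IsFOThickMor ((yon S).map sq.j) :=
  isFOThickMor_yon_map sq.j (isFirstOrderThickening_j sq)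

/-- A representable etale morphism of sheaves is formally etale. -/
theorem formallyEtaleMor_of_repWith_etale {F G : Sp S} {a : F ⟶ G} (ha : RepWith @Etale a) :
    IsFormallyEtaleMor a := by
  intro sq
  obtain ⟨R, fst, snd, pb, het⟩ := exists_pullback @Etale ha sq.bot
  have hfe : MoreMor.IsFormallyEtaleHom snd.left :=
    ((Groth.Agent.Lib.Helper19.FEG.etale_iff snd.left).1 het).2
  obtain ⟨τ, hτ⟩ := (yon S).map_surjective (pb.lift sq.top ((yon S).map sq.j) sq.comm)
  have hτ1 : (yon S).map τ ≫ fst = sq.top := by rw [hτ, pb.lift_fst]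
  have hτ2 : τ ≫ snd = sq.j := by
    apply (yon S).map_injective
    rw [Functor.map_comp, hτ, pb.lift_snd]
  have hτ2' : τ.left ≫ snd.left = Spec.map (CommRingCat.ofHom (Ideal.Quotient.mk sq.I)) :=
    congrArg (fun k => k.left) hτ2
  obtain ⟨l₀, ⟨hl1, hl2⟩, hlu⟩ := hfe sq.A sq.I sq.sq_zero τ.left (𝟙 _) (by
    rw [Category.comp_id, hτ2'])
  let σ : sq.ptT' ⟶ R := Over.homMk l₀ (by
    have := Over.w snd
    dsimp at this ⊢
    rw [← this, ← Category.assoc, hl2, Category.id_comp])
  have hσ1 : sq.j ≫ σ = τ := by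
    apply Over.OverMorphism.ext
    exact hl1
  have hσ2 : σ ≫ snd = 𝟙 _ := by
    apply Over.OverMorphism.ext
    exact hl2
  refine ⟨(yon S).map σ ≫ fst, ⟨?_, ?_⟩, ?_⟩
  · rw [← Category.assoc, ← Functor.map_comp, hσ1, hτ1]
  · rw [Category.assoc, pb.w, ← Category.assoc, ← Functor.map_comp, hσ2,
      CategoryTheory.Functor.map_id, Category.id_comp]
  · rintro l' ⟨h1, h2⟩
    obtain ⟨σ', hσ'⟩ := (yon S).map_surjective
      (pb.lift l' (𝟙 _) (by rw [h2, Category.id_comp]))
    have h3 : (yon S).map σ' ≫ fst = l' := by rw [hσ', pb.lift_fst]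
    have h4 : σ' ≫ snd = 𝟙 _ := by
      apply (yon S).map_injective
      rw [Functor.map_comp, hσ', pb.lift_snd, CategoryTheory.Functor.map_id]
    have h5 : sq.j ≫ σ' = τ := by
      apply (yon S).map_injective
      apply pb.hom_ext
      · rw [Functor.map_comp, Category.assoc, h3, h1, hτ1]
      · rw [← Functor.map_comp, ← Functor.map_comp, Category.assoc, h4, hτ2, Category.comp_id]
    have h6 : σ'.left = l₀ :=
      hlu σ'.left ⟨congrArg (fun k => k.left) h5, congrArg (fun k => k.left) h4⟩
    have h7 : σ' = σ := by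
      apply Over.OverMorphism.ext
      exact h6
    rw [← h3, h7]

/-- Lifting an etale surjective chart along a first order thickening of schemes: for `a : F ⟶ G`
representable etale surjective and a map `top : h_T ⟶ G`, with `j : T ⟶ T'` a first order
thickening, there is an etale surjective `u' : U' ⟶ T'` such that over every scheme `V ⟶ U'` the
pulled back thickening `W ⟶ V` of `j` carries a lift `W ⟶ F` of `top`. -/
theorem exists_cover_data {F G : Sp S} {a : F ⟶ G} (ha : RepWith @Etale a)
    (ha' : RepWith @Surjective a) {T T' : Over S} (j : T ⟶ T')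
    (hj : MoreMor.IsFirstOrderThickening j.left) (top : (yon S).obj T ⟶ G) :
    ∃ (U' : Over S) (u' : U' ⟶ T'), Etale u'.left ∧ Surjective u'.left ∧
      ∀ (V : Over S) (g : V ⟶ U'), ∃ (W : Over S) (s : (yon S).obj W ⟶ F) (r : W ⟶ T) (t : W ⟶ V),
        MoreMor.IsFirstOrderThickening t.left ∧ IsPullback r t j (g ≫ u') ∧
          s ≫ a = (yon S).map r ≫ top := by
  obtain ⟨U, fstU, sndU, pbU, hUe⟩ := exists_pullback @Etale ha top
  have hUs : Surjective sndU.left := ha'.property _ _ _ pbU
  haveI : IsClosedImmersion j.left := hj.1.1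
  haveI : Surjective j.left := hj.1.2
  haveI : Etale sndU.left := hUe
  obtain ⟨U'₀, ι₀, u₀, hu₀e, hthick, pb₀⟩ :=
    Groth.Agent.Lib.Helper57.EtLift.exists_isPullback j.left sndU.left
  let U' : Over S := Over.mk (u₀ ≫ T'.hom)
  let u' : U' ⟶ T' := Over.homMk u₀ rfl
  let ι : U ⟶ U' := Over.homMk ι₀ (by
    have h1 := Over.w j
    have h2 := Over.w sndU
    change ι₀ ≫ u₀ ≫ T'.hom = U.hom
    rw [← Category.assoc, pb₀.w, Category.assoc, h1, h2])
  have hu₀s : Surjective u₀ := by
    have : Surjective (ι₀ ≫ u₀) := by rw [pb₀.w]; infer_instance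
    exact Surjective.of_comp ι₀ u₀
  have hιfo : MoreMor.IsFirstOrderThickening ι₀ :=
    Groth.Agent.Lib.Helper57.FOThick.baseChange hj pb₀.flip
  have pbO : IsPullback sndU ι j u' := by
    refine IsPullback.of_map (Over.forget S) ?_ pb₀.flip
    apply Over.OverMorphism.ext
    exact pb₀.w.symm
  refine ⟨U', u', hu₀e, hu₀s, fun V g => ?_⟩
  have pbW : IsPullback (pullback.fst ι g) (pullback.snd ι g) ι g := IsPullback.of_hasPullback ι g
  refine ⟨pullback ι g, (yon S).map (pullback.fst ι g) ≫ fstU, pullback.fst ι g ≫ sndU,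
    pullback.snd ι g, ?_, pbW.paste_horiz pbO, ?_⟩
  · exact Groth.Agent.Lib.Helper57.FOThick.baseChange hιfo (pbW.map (Over.forget S))
  · rw [Category.assoc, pbU.w, Functor.map_comp, Category.assoc]

/-- If `a` is representable etale surjective and `a ≫ b` is formally unramified, so is `b`. -/
theorem unramified_of_comp_etale_surj {F G H : Sp S} (a : F ⟶ G) (b : G ⟶ H)
    (ha : RepWith @Etale a) (ha' : RepWith @Surjective a)
    (hab : IsFormallyUnramifiedMor (a ≫ b)) : IsFormallyUnramifiedMor b := by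
  intro sq l l' h1 h2 h3 h4
  have has : IsFormallySmoothMor a :=
    Groth.Agent.Lib.Helper37.AlgSpFormal.smooth_of_etale (formallyEtaleMor_of_repWith_etale ha)
  obtain ⟨U', u', hue, hus, hdata⟩ :=
    exists_cover_data ha ha' sq.j (isFirstOrderThickening_j sq) sq.top
  have hepi : Epi ((yon S).map u') :=
    epi_of_etale_surjective _ ((repWith_yon_map_iff @Etale u').2 hue)
      ((repWith_yon_map_iff @Surjective u').2 hus)
  rw [← cancel_epi ((yon S).map u')]
  apply yon_hom_ext_of_affineCover
  intro i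
  set V : Over S := Over.mk (U'.left.affineCover.f i ≫ U'.hom) with hVdef
  set g : V ⟶ U' := Over.homMk (U'.left.affineCover.f i) rfl with hgdef
  have hV : IsAffine V.left := by
    change IsAffine (U'.left.affineCover.X i)
    infer_instance
  obtain ⟨W, s, r, t, htfo, pbt, hs⟩ := hdata V g
  haveI : IsClosedImmersion t.left := htfo.1.1
  have hcomm : ∀ m : (yon S).obj sq.ptT' ⟶ G, (yon S).map sq.j ≫ m = sq.top →
      s ≫ a = (yon S).map t ≫ (yon S).map (g ≫ u') ≫ m := by
    intro m hm
    rw [hs, ← hm, ← Category.assoc, ← Functor.map_comp, pbt.w, Functor.map_comp, Category.assoc]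
  obtain ⟨α, hα1, hα2⟩ := exists_affine has hV t htfo.2 s ((yon S).map (g ≫ u') ≫ l) (hcomm l h1)
  obtain ⟨β, hβ1, hβ2⟩ := exists_affine has hV t htfo.2 s ((yon S).map (g ≫ u') ≫ l') (hcomm l' h3)
  have hαβ : α = β := by
    refine uniq_affine hab hV t htfo.2 α β (hα1.trans hβ1.symm) ?_
    rw [← Category.assoc, ← Category.assoc, hα2, hβ2, Category.assoc, Category.assoc, h2, h4]
  have : (yon S).map (g ≫ u') ≫ l = (yon S).map (g ≫ u') ≫ l' := by
    rw [← hα2, ← hβ2, hαβ]
  rw [Functor.map_comp, Category.assoc, Category.assoc] at this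
  exact this

/-- If `a` is representable etale surjective and `a ≫ b` is formally etale, so is `b`. -/
theorem etale_of_comp_etale_surj {F G H : Sp S} (a : F ⟶ G) (b : G ⟶ H)
    (ha : RepWith @Etale a) (ha' : RepWith @Surjective a)
    (hab : IsFormallyEtaleMor (a ≫ b)) : IsFormallyEtaleMor b := by
  have hbu : IsFormallyUnramifiedMor b := unramified_of_comp_etale_surj a b ha ha'
    (Groth.Agent.Lib.Helper37.AlgSpFormal.unramified_of_etale hab)
  have habs : IsFormallySmoothMor (a ≫ b) :=
    Groth.Agent.Lib.Helper37.AlgSpFormal.smooth_of_etale hab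
  intro sq
  rw [Groth.Agent.Lib.Helper7.FormalLift.uniqLift_iff]
  refine ⟨?_, hbu sq⟩
  obtain ⟨U', u', hue, hus, hdata⟩ :=
    exists_cover_data ha ha' sq.j (isFirstOrderThickening_j sq) sq.top
  refine exists_lift_of_local b ((yon S).map sq.j) sq.top sq.bot hbu (IsAlgSpace.yon_obj _)
    (isFOThickMor_j sq) ((yon S).map u') ((repWith_yon_map_iff @Etale u').2 hue)
    ((repWith_yon_map_iff @Surjective u').2 hus) fun i => ?_
  set V : Over S := Over.mk (U'.left.affineCover.f i ≫ U'.hom) with hVdef
  set g : V ⟶ U' := Over.homMk (U'.left.affineCover.f i) rfl with hgdef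
  have hV : IsAffine V.left := by
    change IsAffine (U'.left.affineCover.X i)
    infer_instance
  obtain ⟨W, s, r, t, htfo, pbt, hs⟩ := hdata V g
  haveI : IsClosedImmersion t.left := htfo.1.1
  obtain ⟨α, hα1, hα2⟩ := exists_affine habs hV t htfo.2 s ((yon S).map (g ≫ u') ≫ sq.bot) (by
    rw [← Category.assoc, hs, Category.assoc, sq.comm, ← Category.assoc, ← Functor.map_comp,
      pbt.w, Functor.map_comp, Category.assoc])
  refine ⟨α ≫ a, ?_⟩
  have pbY : IsPullback ((yon S).map r) ((yon S).map t) ((yon S).map sq.j)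
      ((yon S).map g ≫ (yon S).map u') := by
    rw [← Functor.map_comp]
    exact pbt.map (yon S)
  rw [isSol_iff pbY]
  refine ⟨?_, ?_⟩
  · rw [← Category.assoc, hα1, hs]
  · rw [Category.assoc, hα2, Functor.map_comp]

end Groth.Agent.Lib.Helper79.AlgSpFormalEtale
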