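import Mathlib

/-!
# Gluing sections of a surjection onto a finitely presented module

`exists_section_of_local`: a linear map `q : J → N` onto a finitely presented module has a
section as soon as, locally on `Spec R`, there is `l : L → J` such that `q ∘ l`
becomes bijective after inverting some `f` (stated elementwise).
-/

set_option autoImplicit false

universe u v w

namespace Groth.Agent.Lib.Helper79.LiftGlueMod

open LocalizedModule

variable {R : Type u} [CommRing R] {J : Type v} {N : Type w} [AddCommGroup J] [Module R J]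
  [AddCommGroup N] [Module R N]

/-- Elementwise criterion: `LocalizedModule.map (powers f) l` is bijective. -/
theorem map_bijective_of_forall {L : Type v} [AddCommGroup L] [Module R L] (f : R)
    (l : L →ₗ[R] N)
    (hinj : ∀ x : L, l x = 0 → ∃ k : ℕ, f ^ k • x = 0)
    (hsurj : ∀ n : N, ∃ (k : ℕ) (x : L), l x = f ^ k • n) :
    Function.Bijective (LocalizedModule.map (Submonoid.powers f) l) := by
  constructor
  · rw [← LinearMap.ker_eq_bot, eq_bot_iff]
    intro y hy
    induction y using LocalizedModule.induction_on with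
    | h x s =>
      rw [LinearMap.mem_ker, LocalizedModule.map_mk] at hy
      rw [← LocalizedModule.zero_mk s, LocalizedModule.mk_eq] at hy
      obtain ⟨u, hu⟩ := hy
      rw [smul_zero, smul_zero] at hu
      simp only [Submonoid.smul_def] at hu
      rw [← map_smul, ← map_smul] at hu
      obtain ⟨k, hk⟩ := hinj _ hu
      rw [Submodule.mem_bot, ← LocalizedModule.zero_mk s, LocalizedModule.mk_eq]
      refine ⟨⟨f ^ k, k, rfl⟩ * u * s, ?_⟩
      rw [smul_zero, smul_zero]
      have : ((⟨f ^ k, k, rfl⟩ * u * s : Submonoid.powers f)) • s • x =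
          (s : R) • (f ^ k • ((u : R) • (s : R) • x)) := by
        simp only [Submonoid.smul_def, Submonoid.coe_mul, mul_smul]
        rw [smul_comm (s : R) (f ^ k), smul_comm (s : R) (u : R)]
      rw [this, hk, smul_zero]
  · intro y
    induction y using LocalizedModule.induction_on with
    | h n s =>
      obtain ⟨k, x, hx⟩ := hsurj n
      refine ⟨LocalizedModule.mk x (⟨f ^ k, k, rfl⟩ * s), ?_⟩
      rw [LocalizedModule.map_mk, hx]
      exact LocalizedModule.mk_cancel_common_left (⟨f ^ k, k, rfl⟩ : Submonoid.powers f) s n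

/-- From bijectivity after localization at `powers f` to a lift up to a power of `f`. -/
theorem exists_lift_of_map_bijective [Module.FinitePresentation R N] {L : Type v} [AddCommGroup L]
    [Module R L] (f : R) (l : L →ₗ[R] N)
    (hl : Function.Bijective (LocalizedModule.map (Submonoid.powers f) l)) :
    ∃ (h : N →ₗ[R] L) (k : ℕ), l ∘ₗ h = f ^ k • LinearMap.id := by
  let S := Submonoid.powers f
  let mkL := LocalizedModule.mkLinearMap S L
  let mkN := LocalizedModule.mkLinearMap S N
  let e : LocalizedModule S L ≃ₗ[R] LocalizedModule S N :=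
    (LinearEquiv.ofBijective (LocalizedModule.map S l) hl).restrictScalars R
  obtain ⟨h, s, hs⟩ := Module.FinitePresentation.exists_lift_of_isLocalizedModule S mkL
    (e.symm.toLinearMap ∘ₗ mkN)
  have h1 : mkN ∘ₗ (l ∘ₗ h) = mkN ∘ₗ ((s : R) • LinearMap.id) := by
    ext n
    have h2 : mkL (h n) = s • e.symm (mkN n) := LinearMap.congr_fun hs n
    have h3 : mkN (l (h n)) = e (mkL (h n)) := by
      change LocalizedModule.mk (l (h n)) 1 = LocalizedModule.map S l (LocalizedModule.mk (h n) 1)
      rw [LocalizedModule.map_mk]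
    change mkN (l (h n)) = mkN ((s : R) • n)
    rw [h3, h2, Submonoid.smul_def, map_smul, LinearEquiv.apply_symm_apply, map_smul]
  obtain ⟨t, ht⟩ := Module.Finite.exists_smul_of_comp_eq_of_isLocalizedModule S mkN _ _ h1
  obtain ⟨a, ha⟩ := s.2
  obtain ⟨b, hb⟩ := t.2
  refine ⟨(t : R) • h, b + a, ?_⟩
  ext n
  have := LinearMap.congr_fun ht n
  simp only [LinearMap.smul_apply, LinearMap.comp_apply, LinearMap.id_apply, Submonoid.smul_def,
    map_smul] at this ⊢
  have ha' : f ^ a = (s : R) := ha
  have hb' : f ^ b = (t : R) := hb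
  rw [this, pow_add, mul_smul, ha', hb']

/-- Local-to-global existence of sections onto a finitely presented module. -/
theorem exists_section_of_local [Module.FinitePresentation R N] (q : J →ₗ[R] N)
    (hloc : ∀ 𝔪 : Ideal R, 𝔪.IsMaximal → ∃ (f : R) (_ : f ∉ 𝔪) (L : Type v) (_ : AddCommGroup L)
      (_ : Module R L) (l : L →ₗ[R] J),
        (∀ x : L, q (l x) = 0 → ∃ k : ℕ, f ^ k • x = 0) ∧
        ∀ n : N, ∃ (k : ℕ) (x : L), q (l x) = f ^ k • n) :
    ∃ s : N →ₗ[R] J, q ∘ₗ s = LinearMap.id := by
  let 𝔞 : Ideal R :=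
    { carrier := {r | ∃ h : N →ₗ[R] J, q ∘ₗ h = r • LinearMap.id}
      add_mem' := by
        rintro a b ⟨h, hh⟩ ⟨h', hh'⟩
        exact ⟨h + h', by rw [LinearMap.comp_add, hh, hh', add_smul]⟩
      zero_mem' := ⟨0, by rw [LinearMap.comp_zero, zero_smul]⟩
      smul_mem' := by
        rintro c a ⟨h, hh⟩
        exact ⟨c • h, by rw [LinearMap.comp_smul, hh, smul_eq_mul, mul_smul]⟩ }
  suffices h1 : (1 : R) ∈ 𝔞 by
    obtain ⟨s, hs⟩ := h1
    exact ⟨s, by rw [hs, one_smul]⟩
  rw [← Ideal.eq_top_iff_one]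
  by_contra hne
  obtain ⟨𝔪, h𝔪, hle⟩ := Ideal.exists_le_maximal 𝔞 hne
  obtain ⟨f, hf, L, _, _, l, hinj, hsurj⟩ := hloc 𝔪 h𝔪
  obtain ⟨h, k, hk⟩ := exists_lift_of_map_bijective f (q ∘ₗ l)
    (map_bijective_of_forall f (q ∘ₗ l) hinj hsurj)
  have : f ^ k ∈ 𝔞 := ⟨l ∘ₗ h, by rw [← LinearMap.comp_assoc, hk]⟩
  exact hf (h𝔪.isPrime.mem_of_pow_mem k (hle this))

end Groth.Agent.Lib.Helper79.LiftGlueMod
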