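import Mathlib
import Groth.Agent.Lib.Helper79.LiftGlueMod

/-!
# Gluing retractions of a square-zero thickening of rings

Ring-level core of "local lifts along a first order thickening of an affine scheme glue".
-/

set_option autoImplicit false

universe u

namespace Groth.Agent.Lib.Helper79.LiftGlueAlg

open TensorProduct

section SurjMod

variable {A A₀ : Type*} [CommRing A] [CommRing A₀] [Algebra A A₀]
  (hφ : Function.Surjective (algebraMap A A₀))
  (M : Type*) [AddCommGroup M] [Module A M]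
  (hM : ∀ x : A, algebraMap A A₀ x = 0 → ∀ m : M, x • m = 0)

/-- An `A`-module killed by the kernel of a surjection `A → A₀` is an `A₀`-module. -/
@[reducible] noncomputable def surjModule : Module A₀ M :=
  letI : Module (A ⧸ RingHom.ker (algebraMap A A₀)) M :=
    Module.IsTorsionBySet.module (fun m x => hM x.1 (RingHom.mem_ker.mp x.2) m)
  Module.compHom M ((RingHom.quotientKerEquivOfSurjective hφ).symm :
    A₀ →+* A ⧸ RingHom.ker (algebraMap A A₀))

theorem surjModule_smul (x : A) (m : M) :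
    letI := surjModule hφ M hM
    algebraMap A A₀ x • m = x • m := by
  letI : Module (A ⧸ RingHom.ker (algebraMap A A₀)) M :=
    Module.IsTorsionBySet.module (fun m x => hM x.1 (RingHom.mem_ker.mp x.2) m)
  change ((RingHom.quotientKerEquivOfSurjective hφ).symm (algebraMap A A₀ x)) • m = x • m
  rw [RingHom.quotientKerEquivOfSurjective_symm_apply]
  rfl

theorem surjModule_isScalarTower :
    letI := surjModule hφ M hM
    IsScalarTower A A₀ M := by
  letI := surjModule hφ M hM
  refine IsScalarTower.of_algebraMap_smul fun x m => ?_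
  exact surjModule_smul hφ M hM x m

end SurjMod

section Ker

variable {A A₀ : Type u} [CommRing A] [CommRing A₀] [Algebra A A₀]
  {C : Type u} [AddCommGroup C] [Module A C]

/-- The kernel of `C → A₀ ⊗[A] C` is `I • ⊤`. -/
theorem mem_smul_top_of_tmul_eq_zero (hφ : Function.Surjective (algebraMap A A₀))
    (c : C) (hc : (1 : A₀) ⊗ₜ[A] c = 0) :
    c ∈ (RingHom.ker (algebraMap A A₀)) • (⊤ : Submodule A C) := by
  let I := RingHom.ker (algebraMap A A₀)
  let e : A₀ ≃ₗ[A] A ⧸ I :=
    (Ideal.quotientKerAlgEquivOfSurjective (f := Algebra.ofId A A₀) hφ).symm.toLinearEquiv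
  have he : e 1 = 1 := map_one (Ideal.quotientKerAlgEquivOfSurjective (f := Algebra.ofId A A₀) hφ).symm
  let Φ : A₀ ⊗[A] C ≃ₗ[A] C ⧸ (I • (⊤ : Submodule A C)) :=
    (TensorProduct.congr e (LinearEquiv.refl A C)).trans (TensorProduct.quotTensorEquivQuotSMul C I)
  have h1 : Φ ((1 : A₀) ⊗ₜ[A] c) = Submodule.Quotient.mk c := by
    change TensorProduct.quotTensorEquivQuotSMul C I (e 1 ⊗ₜ[A] c) = _
    rw [he]
    exact TensorProduct.quotTensorEquivQuotSMul_mk_one_tmul I c
  rw [hc, map_zero] at h1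
  exact (Submodule.Quotient.mk_eq_zero _).mp h1.symm

end Ker

section Main

variable {A A₀ C : Type u} [CommRing A] [CommRing A₀] [CommRing C] [Algebra A A₀] [Algebra A C]

/-- A linear retraction compatible with the augmentations is multiplicative. -/
theorem map_mul_of_linear (π : C →ₐ[A] A₀)
    (hJ : ∀ x y : C, π x = 0 → π y = 0 → x * y = 0)
    (ρ : C →ₗ[A] A) (h1 : ρ 1 = 1) (hρ : ∀ c, algebraMap A A₀ (ρ c) = π c) (c c' : C) :
    ρ (c * c') = ρ c * ρ c' := by
  have hα : ∀ a : A, ρ (algebraMap A C a) = a := fun a => by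
    rw [Algebra.algebraMap_eq_smul_one, map_smul, h1, smul_eq_mul, mul_one]
  have hπj : ∀ d : C, π (d - algebraMap A C (ρ d)) = 0 := fun d => by
    rw [map_sub, AlgHom.commutes, hρ, sub_self]
  have hρj : ∀ d : C, ρ (d - algebraMap A C (ρ d)) = 0 := fun d => by
    rw [map_sub, hα, sub_self]
  have key : c * c' = algebraMap A C (ρ c * ρ c') + ρ c • (c' - algebraMap A C (ρ c')) +
      ρ c' • (c - algebraMap A C (ρ c)) +
      (c - algebraMap A C (ρ c)) * (c' - algebraMap A C (ρ c')) := by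
    rw [Algebra.smul_def, Algebra.smul_def, map_mul]
    ring
  rw [key, hJ _ _ (hπj c) (hπj c'), add_zero, map_add, map_add, hα, map_smul, map_smul, hρj,
    hρj, smul_zero, smul_zero, add_zero, add_zero]

/-- Every element of `A₀ ⊗[A] C` is `1 ⊗ c`. -/
theorem one_tmul_surjective (hφ : Function.Surjective (algebraMap A A₀)) (x : A₀ ⊗[A] C) :
    ∃ c : C, (1 : A₀) ⊗ₜ[A] c = x := by
  induction x using TensorProduct.induction_on with
  | zero => exact ⟨0, by rw [tmul_zero]⟩
  | tmul a c =>
    obtain ⟨a, rfl⟩ := hφ a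
    refine ⟨a • c, ?_⟩
    rw [← TensorProduct.smul_tmul, Algebra.smul_def, mul_one]
  | add x y hx hy =>
    obtain ⟨c, rfl⟩ := hx
    obtain ⟨d, rfl⟩ := hy
    exact ⟨c + d, tmul_add _ _ _⟩

/-- `I • ⊤ ≤ α(I)` when `ker π` has square zero. -/
theorem exists_of_mem_smul_top (hφ : Function.Surjective (algebraMap A A₀)) (π : C →ₐ[A] A₀)
    (hJ : ∀ x y : C, π x = 0 → π y = 0 → x * y = 0) (c : C)
    (hc : c ∈ (RingHom.ker (algebraMap A A₀)) • (⊤ : Submodule A C)) :
    ∃ y : A, algebraMap A A₀ y = 0 ∧ algebraMap A C y = c := by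
  refine Submodule.smul_induction_on hc ?_ ?_
  · intro x hx c' _
    obtain ⟨a', ha'⟩ := hφ (π c')
    refine ⟨x * a', by rw [map_mul, RingHom.mem_ker.mp hx, zero_mul], ?_⟩
    have h1 : π (algebraMap A C x) = 0 := by rw [AlgHom.commutes]; exact hx
    have h2 : π (c' - algebraMap A C a') = 0 := by rw [map_sub, AlgHom.commutes, ha', sub_self]
    have h3 := hJ _ _ h1 h2
    rw [Algebra.smul_def, map_mul]
    rw [mul_sub, sub_eq_zero] at h3
    exact h3.symm
  · intro c₁ c₂ h₁ h₂
    obtain ⟨y₁, hy₁, rfl⟩ := h₁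
    obtain ⟨y₂, hy₂, rfl⟩ := h₂
    exact ⟨y₁ + y₂, by rw [map_add, hy₁, hy₂, add_zero], map_add _ _ _⟩

/-- **Gluing retractions.** `π : C → A₀` a surjection of `A`-algebras with square-zero kernel,
`A → A₀` surjective, `A₀ ⊗[A] C` finitely presented over `A₀`; if retractions `C → A_g` compatible
with `π` exist locally on `Spec A`, then a retraction `C → A` compatible with `π` exists. -/
theorem exists_retraction (hφ : Function.Surjective (algebraMap A A₀))
    (π : C →ₐ[A] A₀) (hJ : ∀ x y : C, π x = 0 → π y = 0 → x * y = 0)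
    [Module.FinitePresentation A₀ (A₀ ⊗[A] C)]
    (hloc : ∀ 𝔪 : Ideal A, 𝔪.IsMaximal → ∃ (g : A) (_ : g ∉ 𝔪) (A' : Type u) (_ : CommRing A')
      (_ : Algebra A A') (_ : IsLocalization.Away g A') (ρ : C →ₐ[A] A'),
      ∀ (c : C) (x : A), π c = algebraMap A A₀ x →
        ρ c - algebraMap A A' x ∈ (RingHom.ker (algebraMap A A₀)).map (algebraMap A A')) :
    ∃ ρ : C →ₐ[A] A, ∀ c, algebraMap A A₀ (ρ c) = π c := by
  classical
  have hαI : ∀ x : A, algebraMap A A₀ x = 0 → π (algebraMap A C x) = 0 := fun x hx => by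
    rw [AlgHom.commutes]; exact hx
  let Jm : Submodule A C := LinearMap.ker π.toLinearMap
  have hJm : ∀ x : A, algebraMap A A₀ x = 0 → ∀ m : Jm, x • m = 0 := by
    intro x hx m
    ext
    rw [Submodule.coe_smul, Algebra.smul_def, Submodule.coe_zero]
    exact hJ _ _ (hαI x hx) m.2
  letI modJ : Module A₀ Jm := surjModule hφ Jm hJm
  haveI towJ : IsScalarTower A A₀ Jm := surjModule_isScalarTower hφ Jm hJm
  let κ : C →ₗ[A] A₀ ⊗[A] C := TensorProduct.mk A A₀ C 1
  let π₀ : A₀ ⊗[A] C →ₗ[A₀] A₀ := π.toLinearMap.liftBaseChange A₀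
  have hπ₀κ : ∀ c, π₀ (κ c) = π c := fun c => by
    change π.toLinearMap.liftBaseChange A₀ (1 ⊗ₜ c) = _
    rw [LinearMap.liftBaseChange_one_tmul]; rfl
  let one₀ : A₀ ⊗[A] C := 1 ⊗ₜ 1
  have hπ₀one : π₀ one₀ = 1 := by
    change π.toLinearMap.liftBaseChange A₀ (1 ⊗ₜ 1) = _
    rw [LinearMap.liftBaseChange_one_tmul]; exact map_one π
  let N : Submodule A₀ (A₀ ⊗[A] C) := LinearMap.ker π₀
  let pr : A₀ ⊗[A] C →ₗ[A₀] N :=
    LinearMap.codRestrict N (LinearMap.id - (LinearMap.toSpanSingleton A₀ _ one₀) ∘ₗ π₀) (by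
      intro x
      rw [LinearMap.mem_ker]
      simp only [LinearMap.sub_apply, LinearMap.id_apply, LinearMap.comp_apply,
        LinearMap.toSpanSingleton_apply, map_sub, map_smul, hπ₀one, smul_eq_mul, mul_one,
        sub_self])
  have hpr : ∀ x, (pr x : A₀ ⊗[A] C) = x - π₀ x • one₀ := fun x => rfl
  have hprN : ∀ n : N, pr n = n := by
    intro n
    ext
    rw [hpr, (LinearMap.mem_ker.mp n.2), zero_smul, sub_zero]
  haveI : Module.FinitePresentation A₀ N := by
    refine Module.finitePresentation_of_surjective pr (fun n => ⟨n, hprN n⟩) ?_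
    have : LinearMap.ker pr = Submodule.span A₀ {one₀} := by
      ext x
      rw [LinearMap.mem_ker, Submodule.mem_span_singleton]
      constructor
      · intro hx
        refine ⟨π₀ x, ?_⟩
        have := congrArg Subtype.val hx
        rw [hpr, Submodule.coe_zero, sub_eq_zero] at this
        exact this.symm
      · rintro ⟨a, rfl⟩
        ext
        rw [hpr, map_smul, hπ₀one, smul_eq_mul, mul_one, sub_self]
        rfl
    rw [this]
    exact Submodule.fg_span_singleton _
  have hκJ : ∀ j : Jm, κ j ∈ N := fun j => by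
    rw [LinearMap.mem_ker, hπ₀κ]; exact j.2
  let qA : Jm →ₗ[A] N :=
    { toFun := fun j => ⟨κ j, hκJ j⟩
      map_add' := fun x y => by ext; simp
      map_smul' := fun a x => by ext; simp }
  let q : Jm →ₗ[A₀] N := qA.extendScalarsOfSurjective hφ
  have hq : ∀ j : Jm, (q j : A₀ ⊗[A] C) = κ j := fun j => rfl
  -- the section
  obtain ⟨s, hs⟩ : ∃ s : N →ₗ[A₀] Jm, q ∘ₗ s = LinearMap.id := by
    apply Groth.Agent.Lib.Helper79.LiftGlueMod.exists_section_of_local q
    intro 𝔪₀ h𝔪₀
    have h𝔪 : (𝔪₀.comap (algebraMap A A₀)).IsMaximal :=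
      Ideal.comap_isMaximal_of_surjective _ hφ
    obtain ⟨g, hg, A', _, _, _, ρ, hρ⟩ := hloc _ h𝔪
    refine ⟨algebraMap A A₀ g, fun h => hg (Ideal.mem_comap.mpr h), ?_⟩
    let L : Submodule A₀ Jm :=
      { carrier := {j | ρ (j : C) = 0}
        add_mem' := fun {a b} ha hb => by
          change ρ ((a + b : Jm) : C) = 0
          rw [Submodule.coe_add, map_add, ha, hb, add_zero]
        zero_mem' := by change ρ ((0 : Jm) : C) = 0; rw [Submodule.coe_zero, map_zero]
        smul_mem' := fun c {x} hx => by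
          obtain ⟨a, rfl⟩ := hφ c
          change ρ ((algebraMap A A₀ a • x : Jm) : C) = 0
          rw [algebraMap_smul, Submodule.coe_smul, map_smul, hx, smul_zero] }
    have hpow : ∀ (k : ℕ) (x : L), (((algebraMap A A₀ g) ^ k • x : L) : C) = g ^ k • ((x : Jm) : C) := by
      intro k x
      rw [← map_pow]
      change ((algebraMap A A₀ (g ^ k) • (x : Jm) : Jm) : C) = _
      rw [algebraMap_smul, Submodule.coe_smul]
    refine ⟨L, inferInstance, inferInstance, L.subtype, ?_, ?_⟩
    · intro x hx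
      have h1 : κ ((x : Jm) : C) = 0 := by
        have := congrArg Subtype.val hx
        rwa [hq] at this
      obtain ⟨y, hy0, hy⟩ := exists_of_mem_smul_top hφ π hJ _
        (mem_smul_top_of_tmul_eq_zero hφ _ h1)
      have h2 : algebraMap A A' y = 0 := by
        have : ρ ((x : Jm) : C) = 0 := x.2
        rw [← hy, AlgHom.commutes] at this
        exact this
      obtain ⟨⟨_, k, rfl⟩, hk⟩ := (IsLocalization.map_eq_zero_iff (Submonoid.powers g) A' y).mp h2
      refine ⟨k, ?_⟩
      apply Subtype.ext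
      apply Subtype.ext
      rw [hpow, ← hy, Algebra.smul_def, ← map_mul, hk, map_zero]
      rfl
    · intro n
      obtain ⟨c, hc⟩ := one_tmul_surjective hφ (n : A₀ ⊗[A] C)
      have hπc : π c = 0 := by
        rw [← hπ₀κ]
        change π₀ (1 ⊗ₜ c) = 0
        rw [hc]
        exact n.2
      have h1 := hρ c 0 (by rw [hπc, map_zero])
      rw [map_zero, sub_zero] at h1
      obtain ⟨⟨⟨y, hy⟩, ⟨_, k, rfl⟩⟩, hyk⟩ :=
        (IsLocalization.mem_map_algebraMap_iff (Submonoid.powers g) A').mp h1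
      have hy0 : algebraMap A A₀ y = 0 := hy
      have hxJ : g ^ k • c - algebraMap A C y ∈ Jm := by
        change π _ = 0
        rw [map_sub, map_smul, hπc, smul_zero, hαI y hy0, sub_zero]
      have hxL : (⟨_, hxJ⟩ : Jm) ∈ L := by
        change ρ (g ^ k • c - algebraMap A C y) = 0
        rw [map_sub, map_smul, AlgHom.commutes, Algebra.smul_def, mul_comm, sub_eq_zero]
        exact hyk
      refine ⟨k, ⟨⟨_, hxJ⟩, hxL⟩, ?_⟩
      apply Subtype.ext
      change κ (g ^ k • c - algebraMap A C y) = ((algebraMap A A₀ g) ^ k • n : N)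
      rw [map_sub, map_smul, Submodule.coe_smul, ← hc, ← map_pow, algebraMap_smul]
      have : κ (algebraMap A C y) = 0 := by
        change (1 : A₀) ⊗ₜ[A] (algebraMap A C y) = 0
        rw [Algebra.algebraMap_eq_smul_one, ← TensorProduct.smul_tmul, Algebra.smul_def, hy0,
          zero_mul, zero_tmul]
      rw [this, sub_zero]
      rfl
  -- injectivity of `A → C`
  have hinj : Function.Injective (Algebra.linearMap A C) := by
    rw [← LinearMap.ker_eq_bot, eq_bot_iff]
    intro a ha
    rw [LinearMap.mem_ker, Algebra.linearMap_apply] at ha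
    rw [Submodule.mem_bot]
    let Ann : Ideal A := LinearMap.ker (LinearMap.toSpanSingleton A A a)
    suffices h1 : Ann = ⊤ by
      have : (1 : A) ∈ Ann := h1 ▸ Submodule.mem_top
      rw [LinearMap.mem_ker, LinearMap.toSpanSingleton_apply, one_smul] at this
      exact this
    by_contra hne
    obtain ⟨𝔪, h𝔪, hle⟩ := Ideal.exists_le_maximal Ann hne
    obtain ⟨g, hg, A', _, _, _, ρ, -⟩ := hloc 𝔪 h𝔪
    have h2 : algebraMap A A' a = 0 := by
      rw [← AlgHom.commutes ρ, ha, map_zero]
    obtain ⟨⟨_, k, rfl⟩, hk⟩ := (IsLocalization.map_eq_zero_iff (Submonoid.powers g) A' a).mp h2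
    have : g ^ k ∈ Ann := by
      rw [LinearMap.mem_ker, LinearMap.toSpanSingleton_apply, smul_eq_mul]
      exact hk
    exact hg (h𝔪.isPrime.mem_of_pow_mem k (hle this))
  -- the retraction
  let ε : C →ₗ[A] C := LinearMap.id -
    Jm.subtype ∘ₗ (s.restrictScalars A) ∘ₗ (pr.restrictScalars A) ∘ₗ κ
  have hεdef : ∀ c, ε c = c - ((s (pr (κ c)) : Jm) : C) := fun c => rfl
  have hκs : ∀ n : N, κ ((s n : Jm) : C) = n := by
    intro n
    have := LinearMap.congr_fun hs n
    rw [← hq]
    exact congrArg Subtype.val this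
  have hκα : ∀ a : A, κ (algebraMap A C a) = algebraMap A A₀ a • one₀ := by
    intro a
    change (1 : A₀) ⊗ₜ[A] (algebraMap A C a) = algebraMap A A₀ a • ((1 : A₀) ⊗ₜ[A] (1 : C))
    rw [Algebra.algebraMap_eq_smul_one, ← TensorProduct.smul_tmul, TensorProduct.smul_tmul',
      Algebra.smul_def, smul_eq_mul]
  have hε : ∀ c, ε c ∈ LinearMap.range (Algebra.linearMap A C) := by
    intro c
    obtain ⟨a, ha⟩ := hφ (π c)
    have h1 : κ (ε c - algebraMap A C a) = 0 := by
      rw [map_sub, hεdef, map_sub, hκs, hpr, hκα, hπ₀κ, ha]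
      abel
    obtain ⟨y, -, hy⟩ := exists_of_mem_smul_top hφ π hJ _
      (mem_smul_top_of_tmul_eq_zero hφ _ h1)
    refine ⟨y + a, ?_⟩
    rw [Algebra.linearMap_apply, map_add, hy]
    abel
  let ρlin : C →ₗ[A] A :=
    (LinearEquiv.ofInjective (Algebra.linearMap A C) hinj).symm.toLinearMap ∘ₗ
      (ε.codRestrict _ hε)
  have hρlin : ∀ c, algebraMap A C (ρlin c) = ε c := by
    intro c
    have := LinearEquiv.ofInjective_symm_apply (f := Algebra.linearMap A C) (h := hinj)
      (ε.codRestrict _ hε c)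
    exact this
  have hρ1 : ρlin 1 = 1 := by
    apply hinj
    rw [Algebra.linearMap_apply, Algebra.linearMap_apply, hρlin, hεdef, (algebraMap A C).map_one]
    have : pr (κ 1) = 0 := by
      ext
      rw [hpr, hπ₀κ, map_one π, one_smul]
      exact sub_self _
    rw [this, map_zero, Submodule.coe_zero, sub_zero]
  have hρπ : ∀ c, algebraMap A A₀ (ρlin c) = π c := by
    intro c
    rw [← AlgHom.commutes π, hρlin, hεdef, map_sub]
    have : π ((s (pr (κ c)) : Jm) : C) = 0 := (s (pr (κ c))).2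
    rw [this, sub_zero]
  exact ⟨AlgHom.ofLinearMap ρlin hρ1 (map_mul_of_linear π hJ ρlin hρ1 hρπ), hρπ⟩

end Main

end Groth.Agent.Lib.Helper79.LiftGlueAlg
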