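import Mathlib
import Groth.Prelude.Def_Omega3
import Groth.Agent.Lib.Helper57.UnivThick
import Groth.Agent.Lib.Helper79.LiftGlueAlg

/-!
# Finite presentation of universal first order thickenings of sections (ring level)
-/

set_option autoImplicit false

universe u

namespace Groth.Agent.Lib.Helper79.LiftGlueFP

open TensorProduct

/-- A retract of a finitely presented module is finitely presented. -/
theorem fp_of_retract {R : Type*} [CommRing R] {M F : Type*} [AddCommGroup M] [Module R M]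
    [AddCommGroup F] [Module R F] [Module.FinitePresentation R F]
    (χ : M →ₗ[R] F) (ψ : F →ₗ[R] M) (h : ψ ∘ₗ χ = LinearMap.id) :
    Module.FinitePresentation R M := by
  have hsurj : Function.Surjective ψ := fun m => ⟨χ m, LinearMap.congr_fun h m⟩
  refine Module.finitePresentation_of_surjective ψ hsurj ?_
  have : LinearMap.ker ψ = LinearMap.range (LinearMap.id - χ ∘ₗ ψ) := by
    ext x
    rw [LinearMap.mem_ker, LinearMap.mem_range]
    constructor
    · intro hx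
      exact ⟨x, by simp [hx]⟩
    · rintro ⟨y, rfl⟩
      have := LinearMap.congr_fun h (ψ y)
      simp only [LinearMap.comp_apply, LinearMap.id_apply] at this
      simp [this]
  rw [this, LinearMap.range_eq_map]
  exact Module.Finite.fg_top.map _

section Univ

variable {A' B' A'₀ C' : Type u} [CommRing A'] [CommRing B'] [CommRing A'₀] [CommRing C']
  [Algebra A' B'] [Algebra A' A'₀] [Algebra B' A'₀] [IsScalarTower A' B' A'₀]
  [Algebra A' C'] [Algebra B' C'] [IsScalarTower A' B' C']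

/-- The augmentation `A'₀ ⊗[A'] B' → A'₀`. -/
noncomputable def aug : A'₀ ⊗[A'] B' →ₐ[A'₀] A'₀ :=
  Algebra.TensorProduct.lift (AlgHom.id A'₀ A'₀) (IsScalarTower.toAlgHom A' B' A'₀)
    (fun _ _ => Commute.all _ _)

theorem aug_tmul (a : A'₀) (b : B') : aug (A' := A') (a ⊗ₜ[A'] b) = a * algebraMap B' A'₀ b := by
  simp [aug]

theorem aug_surjective : Function.Surjective (aug (A' := A') (B' := B') (A'₀ := A'₀)) := fun a =>
  ⟨a ⊗ₜ 1, by rw [aug_tmul, map_one, mul_one]⟩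

/-- The augmentation `A'₀ ⊗[A'] C' → A'₀` induced by `π'`. -/
noncomputable def augC (π' : C' →ₐ[B'] A'₀) : A'₀ ⊗[A'] C' →ₐ[A'₀] A'₀ :=
  Algebra.TensorProduct.lift (AlgHom.id A'₀ A'₀) (π'.restrictScalars A')
    (fun _ _ => Commute.all _ _)

theorem augC_tmul (π' : C' →ₐ[B'] A'₀) (a : A'₀) (c : C') :
    augC (A' := A') π' (a ⊗ₜ[A'] c) = a * π' c := by
  simp [augC]

open Groth.Agent.Lib.Helper57.UnivThick in
/-- If `C'` is the universal first order thickening of `A'₀` over the finitely presented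
`A'`-algebra `B'` and `A' → A'₀` is surjective, then `A'₀ ⊗[A'] C'` is a finitely presented
`A'₀`-module. -/
theorem fp_tensor_of_univ [Algebra.FinitePresentation A' B']
    (hφ' : Function.Surjective (algebraMap A' A'₀))
    (π' : C' →ₐ[B'] A'₀) (hu : OmegaSh.IsUnivThickeningRing B' A'₀ C' π') :
    Module.FinitePresentation A'₀ (A'₀ ⊗[A'] C') := by
  classical
  let K₀ : Ideal (A'₀ ⊗[A'] B') := RingHom.ker (aug (A' := A') (B' := B') (A'₀ := A'₀))
  have hK₀fg : K₀.FG := Algebra.FinitePresentation.ker_fG_of_surjective aug aug_surjective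
  have hK₀le : K₀ ^ 2 ≤ K₀ := Ideal.pow_le_self two_ne_zero
  let ρE : (A'₀ ⊗[A'] B') ⧸ K₀ ^ 2 →ₐ[A'₀] A'₀ :=
    Ideal.Quotient.liftₐ (K₀ ^ 2) aug (fun x hx => hK₀le hx)
  have hρEmk : ∀ x : A'₀ ⊗[A'] B', ρE (Ideal.Quotient.mk _ x) = aug x := fun x => rfl
  have hρEsurj : Function.Surjective ρE := fun a =>
    ⟨Ideal.Quotient.mk _ (a ⊗ₜ 1), by rw [hρEmk, aug_tmul, map_one, mul_one]⟩
  have hρEsq : ∀ x y : (A'₀ ⊗[A'] B') ⧸ K₀ ^ 2, ρE x = 0 → ρE y = 0 → x * y = 0 := by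
    intro x y hx hy
    obtain ⟨x, rfl⟩ := Ideal.Quotient.mk_surjective x
    obtain ⟨y, rfl⟩ := Ideal.Quotient.mk_surjective y
    rw [← map_mul, Ideal.Quotient.eq_zero_iff_mem, pow_two]
    exact Ideal.mul_mem_mul hx hy
  haveI : Algebra.FinitePresentation A'₀ ((A'₀ ⊗[A'] B') ⧸ K₀ ^ 2) :=
    Algebra.FinitePresentation.quotient (hK₀fg.pow (n := 2))
  haveI : Module.Finite A'₀ ((A'₀ ⊗[A'] B') ⧸ K₀ ^ 2) := by
    refine Module.finite_of_surjective_of_ker_le_nilradical ρE hρEsurj ?_ ?_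
    · intro x hx
      exact ⟨2, (pow_two x).trans (hρEsq x x hx hx)⟩
    · have : RingHom.ker ρE = K₀.map (Ideal.Quotient.mk (K₀ ^ 2)) := by
        apply le_antisymm
        · intro x hx
          obtain ⟨x, rfl⟩ := Ideal.Quotient.mk_surjective x
          exact Ideal.mem_map_of_mem _ hx
        · rw [Ideal.map_le_iff_le_comap]
          intro x hx
          exact hx
      rw [this]
      exact hK₀fg.map _
  haveI : Module.FinitePresentation A'₀ ((A'₀ ⊗[A'] B') ⧸ K₀ ^ 2) :=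
    Module.FinitePresentation.of_finite_of_finitePresentation _ _
  -- the `B'`-algebra structures through the right factors
  letI algE : Algebra B' ((A'₀ ⊗[A'] B') ⧸ K₀ ^ 2) :=
    ((Ideal.Quotient.mk (K₀ ^ 2)).comp
      (Algebra.TensorProduct.includeRight (R := A') (A := A'₀) (B := B')).toRingHom).toAlgebra
  letI algT : Algebra B' (A'₀ ⊗[A'] C') :=
    ((Algebra.TensorProduct.includeRight (R := A') (A := A'₀) (B := C')).toRingHom.comp
      (algebraMap B' C')).toAlgebra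
  have halgE : ∀ b : B', algebraMap B' ((A'₀ ⊗[A'] B') ⧸ K₀ ^ 2) b =
      Ideal.Quotient.mk (K₀ ^ 2) ((1 : A'₀) ⊗ₜ[A'] b) := fun b => rfl
  have halgT : ∀ b : B', algebraMap B' (A'₀ ⊗[A'] C') b = (1 : A'₀) ⊗ₜ[A'] (algebraMap B' C' b) :=
    fun b => rfl
  let ρE' : (A'₀ ⊗[A'] B') ⧸ K₀ ^ 2 →ₐ[B'] A'₀ :=
    { ρE.toRingHom with
      commutes' := fun b => by
        change ρE (Ideal.Quotient.mk (K₀ ^ 2) ((1 : A'₀) ⊗ₜ[A'] b)) = _
        rw [hρEmk, aug_tmul, one_mul] }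
  obtain ⟨χ, hχ, -⟩ := sectionForm hu _ ρE' hρEsurj hρEsq
  have hχ' : ∀ c : C', ρE (χ c) = π' c := fun c => AlgHom.congr_fun hχ c
  -- the augmentation of `A'₀ ⊗ C'`
  let πT : A'₀ ⊗[A'] C' →ₐ[B'] A'₀ :=
    { (augC (A' := A') π').toRingHom with
      commutes' := fun b => by
        change augC (A' := A') π' ((1 : A'₀) ⊗ₜ[A'] (algebraMap B' C' b)) = _
        rw [augC_tmul, one_mul, AlgHom.commutes] }
  have hπT : ∀ x, πT x = augC (A' := A') π' x := fun x => rfl
  have hπTsurj : Function.Surjective πT := fun a =>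
    ⟨a ⊗ₜ 1, by rw [hπT, augC_tmul, map_one, mul_one]⟩
  have hπTsq : ∀ x y : A'₀ ⊗[A'] C', πT x = 0 → πT y = 0 → x * y = 0 := by
    intro x y hx hy
    obtain ⟨c, rfl⟩ := Groth.Agent.Lib.Helper79.LiftGlueAlg.one_tmul_surjective hφ' x
    obtain ⟨d, rfl⟩ := Groth.Agent.Lib.Helper79.LiftGlueAlg.one_tmul_surjective hφ' y
    rw [hπT, augC_tmul, one_mul] at hx hy
    rw [Algebra.TensorProduct.tmul_mul_tmul, mul_one, mul_eq_zero hu hx hy, tmul_zero]
  obtain ⟨f, -, hfu⟩ := sectionForm hu _ πT hπTsurj hπTsq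
  -- the map `E₀ → A'₀ ⊗ C'`
  let m : A'₀ ⊗[A'] B' →ₐ[A'₀] A'₀ ⊗[A'] C' :=
    Algebra.TensorProduct.map (AlgHom.id A'₀ A'₀) (IsScalarTower.toAlgHom A' B' C')
  have hm : ∀ (a : A'₀) (b : B'), m (a ⊗ₜ b) = a ⊗ₜ (algebraMap B' C' b) := fun a b => by
    simp [m]
  have haugm : ∀ x, augC (A' := A') π' (m x) = aug x := by
    intro x
    induction x using TensorProduct.induction_on with
    | zero => simp
    | tmul a b => rw [hm, augC_tmul, aug_tmul, AlgHom.commutes]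
    | add x y hx hy => rw [map_add, map_add, map_add, hx, hy]
  have hmK : ∀ x ∈ K₀ ^ 2, m x = 0 := by
    have : K₀ ^ 2 ≤ RingHom.ker m.toRingHom := by
      rw [pow_two, Ideal.mul_le]
      intro a ha b hb
      rw [RingHom.mem_ker, map_mul]
      apply hπTsq
      · rw [hπT]; exact (haugm a).trans ha
      · rw [hπT]; exact (haugm b).trans hb
    exact fun x hx => this hx
  let ψ : (A'₀ ⊗[A'] B') ⧸ K₀ ^ 2 →ₐ[A'₀] A'₀ ⊗[A'] C' := Ideal.Quotient.liftₐ (K₀ ^ 2) m hmK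
  have hψmk : ∀ x, ψ (Ideal.Quotient.mk _ x) = m x := fun x => rfl
  let ψ' : (A'₀ ⊗[A'] B') ⧸ K₀ ^ 2 →ₐ[B'] A'₀ ⊗[A'] C' :=
    { ψ.toRingHom with
      commutes' := fun b => by
        change ψ (Ideal.Quotient.mk (K₀ ^ 2) ((1 : A'₀) ⊗ₜ[A'] b)) = _
        rw [hψmk, hm]
        rfl }
  have hψ' : ∀ x, ψ' x = ψ x := fun x => rfl
  have hπTψ : ∀ x, πT (ψ x) = ρE x := by
    intro x
    obtain ⟨x, rfl⟩ := Ideal.Quotient.mk_surjective x
    rw [hψmk, hπT, haugm, hρEmk]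
  -- uniqueness: `ψ ∘ χ = includeRight`
  let incl : C' →ₐ[B'] A'₀ ⊗[A'] C' :=
    { (Algebra.TensorProduct.includeRight (R := A') (A := A'₀) (B := C')).toRingHom with
      commutes' := fun b => rfl }
  have hincl : ∀ c, incl c = (1 : A'₀) ⊗ₜ[A'] c := fun c => rfl
  have h1 : incl = f := hfu incl (by
    ext c
    change πT (incl c) = π' c
    rw [hincl, hπT, augC_tmul, one_mul])
  have h2 : ψ'.comp χ = f := hfu _ (by
    ext c
    change πT (ψ (χ c)) = π' c
    rw [hπTψ, hχ'])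
  have hψχ : ∀ c : C', ψ (χ c) = (1 : A'₀) ⊗ₜ[A'] c := by
    intro c
    have := AlgHom.congr_fun (h2.trans h1.symm) c
    exact this
  -- `χ` is `A'`-linear
  let χlin : C' →ₗ[A'] (A'₀ ⊗[A'] B') ⧸ K₀ ^ 2 :=
    { toFun := χ
      map_add' := map_add χ
      map_smul' := fun a c => by
        rw [RingHom.id_apply, Algebra.smul_def, IsScalarTower.algebraMap_apply A' B' C', map_mul,
          AlgHom.commutes, halgE, Algebra.smul_def]
        congr 1
        rw [IsScalarTower.algebraMap_apply A' (A'₀ ⊗[A'] B') ((A'₀ ⊗[A'] B') ⧸ K₀ ^ 2)]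
        congr 1
        rw [Algebra.algebraMap_eq_smul_one a, Algebra.algebraMap_eq_smul_one a,
          TensorProduct.tmul_smul]
        rfl }
  let χ₀ : A'₀ ⊗[A'] C' →ₗ[A'₀] (A'₀ ⊗[A'] B') ⧸ K₀ ^ 2 := χlin.liftBaseChange A'₀
  refine fp_of_retract χ₀ ψ.toLinearMap ?_
  apply TensorProduct.AlgebraTensorModule.ext
  intro a c
  change ψ (χlin.liftBaseChange A'₀ (a ⊗ₜ c)) = a ⊗ₜ c
  rw [LinearMap.liftBaseChange_tmul, map_smul]
  change a • ψ (χ c) = _
  rw [hψχ, TensorProduct.smul_tmul', smul_eq_mul, mul_one]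

end Univ

end Groth.Agent.Lib.Helper79.LiftGlueFP
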