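import Mathlib
import Groth.Agent.Lib.Helper79.LiftGlueFP

/-!
# Localisation bookkeeping for the finite presentation of `A₀ ⊗[A] C`
-/

set_option autoImplicit false

universe u

namespace Groth.Agent.Lib.Helper79.LiftGlueLoc

open TensorProduct

section

variable {A A₀ C : Type u} [CommRing A] [CommRing A₀] [CommRing C] [Algebra A A₀] [Algebra A C]

/-- Finite presentation of `A₀ ⊗[A] C` is local on `Spec A₀`. -/
theorem fp_of_local
    (hloc : ∀ 𝔪₀ : Ideal A₀, 𝔪₀.IsMaximal → ∃ r ∉ 𝔪₀,
      Module.FinitePresentation (Localization.Away r) (Localization.Away r ⊗[A] C)) :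
    Module.FinitePresentation A₀ (A₀ ⊗[A] C) := by
  let s : Set A₀ :=
    {r | Module.FinitePresentation (Localization.Away r) (Localization.Away r ⊗[A] C)}
  have hs : Ideal.span s = ⊤ := by
    by_contra hne
    obtain ⟨𝔪₀, h𝔪₀, hle⟩ := Ideal.exists_le_maximal _ hne
    obtain ⟨r, hr, hfp⟩ := hloc 𝔪₀ h𝔪₀
    exact hr (hle (Ideal.subset_span hfp))
  exact Module.FinitePresentation.of_localizationSpan' s hs
    (Rₚ := fun g => Localization.Away g.1) (Mₚ := fun g => Localization.Away g.1 ⊗[A] C)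
    (fun g => AlgebraTensorModule.rTensor A C (Algebra.linearMap A₀ (Localization.Away g.1)))
    (fun g => g.2)

/-- Transfer of finite presentation to the canonical localisation. -/
theorem fp_localizationAway_of_fp (r : A₀) (A'₀ : Type u) [CommRing A'₀] [Algebra A₀ A'₀]
    [IsLocalization.Away r A'₀] [Algebra A A'₀] [IsScalarTower A A₀ A'₀]
    [Module.FinitePresentation A'₀ (A'₀ ⊗[A] C)] :
    Module.FinitePresentation (Localization.Away r) (Localization.Away r ⊗[A] C) := by
  let e : A'₀ ≃ₐ[A₀] Localization.Away r :=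
    IsLocalization.algEquiv (Submonoid.powers r) A'₀ (Localization.Away r)
  letI : Algebra A'₀ (Localization.Away r) := e.toAlgHom.toRingHom.toAlgebra
  haveI : IsScalarTower A A'₀ (Localization.Away r) := by
    refine IsScalarTower.of_algebraMap_eq fun a => ?_
    change algebraMap A (Localization.Away r) a = e (algebraMap A A'₀ a)
    rw [IsScalarTower.algebraMap_apply A A₀ A'₀, AlgEquiv.commutes,
      IsScalarTower.algebraMap_apply A A₀ (Localization.Away r)]
  exact Module.FinitePresentation.of_equiv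
    (AlgebraTensorModule.cancelBaseChange A A'₀ (Localization.Away r) (Localization.Away r) C)

/-- Finite presentation of `A'₀ ⊗[A] C` from that of `A'₀ ⊗[A'] C'`, for localisations `A'` of `A`
and `C'` of `C`. -/
theorem fp_tensor_of_localization (g : A) (A' A'₀ C' : Type u) [CommRing A'] [CommRing A'₀]
    [CommRing C'] [Algebra A A'] [IsLocalization.Away g A'] [Algebra A C'] [Algebra A' C']
    [IsScalarTower A A' C'] [Algebra C C'] [IsScalarTower A C C']
    [IsLocalization.Away (algebraMap A C g) C']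
    [Algebra A' A'₀] [Algebra A A'₀] [IsScalarTower A A' A'₀]
    [Module.FinitePresentation A'₀ (A'₀ ⊗[A'] C')] :
    Module.FinitePresentation A'₀ (A'₀ ⊗[A] C) := by
  haveI : IsLocalizedModule (Submonoid.powers g) (IsScalarTower.toAlgHom A C C').toLinearMap := by
    rw [isLocalizedModule_iff_isLocalization, Algebra.algebraMapSubmonoid_powers]
    infer_instance
  have hbc : IsBaseChange A' (IsScalarTower.toAlgHom A C C').toLinearMap :=
    IsLocalizedModule.isBaseChange (Submonoid.powers g) A' _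
  let e₁ : A' ⊗[A] C ≃ₗ[A'] C' := hbc.equiv
  let e₂ : A'₀ ⊗[A'] (A' ⊗[A] C) ≃ₗ[A'₀] A'₀ ⊗[A'] C' :=
    AlgebraTensorModule.congr (LinearEquiv.refl A'₀ A'₀) e₁
  let e₃ : A'₀ ⊗[A'] (A' ⊗[A] C) ≃ₗ[A'₀] A'₀ ⊗[A] C :=
    AlgebraTensorModule.cancelBaseChange A A' A'₀ A'₀ C
  exact Module.FinitePresentation.of_equiv (e₂.symm.trans e₃)

end

section Hom

variable {B' C' A'₀ : Type u} [CommRing B'] [CommRing C'] [CommRing A'₀]

/-- Ring-homomorphism form of `OmegaSh.IsUnivThickeningRing` (no algebra instances). -/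
def IsUnivThickHom (ψ : B' →+* C') (π' : C' →+* A'₀) : Prop :=
  Function.Surjective π' ∧ (∀ x y, π' x = 0 → π' y = 0 → x * y = 0) ∧
  ∀ (E : Type u) [CommRing E] (L : Ideal E), L ^ 2 = ⊥ → ∀ (b : B' →+* E) (a : A'₀ →+* E ⧸ L),
    a.comp (π'.comp ψ) = (Ideal.Quotient.mk L).comp b →
    ∃! γ : C' →+* E, γ.comp ψ = b ∧ (Ideal.Quotient.mk L).comp γ = a.comp π'

theorem isUnivThickeningRing_of_hom (ψ : B' →+* C') (π' : C' →+* A'₀)
    (h : IsUnivThickHom ψ π') :
    letI := ψ.toAlgebra
    letI := (π'.comp ψ).toAlgebra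
    OmegaSh.IsUnivThickeningRing B' A'₀ C' ⟨π', fun _ => rfl⟩ := by
  letI := ψ.toAlgebra
  letI := (π'.comp ψ).toAlgebra
  obtain ⟨hsurj, hsq, huniv⟩ := h
  refine ⟨hsurj, ?_, ?_⟩
  · rw [eq_bot_iff, pow_two, Ideal.mul_le]
    intro x hx y hy
    rw [Ideal.mem_bot]
    exact hsq x y hx hy
  · intro E _ _ L hL a
    obtain ⟨γ, ⟨hγ1, hγ2⟩, hγu⟩ := huniv E L hL (algebraMap B' E) a.toRingHom (by
      ext x
      change a (algebraMap B' A'₀ x) = Ideal.Quotient.mk L (algebraMap B' E x)
      rw [AlgHom.commutes]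
      rfl)
    refine ⟨{ γ with commutes' := fun x => RingHom.congr_fun hγ1 x }, ?_, ?_⟩
    · ext c
      exact RingHom.congr_fun hγ2 c
    · intro a'' ha''
      have : a''.toRingHom = γ := hγu _ ⟨by
        ext x
        exact a''.commutes x, by
        ext c
        exact AlgHom.congr_fun ha'' c⟩
      ext c
      exact RingHom.congr_fun this c

end Hom

section Chart

variable {A A₀ C : Type u} [CommRing A] [CommRing A₀] [CommRing C] [Algebra A A₀] [Algebra A C]

/-- The local finite presentation statement from a chart. -/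
theorem fp_local_of_chart (g : A)
    {A' A'₀ C' B' : Type u} [CommRing A'] [CommRing A'₀] [CommRing C'] [CommRing B']
    (lA : A →+* A') (lA₀ : A₀ →+* A'₀) (lC : C →+* C') (φ' : A' →+* A'₀) (ξ : A' →+* B')
    (ψ : B' →+* C') (π' : C' →+* A'₀)
    (hlA : @IsLocalization.Away A _ g A' _ lA.toAlgebra)
    (hlA₀ : @IsLocalization.Away A₀ _ (algebraMap A A₀ g) A'₀ _ lA₀.toAlgebra)
    (hlC : @IsLocalization.Away C _ (algebraMap A C g) C' _ lC.toAlgebra)
    (e1 : φ'.comp lA = lA₀.comp (algebraMap A A₀))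
    (e2 : (ψ.comp ξ).comp lA = lC.comp (algebraMap A C))
    (e4 : (π'.comp ψ).comp ξ = φ')
    (hξ : ξ.FinitePresentation) (hφ' : Function.Surjective φ')
    (hu : IsUnivThickHom ψ π') :
    Module.FinitePresentation (Localization.Away (algebraMap A A₀ g))
      (Localization.Away (algebraMap A A₀ g) ⊗[A] C) := by
  letI aA' : Algebra A A' := lA.toAlgebra
  letI aA₀' : Algebra A₀ A'₀ := lA₀.toAlgebra
  letI aC' : Algebra C C' := lC.toAlgebra
  letI : Algebra A' A'₀ := φ'.toAlgebra
  letI : Algebra A' B' := ξ.toAlgebra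
  letI : Algebra B' C' := ψ.toAlgebra
  letI : Algebra B' A'₀ := (π'.comp ψ).toAlgebra
  letI : Algebra A' C' := (ψ.comp ξ).toAlgebra
  letI : Algebra A A'₀ := (φ'.comp lA).toAlgebra
  letI : Algebra A C' := ((ψ.comp ξ).comp lA).toAlgebra
  haveI : IsScalarTower A' B' A'₀ := IsScalarTower.of_algebraMap_eq' e4.symm
  haveI : IsScalarTower A' B' C' := IsScalarTower.of_algebraMap_eq' rfl
  haveI : IsScalarTower A A' C' := IsScalarTower.of_algebraMap_eq' rfl
  haveI : IsScalarTower A C C' := IsScalarTower.of_algebraMap_eq' e2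
  haveI : IsScalarTower A A' A'₀ := IsScalarTower.of_algebraMap_eq' rfl
  haveI : IsScalarTower A A₀ A'₀ := IsScalarTower.of_algebraMap_eq' e1
  haveI : Algebra.FinitePresentation A' B' := hξ
  haveI : IsLocalization.Away g A' := hlA
  haveI : IsLocalization.Away (algebraMap A A₀ g) A'₀ := hlA₀
  haveI : IsLocalization.Away (algebraMap A C g) C' := hlC
  have hu' := isUnivThickeningRing_of_hom ψ π' hu
  haveI FP1 : Module.FinitePresentation A'₀ (A'₀ ⊗[A'] C') :=
    Groth.Agent.Lib.Helper79.LiftGlueFP.fp_tensor_of_univ hφ' _ hu'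
  haveI FP2 : Module.FinitePresentation A'₀ (A'₀ ⊗[A] C) :=
    fp_tensor_of_localization g A' A'₀ C'
  exact fp_localizationAway_of_fp (algebraMap A A₀ g) A'₀

end Chart

end Groth.Agent.Lib.Helper79.LiftGlueLoc
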