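import Mathlib
import Groth.Prelude.Def_Omega3
import Groth.Agent.Lib.Helper79.LiftGlueLoc
import Groth.Agent.Lib.Helper79.AlgSpFormalEtale
import Groth.Agent.Lib.Helper57.UnivThickGlue
import Groth.Agent.Lib.Helper6.ThickIsAffine
import Groth.Agent.S9731

/-!
# Local lifts along a first order thickening of an affine scheme glue (helper79)
-/

set_option autoImplicit false

universe u

open AlgebraicGeometry CategoryTheory Limits

namespace Groth.Agent.Lib.Helper79.LiftGlueGeom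

open Groth.Agent.Lib.Helper79.LiftGlueLoc

/-- A scheme-level universal first order thickening restricts, on affine opens, to a ring-level
one (in ring-homomorphism form). -/
theorem isUnivThickHom_of_affine {Z Z' X : Scheme.{u}} {h : Z ⟶ X} {i : Z ⟶ Z'} {h' : Z' ⟶ X}
    (hu : OmegaSh.IsUnivThickening h i h') {Q : X.Opens} (hQ : IsAffineOpen Q) {V' : Z'.Opens}
    (hV' : IsAffineOpen V') (e : V' ≤ h' ⁻¹ᵁ Q) :
    IsUnivThickHom (h'.appLE Q V' e).hom (i.app V').hom := by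
  obtain ⟨hi, hih, huniv⟩ := hu
  haveI hcl : IsClosedImmersion i := hi.1.1
  have hV₀ : IsAffineOpen (i ⁻¹ᵁ V') := hV'.preimage i
  refine ⟨i.app_surjective V' hV', ?_, ?_⟩
  · intro x y hx hy
    have h1 : x * y ∈ (i.ker * i.ker).ideal ⟨V', hV'⟩ := by
      rw [Scheme.IdealSheafData.ideal_mul, Pi.mul_apply, Scheme.Hom.ker_apply]
      exact Ideal.mul_mem_mul hx hy
    rw [hi.2] at h1
    exact h1
  · intro E _ L hL b a hab
    let j := Spec.map (CommRingCat.ofHom (Ideal.Quotient.mk L))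
    have hj : MoreMor.IsFirstOrderThickening j :=
      Groth.Agent.Lib.Helper79.AlgSpFormalEtale.isFirstOrderThickening_specMk L hL
    let bs : Spec (CommRingCat.of E) ⟶ X := Spec.map (CommRingCat.ofHom b) ≫ hQ.fromSpec
    let as : Spec (CommRingCat.of (E ⧸ L)) ⟶ Z := Spec.map (CommRingCat.ofHom a) ≫ hV₀.fromSpec
    have hle : i ⁻¹ᵁ V' ≤ h ⁻¹ᵁ Q := by
      rw [← hih]
      exact fun z hz => e hz
    have happ : h.appLE Q (i ⁻¹ᵁ V') hle = h'.appLE Q V' e ≫ i.app V' := by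
      subst hih
      rw [← Scheme.Hom.appLE_eq_app, Scheme.Hom.appLE_comp_appLE]
    have hcompat : j ≫ bs = as ≫ h := by
      change Spec.map (CommRingCat.ofHom (Ideal.Quotient.mk L)) ≫
        Spec.map (CommRingCat.ofHom b) ≫ hQ.fromSpec =
        (Spec.map (CommRingCat.ofHom a) ≫ hV₀.fromSpec) ≫ h
      rw [Category.assoc, ← hQ.SpecMap_appLE_fromSpec h hV₀ hle, ← Spec.map_comp_assoc,
        ← Spec.map_comp_assoc, happ]
      congr 2
      ext x
      exact (RingHom.congr_fun hab x).symm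
    obtain ⟨a', ⟨ha'1, ha'2⟩, ha'u⟩ := huniv _ _ j bs as hj hcompat
    have hjsurj : Function.Surjective j := hj.1.2.surj
    have hrange : Set.range a' ⊆ Set.range hV'.fromSpec := by
      rintro _ ⟨y, rfl⟩
      obtain ⟨z, rfl⟩ := hjsurj y
      rw [← Scheme.Hom.comp_apply, ha'1, hV'.range_fromSpec]
      have hz : as z ∈ (i ⁻¹ᵁ V' : Set Z) := by
        rw [← hV₀.range_fromSpec]
        exact ⟨_, (Scheme.Hom.comp_apply _ _ _).symm⟩
      rw [Scheme.Hom.comp_apply]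
      exact hz
    have key : ∀ γ : Γ(Z', V') ⟶ CommRingCat.of E,
        (j ≫ Spec.map γ ≫ hV'.fromSpec = as ≫ i ∧ (Spec.map γ ≫ hV'.fromSpec) ≫ h' = bs) ↔
        (γ.hom.comp (h'.appLE Q V' e).hom = b ∧
          (Ideal.Quotient.mk L).comp γ.hom = a.comp (i.app V').hom) := by
      intro γ
      have e1 : as ≫ i = Spec.map (i.app V' ≫ CommRingCat.ofHom a) ≫ hV'.fromSpec := by
        change (Spec.map (CommRingCat.ofHom a) ≫ hV₀.fromSpec) ≫ i = _
        rw [Category.assoc, ← hV'.SpecMap_appLE_fromSpec i hV₀ le_rfl, Scheme.Hom.appLE_eq_app,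
          ← Spec.map_comp_assoc]
      have e2 : (Spec.map γ ≫ hV'.fromSpec) ≫ h' =
          Spec.map (h'.appLE Q V' e ≫ γ) ≫ hQ.fromSpec := by
        rw [Category.assoc, ← hQ.SpecMap_appLE_fromSpec h' hV' e, ← Spec.map_comp_assoc]
      have e3 : j ≫ Spec.map γ ≫ hV'.fromSpec =
          Spec.map (γ ≫ CommRingCat.ofHom (Ideal.Quotient.mk L)) ≫ hV'.fromSpec := by
        rw [← Spec.map_comp_assoc]
      rw [e1, e2, e3, cancel_mono, cancel_mono, Spec.map_injective.eq_iff,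
        Spec.map_injective.eq_iff]
      constructor
      · rintro ⟨h1, h2⟩
        exact ⟨RingHom.ext fun x => congrArg (fun g => g.hom x) h2,
          RingHom.ext fun x => congrArg (fun g => g.hom x) h1⟩
      · rintro ⟨h1, h2⟩
        exact ⟨CommRingCat.hom_ext h2, CommRingCat.hom_ext h1⟩
    have hlam : IsOpenImmersion.lift hV'.fromSpec a' hrange ≫ hV'.fromSpec = a' :=
      IsOpenImmersion.lift_fac _ _ _
    obtain ⟨γ, hγ⟩ := Spec.map_surjective (IsOpenImmersion.lift hV'.fromSpec a' hrange)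
    rw [← hγ] at hlam
    refine ⟨γ.hom, (key γ).mp ⟨by rw [hlam, ha'1], by rw [hlam, ha'2]⟩, ?_⟩
    rintro γ₂ hγ₂
    have h3 := (key (CommRingCat.ofHom γ₂)).mpr hγ₂
    have h4 : Spec.map (CommRingCat.ofHom γ₂) ≫ hV'.fromSpec = a' := ha'u _ h3
    rw [← hlam, cancel_mono] at h4
    have := Spec.map_injective h4
    exact congrArg (fun g => g.hom) this

/-- The kernel of `i.app D` is nilpotent of order two for a first order thickening. -/
theorem ker_app_sq {Z Z' : Scheme.{u}} {i : Z ⟶ Z'} (hi : MoreMor.IsFirstOrderThickening i)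
    {V' : Z'.Opens} (hV' : IsAffineOpen V') (x y : Γ(Z', V')) (hx : (i.app V').hom x = 0)
    (hy : (i.app V').hom y = 0) : x * y = 0 := by
  haveI hcl : IsClosedImmersion i := hi.1.1
  have h1 : x * y ∈ (i.ker * i.ker).ideal ⟨V', hV'⟩ := by
    rw [Scheme.IdealSheafData.ideal_mul, Pi.mul_apply, Scheme.Hom.ker_apply]
    exact Ideal.mul_mem_mul hx hy
  rw [hi.2] at h1
  exact h1

/-- A local section of the projection, in `Spec` form, factors through the universal thickening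
and gives a ring-level local retraction. -/
theorem exists_local_retraction {T₀ T P P' : Scheme.{u}} [IsAffine P'] [IsAffine T₀]
    (i : T₀ ⟶ T) [IsClosedImmersion i] (hi : MoreMor.IsFirstOrderThickening i) (σ₀ : T₀ ⟶ P) (ι' : T₀ ⟶ P') (h' : P' ⟶ P)
    (hu : OmegaSh.IsUnivThickening σ₀ ι' h') {D : T.Opens} (hD : IsAffineOpen D)
    (sD₀ : Spec Γ(T, D) ⟶ P)
    (hs : Spec.map (i.app D) ≫ sD₀ = (hD.preimage i).fromSpec ≫ σ₀) :
    ∃ ρc : Γ(P', ⊤) ⟶ Γ(T, D),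
      Spec.map ρc ≫ P'.isoSpec.inv ≫ h' = sD₀ ∧
      ρc ≫ i.app D = ι'.appTop ≫ T₀.presheaf.map (homOfLE le_top).op := by
  have hD₀ : IsAffineOpen (i ⁻¹ᵁ D) := hD.preimage i
  have hj : MoreMor.IsFirstOrderThickening (Spec.map (i.app D)) := by
    apply Groth.Agent.S9732.fot_spec _ (i.app_surjective D hD)
    rw [eq_bot_iff, pow_two, Ideal.mul_le]
    intro x hx y hy
    rw [Ideal.mem_bot]
    exact ker_app_sq hi hD x y hx hy
  obtain ⟨sD, ⟨hsD1, hsD2⟩, -⟩ := hu.2.2 _ _ (Spec.map (i.app D)) sD₀ hD₀.fromSpec hj hs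
  obtain ⟨ρc, hρc⟩ := Spec.map_surjective (sD ≫ P'.isoSpec.hom)
  have hsD : sD = Spec.map ρc ≫ P'.isoSpec.inv := by
    rw [hρc, Category.assoc, Iso.hom_inv_id, Category.comp_id]
  refine ⟨ρc, by rw [← Category.assoc, ← hsD, hsD2], ?_⟩
  apply Spec.map_injective
  rw [Spec.map_comp, Spec.map_comp, hρc, ← Category.assoc, hsD1, Category.assoc,
    ← Scheme.isoSpec_hom_naturality, ← Category.assoc, Scheme.isoSpec_hom,
    IsAffineOpen.fromSpec_toSpecΓ]

theorem appLE_congr_hom {X Y : Scheme.{u}} {f f' : X ⟶ Y} (h : f = f') (U : Y.Opens)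
    (V : X.Opens) (e : V ≤ f ⁻¹ᵁ U) : f.appLE U V e = f'.appLE U V (h ▸ e) := by
  subst h; rfl

theorem appLE_surjective_of_eq {X Y : Scheme.{u}} (f : X ⟶ Y) [IsClosedImmersion f]
    {U : Y.Opens} (hU : IsAffineOpen U) {V : X.Opens} (hV : V = f ⁻¹ᵁ U) :
    Function.Surjective (f.appLE U V hV.le).hom := by
  subst hV
  rw [Scheme.Hom.appLE_eq_app]
  exact f.app_surjective U hU

open TensorProduct Groth.Agent.Lib.Helper57.UnivThickGlue in
/-- Local finite presentation of the universal thickening of a section of a morphism locally of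
finite presentation. -/
theorem fp_chart {T₀ T P P' : Scheme.{u}} [IsAffine T₀] [IsAffine T] [IsAffine P']
    (i : T₀ ⟶ T) [IsClosedImmersion i] (hi : MoreMor.IsFirstOrderThickening i)
    (σ₀ : T₀ ⟶ P) (ι' : T₀ ⟶ P') (h' : P' ⟶ P) (prT : P ⟶ T) [LocallyOfFinitePresentation prT]
    (hu : OmegaSh.IsUnivThickening σ₀ ι' h') (hσT : σ₀ ≫ prT = i) (t₀ : T₀) :
    letI : Algebra Γ(T, ⊤) Γ(T₀, ⊤) := i.appTop.hom.toAlgebra
    letI : Algebra Γ(T, ⊤) Γ(P', ⊤) := (h' ≫ prT).appTop.hom.toAlgebra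
    ∃ g : Γ(T, ⊤), t₀ ∈ T₀.basicOpen (i.appTop.hom g) ∧
      Module.FinitePresentation (Localization.Away (algebraMap Γ(T, ⊤) Γ(T₀, ⊤) g))
        (Localization.Away (algebraMap Γ(T, ⊤) Γ(T₀, ⊤) g) ⊗[Γ(T, ⊤)] Γ(P', ⊤)) := by
  letI algA₀ : Algebra Γ(T, ⊤) Γ(T₀, ⊤) := i.appTop.hom.toAlgebra
  letI algC : Algebra Γ(T, ⊤) Γ(P', ⊤) := (h' ≫ prT).appTop.hom.toAlgebra
  have hι' := hu.1
  haveI : IsClosedImmersion ι' := hι'.1.1
  have hι'h' : ι' ≫ h' = σ₀ := hu.2.1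
  have hιp : ι' ≫ (h' ≫ prT) = i := by rw [← Category.assoc, hι'h', hσT]
  obtain ⟨Q₁, hQ₁, ht₀Q₁, -⟩ :=
    exists_isAffineOpen_mem_and_subset (x := σ₀ t₀) (U := ⊤) trivial
  let W : T.Opens := thickOpen i hi.1 (σ₀ ⁻¹ᵁ Q₁)
  have hitW : i t₀ ∈ W := (mem_thickOpen i hi.1 _ t₀).mpr ht₀Q₁
  obtain ⟨g, hgW, hgt⟩ := (isAffineOpen_top T).exists_basicOpen_le ⟨i t₀, hitW⟩ (Set.mem_univ _)
  refine ⟨g, ?_, ?_⟩
  · have : t₀ ∈ i ⁻¹ᵁ T.basicOpen g := hgt
    rwa [Scheme.preimage_basicOpen_top] at this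
  have hD : IsAffineOpen (T.basicOpen g) := (isAffineOpen_top T).basicOpen g
  have hV' : IsAffineOpen (P'.basicOpen ((h' ≫ prT).appTop.hom g)) :=
    (isAffineOpen_top P').basicOpen _
  have hV'eq : P'.basicOpen ((h' ≫ prT).appTop.hom g) = (h' ≫ prT) ⁻¹ᵁ T.basicOpen g :=
    (Scheme.preimage_basicOpen_top (h' ≫ prT) g).symm
  have hQ : IsAffineOpen (P.basicOpen
      (P.presheaf.map (homOfLE (le_top : Q₁ ≤ ⊤)).op (prT.appTop g))) := hQ₁.basicOpen _
  have hQeq : P.basicOpen (P.presheaf.map (homOfLE (le_top : Q₁ ≤ ⊤)).op (prT.appTop g)) =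
      Q₁ ⊓ prT ⁻¹ᵁ T.basicOpen g := by
    rw [Scheme.basicOpen_res, Scheme.preimage_basicOpen_top]
  have hQD : P.basicOpen (P.presheaf.map (homOfLE (le_top : Q₁ ≤ ⊤)).op (prT.appTop g)) ≤
      prT ⁻¹ᵁ T.basicOpen g := hQeq ▸ inf_le_right
  have he : P'.basicOpen ((h' ≫ prT).appTop.hom g) ≤ h' ⁻¹ᵁ
      (P.basicOpen (P.presheaf.map (homOfLE (le_top : Q₁ ≤ ⊤)).op (prT.appTop g))) := by
    intro y' hy'
    obtain ⟨z, rfl⟩ := hι'.1.2.surj y'
    rw [hV'eq] at hy'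
    have h0 : (h' ≫ prT) (ι' z) = i z := by rw [← Scheme.Hom.comp_apply, hιp]
    have h1 : i z ∈ T.basicOpen g := by
      rw [← h0]; exact hy'
    have h2 : z ∈ σ₀ ⁻¹ᵁ Q₁ := (mem_thickOpen i hi.1 _ z).mp (hgW h1)
    rw [hQeq]
    refine ⟨?_, ?_⟩
    · have : h' (ι' z) = σ₀ z := by rw [← Scheme.Hom.comp_apply, hι'h']
      show h' (ι' z) ∈ Q₁
      rw [this]; exact h2
    · exact hy'
  have hV₀eq : ι' ⁻¹ᵁ P'.basicOpen ((h' ≫ prT).appTop.hom g) =
      T₀.basicOpen (i.appTop.hom g) := by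
    rw [Scheme.preimage_basicOpen_top]
    congr 1
    change (ι' ≫ (h' ≫ prT)).appTop.hom g = _
    rw [hιp]
  have hV₀D : ι' ⁻¹ᵁ P'.basicOpen ((h' ≫ prT).appTop.hom g) = i ⁻¹ᵁ T.basicOpen g := by
    rw [hV₀eq, Scheme.preimage_basicOpen_top]
  have e1 : (i.appLE (T.basicOpen g) (ι' ⁻¹ᵁ P'.basicOpen ((h' ≫ prT).appTop.hom g))
      hV₀D.le).hom.comp (T.presheaf.map (homOfLE (T.basicOpen_le g)).op).hom =
      (T₀.presheaf.map (homOfLE (le_top :
        ι' ⁻¹ᵁ P'.basicOpen ((h' ≫ prT).appTop.hom g) ≤ ⊤)).op).hom.comp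
        (algebraMap Γ(T, ⊤) Γ(T₀, ⊤)) := by
    have : T.presheaf.map (homOfLE (T.basicOpen_le g)).op ≫
        i.appLE (T.basicOpen g) (ι' ⁻¹ᵁ P'.basicOpen ((h' ≫ prT).appTop.hom g)) hV₀D.le =
        i.app ⊤ ≫ T₀.presheaf.map (homOfLE (le_top :
          ι' ⁻¹ᵁ P'.basicOpen ((h' ≫ prT).appTop.hom g) ≤ ⊤)).op := by
      rw [Scheme.Hom.map_appLE, Scheme.Hom.app_eq_appLE, Scheme.Hom.appLE_map]
    exact congrArg CommRingCat.Hom.hom this
  have e2 : ((h'.appLE _ _ he).hom.comp (prT.appLE (T.basicOpen g) _ hQD).hom).comp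
      (T.presheaf.map (homOfLE (T.basicOpen_le g)).op).hom =
      (P'.presheaf.map (homOfLE (P'.basicOpen_le ((h' ≫ prT).appTop.hom g))).op).hom.comp
        (algebraMap Γ(T, ⊤) Γ(P', ⊤)) := by
    have : T.presheaf.map (homOfLE (T.basicOpen_le g)).op ≫
        prT.appLE (T.basicOpen g) _ hQD ≫ h'.appLE _ _ he =
        (h' ≫ prT).app ⊤ ≫
          P'.presheaf.map (homOfLE (P'.basicOpen_le ((h' ≫ prT).appTop.hom g))).op := by
      rw [Scheme.Hom.appLE_comp_appLE, Scheme.Hom.map_appLE, Scheme.Hom.app_eq_appLE,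
        Scheme.Hom.appLE_map]
    exact congrArg CommRingCat.Hom.hom this
  have e4 : (((ι'.app (P'.basicOpen ((h' ≫ prT).appTop.hom g))).hom.comp
      (h'.appLE _ _ he).hom).comp (prT.appLE (T.basicOpen g) _ hQD).hom) =
      (i.appLE (T.basicOpen g) (ι' ⁻¹ᵁ P'.basicOpen ((h' ≫ prT).appTop.hom g)) hV₀D.le).hom := by
    have : prT.appLE (T.basicOpen g) _ hQD ≫ h'.appLE _ _ he ≫
        ι'.app (P'.basicOpen ((h' ≫ prT).appTop.hom g)) =
        i.appLE (T.basicOpen g) (ι' ⁻¹ᵁ P'.basicOpen ((h' ≫ prT).appTop.hom g)) hV₀D.le := by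
      rw [Scheme.Hom.app_eq_appLE, Scheme.Hom.appLE_comp_appLE, Scheme.Hom.appLE_comp_appLE]
      exact appLE_congr_hom (by rw [Category.assoc, hιp]) _ _ _
    exact congrArg CommRingCat.Hom.hom this
  have hξ : (prT.appLE (T.basicOpen g) _ hQD).hom.FinitePresentation :=
    HasRingHomProperty.appLE @LocallyOfFinitePresentation prT inferInstance ⟨_, hD⟩ ⟨_, hQ⟩ hQD
  have hφ' : Function.Surjective (i.appLE (T.basicOpen g)
      (ι' ⁻¹ᵁ P'.basicOpen ((h' ≫ prT).appTop.hom g)) hV₀D.le).hom :=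
    appLE_surjective_of_eq i hD hV₀D
  exact fp_local_of_chart g
    (T.presheaf.map (homOfLE (T.basicOpen_le g)).op).hom
    (T₀.presheaf.map (homOfLE (le_top :
        ι' ⁻¹ᵁ P'.basicOpen ((h' ≫ prT).appTop.hom g) ≤ ⊤)).op).hom
    (P'.presheaf.map (homOfLE (P'.basicOpen_le ((h' ≫ prT).appTop.hom g))).op).hom
    (i.appLE (T.basicOpen g) (ι' ⁻¹ᵁ P'.basicOpen ((h' ≫ prT).appTop.hom g)) hV₀D.le).hom
    (prT.appLE (T.basicOpen g) _ hQD).hom
    (h'.appLE _ _ he).hom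
    (ι'.app (P'.basicOpen ((h' ≫ prT).appTop.hom g))).hom
    (isLocalization_away_of_isAffine g)
    ((isAffineOpen_top T₀).isLocalization_of_eq_basicOpen _ (homOfLE le_top) hV₀eq)
    (isLocalization_away_of_isAffine ((h' ≫ prT).appTop.hom g))
    e1 e2 e4 hξ hφ' (isUnivThickHom_of_affine hu hQ hV' he)

theorem exists_notMem_of_cover {X : Scheme.{u}} [IsAffine X] (s : Set Γ(X, ⊤))
    (hs : ∀ x : X, ∃ r ∈ s, x ∈ X.basicOpen r) (𝔪 : Ideal Γ(X, ⊤)) (h𝔪 : 𝔪 ≠ ⊤) :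
    ∃ r ∈ s, r ∉ 𝔪 := by
  have hspan : Ideal.span s = ⊤ := by
    rw [← (isAffineOpen_top X).self_le_iSup_basicOpen_iff]
    intro x _
    obtain ⟨r, hr, hx⟩ := hs x
    exact TopologicalSpace.Opens.mem_iSup.mpr ⟨⟨r, hr⟩, hx⟩
  by_contra hcon
  have hcon : ∀ r ∈ s, r ∈ 𝔪 := fun r hr => by
    by_contra h
    exact hcon ⟨r, hr, h⟩
  apply h𝔪
  rw [eq_top_iff, ← hspan]
  exact Ideal.span_le.mpr hcon

open TensorProduct Groth.Agent.Lib.Helper6.ThickIsAffine in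
/-- **Core theorem.** Local lifts along a first order thickening of an affine scheme against a
morphism locally of finite presentation glue to a global lift. -/
theorem exists_lift_affine {S X T T₀ : Scheme.{u}} (f : X ⟶ S) [LocallyOfFinitePresentation f]
    (i : T₀ ⟶ T) (hi : MoreMor.IsFirstOrderThickening i) [IsAffine T₀]
    (a : T ⟶ S) (a₀ : T₀ ⟶ X) (hsqr : a₀ ≫ f = i ≫ a)
    (hloc : ∀ t : T, ∃ (U : T.Opens) (b : (U : Scheme.{u}) ⟶ X), t ∈ U ∧ b ≫ f = U.ι ≫ a ∧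
      ∀ (Q : Scheme.{u}) (p₁ : Q ⟶ T₀) (p₂ : Q ⟶ U), p₁ ≫ i = p₂ ≫ U.ι → p₂ ≫ b = p₁ ≫ a₀) :
    ∃ b' : T ⟶ X, b' ≫ f = a ∧ i ≫ b' = a₀ := by
  haveI hcl : IsClosedImmersion i := hi.1.1
  haveI : IsAffine T := isAffine_of_thickening i hi.1.2.surj
  let σ₀ : T₀ ⟶ pullback f a := pullback.lift a₀ i hsqr
  have hσX : σ₀ ≫ pullback.fst f a = a₀ := pullback.lift_fst _ _ _
  have hσT : σ₀ ≫ pullback.snd f a = i := pullback.lift_snd _ _ _
  haveI : Mono σ₀ := mono_of_mono_fac hσT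
  haveI : FormallyUnramified σ₀ := inferInstance
  obtain ⟨P', ι', h', hu⟩ := Groth.Agent.S9731.result σ₀
  have hι' := hu.1
  haveI : IsClosedImmersion ι' := hι'.1.1
  haveI : IsAffine P' := isAffine_of_thickening ι' hι'.1.2.surj
  have hι'h' : ι' ≫ h' = σ₀ := hu.2.1
  have hιp : ι' ≫ (h' ≫ pullback.snd f a) = i := by rw [← Category.assoc, hι'h', hσT]
  suffices hsec : ∃ s : T ⟶ P', s ≫ (h' ≫ pullback.snd f a) = 𝟙 T ∧ i ≫ s = ι' by
    obtain ⟨s, hs1, hs2⟩ := hsec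
    refine ⟨s ≫ h' ≫ pullback.fst f a, ?_, ?_⟩
    · rw [Category.assoc, Category.assoc, pullback.condition, ← Category.assoc h',
        ← Category.assoc s, hs1, Category.id_comp]
    · rw [← Category.assoc, hs2, ← Category.assoc, hι'h', hσX]
  letI algA₀ : Algebra Γ(T, ⊤) Γ(T₀, ⊤) := i.appTop.hom.toAlgebra
  letI algC : Algebra Γ(T, ⊤) Γ(P', ⊤) := (h' ≫ pullback.snd f a).appTop.hom.toAlgebra
  let π : Γ(P', ⊤) →ₐ[Γ(T, ⊤)] Γ(T₀, ⊤) :=
    { ι'.appTop.hom with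
      commutes' := fun x => by
        change ι'.appTop.hom ((h' ≫ pullback.snd f a).appTop.hom x) = i.appTop.hom x
        rw [← hιp]
        rfl }
  have hπ : ∀ c, π c = ι'.appTop.hom c := fun c => rfl
  have hφ : Function.Surjective (algebraMap Γ(T, ⊤) Γ(T₀, ⊤)) :=
    i.app_surjective ⊤ (isAffineOpen_top T)
  have hJ : ∀ x y : Γ(P', ⊤), π x = 0 → π y = 0 → x * y = 0 := fun x y hx hy =>
    ker_app_sq hι' (isAffineOpen_top P') x y hx hy
  haveI : Module.FinitePresentation Γ(T₀, ⊤) (Γ(T₀, ⊤) ⊗[Γ(T, ⊤)] Γ(P', ⊤)) := by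
    apply fp_of_local
    intro 𝔪₀ h𝔪₀
    obtain ⟨r, hfp, hr⟩ := exists_notMem_of_cover
      {r : Γ(T₀, ⊤) | Module.FinitePresentation (Localization.Away r)
        (Localization.Away r ⊗[Γ(T, ⊤)] Γ(P', ⊤))}
      (fun t₀ => by
        obtain ⟨g, hg, hfp⟩ := fp_chart i hi σ₀ ι' h' (pullback.snd f a) hu hσT t₀
        exact ⟨_, hfp, hg⟩) 𝔪₀ h𝔪₀.ne_top
    exact ⟨r, hr, hfp⟩
  -- local retractions
  have hcover : ∀ t : T, ∃ g ∈ {g : Γ(T, ⊤) | ∃ ρc : Γ(P', ⊤) ⟶ Γ(T, T.basicOpen g),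
      (h' ≫ pullback.snd f a).appTop ≫ ρc = T.presheaf.map (homOfLE (T.basicOpen_le g)).op ∧
      ρc ≫ i.app (T.basicOpen g) = ι'.appTop ≫ T₀.presheaf.map (homOfLE le_top).op},
      t ∈ T.basicOpen g := by
    intro t
    obtain ⟨U, b, htU, hb1, hb2⟩ := hloc t
    obtain ⟨g, hgU, hgt⟩ := (isAffineOpen_top T).exists_basicOpen_le ⟨t, htU⟩ (Set.mem_univ _)
    refine ⟨g, ?_, hgt⟩
    have hD : IsAffineOpen (T.basicOpen g) := (isAffineOpen_top T).basicOpen g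
    have hD₀ : IsAffineOpen (i ⁻¹ᵁ T.basicOpen g) := hD.preimage i
    have hfs : Spec.map (i.app (T.basicOpen g)) ≫ hD.fromSpec = hD₀.fromSpec ≫ i := by
      rw [← Scheme.Hom.appLE_eq_app]
      exact hD.SpecMap_appLE_fromSpec i hD₀ le_rfl
    have hw : (hD.isoSpec.inv ≫ T.homOfLE hgU ≫ b) ≫ f = hD.fromSpec ≫ a := by
      rw [Category.assoc, Category.assoc, hb1, Scheme.homOfLE_ι_assoc, ← Category.assoc,
        IsAffineOpen.isoSpec_inv_ι]
    let sD₀ : Spec Γ(T, T.basicOpen g) ⟶ pullback f a :=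
      pullback.lift (hD.isoSpec.inv ≫ T.homOfLE hgU ≫ b) hD.fromSpec hw
    have hs : Spec.map (i.app (T.basicOpen g)) ≫ sD₀ = hD₀.fromSpec ≫ σ₀ := by
      apply pullback.hom_ext
      · rw [Category.assoc, pullback.lift_fst, Category.assoc, hσX]
        have := hb2 _ hD₀.fromSpec
          (Spec.map (i.app (T.basicOpen g)) ≫ hD.isoSpec.inv ≫ T.homOfLE hgU) (by
            rw [Category.assoc, Category.assoc, Scheme.homOfLE_ι, IsAffineOpen.isoSpec_inv_ι,
              hfs])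
        rw [← this, Category.assoc, Category.assoc]
      · rw [Category.assoc, pullback.lift_snd, Category.assoc, hσT, hfs]
    obtain ⟨ρc, h1, h2⟩ := exists_local_retraction i hi σ₀ ι' h' hu hD sD₀ hs
    refine ⟨ρc, ?_, h2⟩
    apply Spec.map_injective
    have h3 : Spec.map ρc ≫ P'.isoSpec.inv ≫ (h' ≫ pullback.snd f a) = hD.fromSpec := by
      rw [show Spec.map ρc ≫ P'.isoSpec.inv ≫ (h' ≫ pullback.snd f a) =
        (Spec.map ρc ≫ P'.isoSpec.inv ≫ h') ≫ pullback.snd f a by simp only [Category.assoc], h1]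
      exact pullback.lift_snd _ _ _
    rw [← Scheme.isoSpec_inv_naturality, ← Category.assoc, ← Spec.map_comp, Iso.comp_inv_eq,
      Scheme.isoSpec_hom, IsAffineOpen.fromSpec_toSpecΓ] at h3
    exact h3
  obtain ⟨ρ, hρ⟩ := Groth.Agent.Lib.Helper79.LiftGlueAlg.exists_retraction hφ π hJ (by
    intro 𝔪 h𝔪
    obtain ⟨g, ⟨ρc, hρ1, hρ2⟩, hg⟩ := exists_notMem_of_cover _ hcover 𝔪 h𝔪.ne_top
    refine ⟨g, hg, Γ(T, T.basicOpen g), inferInstance, inferInstance,
      isLocalization_away_of_isAffine g,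
      { ρc.hom with commutes' := fun x => congrArg (fun k => k.hom x) hρ1 }, ?_⟩
    intro c x hcx
    have hD : IsAffineOpen (T.basicOpen g) := (isAffineOpen_top T).basicOpen g
    have hker : RingHom.ker (i.app (T.basicOpen g)).hom =
        Ideal.map (T.presheaf.map (homOfLE (T.basicOpen_le g)).op).hom
          (RingHom.ker i.appTop.hom) := by
      have h1 := i.ker.map_ideal_basicOpen ⟨⊤, isAffineOpen_top T⟩ g
      rw [Scheme.Hom.ker_apply, Scheme.Hom.ker_apply] at h1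
      exact h1.symm
    change ρc.hom c - (T.presheaf.map (homOfLE (T.basicOpen_le g)).op).hom x ∈
      Ideal.map (T.presheaf.map (homOfLE (T.basicOpen_le g)).op).hom (RingHom.ker i.appTop.hom)
    rw [← hker, RingHom.mem_ker, map_sub, sub_eq_zero]
    have e1 : (i.app (T.basicOpen g)).hom (ρc.hom c) =
        (T₀.presheaf.map (homOfLE le_top).op).hom (ι'.appTop.hom c) :=
      congrArg (fun k => k.hom c) hρ2
    have e2 : (i.app (T.basicOpen g)).hom
        ((T.presheaf.map (homOfLE (T.basicOpen_le g)).op).hom x) =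
        (T₀.presheaf.map (homOfLE le_top).op).hom (i.appTop.hom x) := by
      have := i.naturality (homOfLE (T.basicOpen_le g)).op
      exact congrArg (fun k => k.hom x) this
    rw [e1, e2]
    congr 1)
  -- the section
  let ρc : Γ(P', ⊤) ⟶ Γ(T, ⊤) := CommRingCat.ofHom ρ.toRingHom
  have hρα : (h' ≫ pullback.snd f a).appTop ≫ ρc = 𝟙 _ := by
    ext x
    exact ρ.commutes x
  have hρφ : ρc ≫ i.appTop = ι'.appTop := by
    ext c
    exact hρ c
  refine ⟨T.isoSpec.hom ≫ Spec.map ρc ≫ P'.isoSpec.inv, ?_, ?_⟩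
  · rw [Category.assoc, Category.assoc, ← Scheme.isoSpec_inv_naturality, ← Category.assoc (Spec.map ρc),
      ← Spec.map_comp, hρα, Spec.map_id, Category.id_comp, Iso.hom_inv_id]
  · rw [← Category.assoc, ← Scheme.isoSpec_hom_naturality, Category.assoc, ← Category.assoc (Spec.map _),
      ← Spec.map_comp, hρφ, ← Category.assoc, Scheme.isoSpec_hom_naturality, Category.assoc,
      Iso.hom_inv_id, Category.comp_id]

end Groth.Agent.Lib.Helper79.LiftGlueGeom
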