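import Mathlib
import Groth.Agent.Lib.Helper57.EtLift
import Groth.Agent.Lib.Helper57.FlatThick

/-!
# Local lifting along thickenings for smooth morphisms of schemes (helper79)
-/

set_option autoImplicit false
universe u
open CategoryTheory CategoryTheory.Limits AlgebraicGeometry Opposite

namespace Groth.Agent.Lib.Helper79.SmoothLocalLift

/-- Algebra form of the lifting lemma: a smooth algebra lifts along surjections with nil kernel. -/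
theorem exists_algHom_lift {R B A A₀ : Type u} [CommRing R] [CommRing B] [CommRing A]
    [CommRing A₀] [Algebra R B] [Algebra R A] [Algebra R A₀] [Algebra.Smooth R B]
    (π : A →ₐ[R] A₀) (hπ : Function.Surjective π) (hker : RingHom.ker π ≤ nilradical A)
    (φ₀ : B →ₐ[R] A₀) : ∃ φ : B →ₐ[R] A, π.comp φ = φ₀ := by
  obtain ⟨n, f, hf, hfg⟩ := Algebra.FinitePresentation.out (R := R) (A := B)
  choose s hs using fun k : Fin n => hπ (φ₀ (f (MvPolynomial.X k)))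
  let ψ : MvPolynomial (Fin n) R →ₐ[R] A := MvPolynomial.aeval s
  have hψ : π.comp ψ = φ₀.comp f := by
    apply MvPolynomial.algHom_ext
    intro k
    simp [ψ, hs]
  let J₀ : Ideal A := (RingHom.ker f).map ψ
  have hJ₀fg : J₀.FG := hfg.map _
  have hJ₀le : J₀ ≤ RingHom.ker π := by
    rw [Ideal.map_le_iff_le_comap]
    intro x hx
    rw [Ideal.mem_comap, RingHom.mem_ker]
    have : π (ψ x) = φ₀ (f x) := congr($hψ x)
    rw [this, (RingHom.mem_ker).1 hx, map_zero]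
  have hnil : IsNilpotent J₀ :=
    hJ₀fg.isNilpotent_iff_le_nilradical.mpr (hJ₀le.trans hker)
  -- the induced map `B → A ⧸ J₀`
  have hkerle : RingHom.ker f ≤ RingHom.ker ((Ideal.Quotient.mkₐ R J₀).comp ψ) := by
    intro x hx
    rw [RingHom.mem_ker]
    change Ideal.Quotient.mk J₀ (ψ x) = 0
    rw [Ideal.Quotient.eq_zero_iff_mem]
    exact Ideal.mem_map_of_mem _ hx
  let ψbar : B →ₐ[R] A ⧸ J₀ := AlgHom.liftOfSurjective f hf _ hkerle
  have hψbar : ∀ p, ψbar (f p) = Ideal.Quotient.mk J₀ (ψ p) := fun p =>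
    AlgHom.liftOfSurjective_apply f hf _ hkerle p
  let φ : B →ₐ[R] A := Algebra.FormallySmooth.lift J₀ hnil ψbar
  refine ⟨φ, ?_⟩
  ext b
  obtain ⟨p, rfl⟩ := hf b
  have h1 : Ideal.Quotient.mk J₀ (φ (f p)) = Ideal.Quotient.mk J₀ (ψ p) := by
    rw [← hψbar]
    exact Algebra.FormallySmooth.mk_lift J₀ hnil ψbar (f p)
  have h2 : φ (f p) - ψ p ∈ RingHom.ker π := hJ₀le ((Ideal.Quotient.eq).1 h1)
  rw [RingHom.mem_ker, map_sub, sub_eq_zero] at h2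
  change π (φ (f p)) = φ₀ (f p)
  rw [h2]
  exact congr($hψ p)

/-- Ring hom form of the lifting lemma. -/
theorem exists_ringHom_lift {R B A A₀ : Type u} [CommRing R] [CommRing B] [CommRing A]
    [CommRing A₀] (ρ : R →+* B) (hρ : ρ.Smooth) (α : R →+* A) (π : A →+* A₀)
    (hπ : Function.Surjective π) (hker : RingHom.ker π ≤ nilradical A) (φ₀ : B →+* A₀)
    (hcomm : φ₀.comp ρ = π.comp α) : ∃ φ : B →+* A, φ.comp ρ = α ∧ π.comp φ = φ₀ := by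
  letI := ρ.toAlgebra
  letI := α.toAlgebra
  letI : Algebra R A₀ := (π.comp α).toAlgebra
  haveI : Algebra.Smooth R B := hρ
  let π' : A →ₐ[R] A₀ := { π with commutes' := fun r => rfl }
  let φ₀' : B →ₐ[R] A₀ := { φ₀ with commutes' := fun r => congr($hcomm r) }
  obtain ⟨φ, hφ⟩ := exists_algHom_lift π' hπ hker φ₀'
  refine ⟨φ.toRingHom, ?_, ?_⟩
  · ext r; exact φ.commutes r
  · ext b; exact congr($hφ b)

theorem exists_affine_nbhd {X : Scheme.{u}} (O : X.Opens) (x : X) (hx : x ∈ O) :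
    ∃ U : X.Opens, IsAffineOpen U ∧ x ∈ U ∧ U ≤ O := by
  obtain ⟨_, ⟨U, hU, rfl⟩, hxU, hUO⟩ :=
    (X.isBasis_affineOpens).exists_subset_of_mem_open hx O.isOpen
  exact ⟨U, hU, hxU, hUO⟩

theorem appLE_congr_hom {X Y : Scheme.{u}} {f f' : X ⟶ Y} (h : f = f') (U : Y.Opens)
    (V : X.Opens) (e : V ≤ f ⁻¹ᵁ U) : f.appLE U V e = f'.appLE U V (h ▸ e) := by
  subst h; rfl

open Groth.Agent.Lib.Helper57.FlatThick in
/-- **Local lifting for smooth morphisms of schemes along a thickening**: Zariski locally on the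
thickening, the dotted arrow exists. -/
theorem exists_local_lift {X₁ Y₁ W U : Scheme.{u}} (g : X₁ ⟶ Y₁) [Smooth g] (i : W ⟶ U)
    (hi : MoreMor.IsThickening i) (a : W ⟶ X₁) (b : U ⟶ Y₁) (w : a ≫ g = i ≫ b) (u : U) :
    ∃ (U₃ : U.Opens) (l : (U₃ : Scheme.{u}) ⟶ X₁), IsAffineOpen U₃ ∧ u ∈ U₃ ∧
      l ≫ g = U₃.ι ≫ b ∧
      ∀ (Q : Scheme.{u}) (p₁ : Q ⟶ W) (p₂ : Q ⟶ U₃), p₁ ≫ i = p₂ ≫ U₃.ι → p₂ ≫ l = p₁ ≫ a := by
  haveI : IsClosedImmersion i := hi.1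
  haveI : Surjective i := hi.2
  obtain ⟨w₀, rfl⟩ := i.surjective u
  obtain ⟨Y', hY', hyY', -⟩ := exists_affine_nbhd (⊤ : Y₁.Opens) (g (a w₀)) trivial
  obtain ⟨X', hX', hxX', hX'le⟩ := exists_affine_nbhd (g ⁻¹ᵁ Y') (a w₀) hyY'
  let O : U.Opens := thickOpen i hi (a ⁻¹ᵁ X') ⊓ b ⁻¹ᵁ Y'
  have hO : i w₀ ∈ O := by
    refine ⟨(mem_thickOpen i hi _ w₀).2 hxX', ?_⟩
    change b (i w₀) ∈ Y'
    rw [← Scheme.Hom.comp_apply, ← w]
    exact hyY'
  obtain ⟨U₃, hU₃, huU₃, hU₃le⟩ := exists_affine_nbhd O (i w₀) hO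
  have hW₃ : IsAffineOpen (i ⁻¹ᵁ U₃) := hU₃.preimage i
  have hW₃le : i ⁻¹ᵁ U₃ ≤ a ⁻¹ᵁ X' := by
    intro z hz
    have : i z ∈ thickOpen i hi (a ⁻¹ᵁ X') := (hU₃le hz).1
    exact (mem_thickOpen i hi _ z).1 this
  have hU₃b : U₃ ≤ b ⁻¹ᵁ Y' := fun z hz => (hU₃le hz).2
  have hcomm : (a.appLE X' (i ⁻¹ᵁ U₃) hW₃le).hom.comp (g.appLE Y' X' hX'le).hom =
      (i.app U₃).hom.comp (b.appLE Y' U₃ hU₃b).hom := by
    rw [← CommRingCat.hom_comp, ← CommRingCat.hom_comp, Scheme.Hom.appLE_comp_appLE,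
      Scheme.Hom.app_eq_appLE, Scheme.Hom.appLE_comp_appLE, appLE_congr_hom w]
  obtain ⟨φ, hφ1, hφ2⟩ := exists_ringHom_lift (g.appLE Y' X' hX'le).hom
    (Smooth.smooth_appLE g hY' hX' hX'le) (b.appLE Y' U₃ hU₃b).hom (i.app U₃).hom
    (i.app_surjective U₃ hU₃) (Groth.Agent.Lib.Helper57.EtLift.ker_app_le_nilradical i U₃ hU₃)
    (a.appLE X' (i ⁻¹ᵁ U₃) hW₃le).hom hcomm
  have hφ1' : g.appLE Y' X' hX'le ≫ CommRingCat.ofHom φ = b.appLE Y' U₃ hU₃b := by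
    ext1; exact hφ1
  have hφ2' : CommRingCat.ofHom φ ≫ i.app U₃ = a.appLE X' (i ⁻¹ᵁ U₃) hW₃le := by
    ext1; exact hφ2
  refine ⟨U₃, hU₃.isoSpec.hom ≫ Spec.map (CommRingCat.ofHom φ) ≫ hX'.fromSpec, hU₃, huU₃, ?_, ?_⟩
  · rw [Category.assoc, Category.assoc, ← IsAffineOpen.SpecMap_appLE_fromSpec g hY' hX' hX'le,
      ← Spec.map_comp_assoc, hφ1', IsAffineOpen.SpecMap_appLE_fromSpec b hY' hU₃ hU₃b,
      IsAffineOpen.isoSpec_hom_fromSpec_assoc]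
  · have hnat : (i ∣_ U₃) ≫ hU₃.isoSpec.hom = hW₃.isoSpec.hom ≫ Spec.map (i.app U₃) := by
      rw [← cancel_mono hU₃.fromSpec, Category.assoc, IsAffineOpen.isoSpec_hom_fromSpec,
        morphismRestrict_ι, Category.assoc, Scheme.Hom.app_eq_appLE,
        IsAffineOpen.SpecMap_appLE_fromSpec i hU₃ hW₃ le_rfl,
        IsAffineOpen.isoSpec_hom_fromSpec_assoc]
    have hcan : (i ∣_ U₃) ≫ hU₃.isoSpec.hom ≫ Spec.map (CommRingCat.ofHom φ) ≫ hX'.fromSpec =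
        (i ⁻¹ᵁ U₃).ι ≫ a := by
      rw [reassoc_of% hnat, ← Spec.map_comp_assoc, hφ2',
        IsAffineOpen.SpecMap_appLE_fromSpec a hX' hW₃ hW₃le,
        IsAffineOpen.isoSpec_hom_fromSpec_assoc]
    intro Q p₁ p₂ hp
    obtain ⟨q, hq1, hq2⟩ : ∃ q : Q ⟶ (i ⁻¹ᵁ U₃ : Scheme.{u}),
        q ≫ (i ∣_ U₃) = p₂ ∧ q ≫ (i ⁻¹ᵁ U₃).ι = p₁ :=
      ⟨(isPullback_morphismRestrict i U₃).lift p₂ p₁ hp.symm,
        (isPullback_morphismRestrict i U₃).lift_fst _ _ _,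
        (isPullback_morphismRestrict i U₃).lift_snd _ _ _⟩
    rw [← hq1, ← hq2, Category.assoc, hcan, Category.assoc]

end Groth.Agent.Lib.Helper79.SmoothLocalLift
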