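import Groth.Agent.Lib.Helper79.AlgSpFormalEtale
import Groth.Agent.Lib.Helper46.LocPChart
import Mathlib.AlgebraicGeometry.Morphisms.FormallyUnramified

/-!
# Formal lifting properties of `h_g` versus those of the morphism of schemes `g`, and the chart
criteria for morphisms of algebraic spaces (helper79)
-/

set_option autoImplicit false
universe u
open CategoryTheory CategoryTheory.Limits AlgebraicGeometry Opposite

namespace Groth.Agent.Lib.Helper79.AlgSpFormalYon

open AlgSp Groth.Agent.Lib.Helper79.AlgSpFormalAffine Groth.Agent.Lib.Helper79.AlgSpChart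
open Groth.Agent.Lib.Helper79.AlgSpFormalLift Groth.Agent.Lib.Helper79.AlgSpFormalEtale
open Groth.Agent.Lib.Helper37.AlgSpFormal

variable {S : Scheme.{u}}

/-- `Spec S ⟶ Spec R` has square-zero ideal sheaf when `ker φ ^ 2 = 0`. -/
lemma ker_specMap_mul {R T : CommRingCat.{u}} (φ : R ⟶ T) (hI : RingHom.ker φ.hom ^ 2 = ⊥) :
    (Spec.map φ).ker * (Spec.map φ).ker = ⊥ := by
  apply Scheme.IdealSheafData.ext_of_isAffine
  change (Spec.map φ).ker.ideal ⟨⊤, isAffineOpen_top _⟩ *
    (Spec.map φ).ker.ideal ⟨⊤, isAffineOpen_top _⟩ = ⊥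
  rw [eq_bot_iff, Ideal.mul_le]
  intro x hx y hy
  rw [Scheme.Hom.ker_apply, RingHom.mem_ker] at hx hy
  rw [Ideal.mem_bot]
  have hnat := Scheme.ΓSpecIso_naturality φ
  have hmem : ∀ z : Γ(Spec R, ⊤), (Spec.map φ).appTop z = 0 →
      (Scheme.ΓSpecIso R).hom z ∈ RingHom.ker φ.hom := by
    intro z hz
    have h1 := congrArg (fun ψ => ψ.hom z) hnat
    simp only [CommRingCat.hom_comp, RingHom.comp_apply] at h1
    rw [hz, map_zero] at h1
    exact h1.symm
  have hxy : (Scheme.ΓSpecIso R).hom (x * y) ∈ RingHom.ker φ.hom ^ 2 := by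
    rw [map_mul, pow_two]
    exact Ideal.mul_mem_mul (hmem x hx) (hmem y hy)
  rw [hI, Ideal.mem_bot] at hxy
  have hinj : Function.Injective (Scheme.ΓSpecIso R).hom :=
    (ConcreteCategory.bijective_of_isIso (Scheme.ΓSpecIso R).hom).1
  exact hinj (hxy.trans (map_zero _).symm)

section yon

variable {U V : Over S} (h : U ⟶ V)

/-- The lifting square for `h_g` defined by a lifting square for `g.left`. -/
noncomputable def sqOf (A : Type u) [CommRing A] (I : Ideal A) (hI : I ^ 2 = ⊥)
    (a : Spec (CommRingCat.of (A ⧸ I)) ⟶ U.left) (b : Spec (CommRingCat.of A) ⟶ V.left)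
    (w : Spec.map (CommRingCat.ofHom (Ideal.Quotient.mk I)) ≫ b = a ≫ h.left) :
    InfSq ((yon S).map h) where
  A := A
  I := I
  sq_zero := hI
  str := b ≫ V.hom
  top := (yon S).map (Over.homMk a (by
    have := Over.w h
    dsimp at this ⊢
    rw [← this, ← Category.assoc, ← w, Category.assoc]))
  bot := (yon S).map (Over.homMk b rfl)
  comm := by
    rw [← Functor.map_comp, ← Functor.map_comp]
    congr 1
    apply Over.OverMorphism.ext
    exact w.symm

theorem formallySmoothMor_yon_map_iff :
    IsFormallySmoothMor ((yon S).map h) ↔ MoreMor.IsFormallySmoothHom h.left := by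
  constructor
  · intro H A _ I hI a b w
    obtain ⟨l, hl1, hl2⟩ := H (sqOf h A I hI a b w)
    obtain ⟨l₀, rfl⟩ := (yon S).map_surjective l
    refine ⟨l₀.left, ?_, ?_⟩
    · have := (yon S).map_injective ((Functor.map_comp _ _ _).trans hl1)
      exact congrArg (fun k => k.left) this
    · have := (yon S).map_injective ((Functor.map_comp _ _ _).trans hl2)
      exact congrArg (fun k => k.left) this
  · intro H sq
    obtain ⟨top₀, htop⟩ := (yon S).map_surjective sq.top
    obtain ⟨bot₀, hbot⟩ := (yon S).map_surjective sq.bot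
    have hcomm : top₀ ≫ h = sq.j ≫ bot₀ := by
      apply (yon S).map_injective
      rw [Functor.map_comp, Functor.map_comp, htop, hbot]
      exact sq.comm
    obtain ⟨l₀, hl1, hl2⟩ := H sq.A sq.I sq.sq_zero top₀.left bot₀.left
      (congrArg (fun k => k.left) hcomm).symm
    refine ⟨(yon S).map (Over.homMk l₀ ?_ : sq.ptT' ⟶ U), ?_, ?_⟩
    · have h1 := Over.w h
      have h2 := Over.w bot₀
      dsimp at h1 h2 ⊢
      rw [← h1, ← Category.assoc, hl2, h2]
    · rw [← Functor.map_comp, ← htop]
      congr 1
      apply Over.OverMorphism.ext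
      exact hl1
    · rw [← Functor.map_comp, ← hbot]
      congr 1
      apply Over.OverMorphism.ext
      exact hl2

theorem formallyUnramifiedMor_yon_map_iff :
    IsFormallyUnramifiedMor ((yon S).map h) ↔ FormallyUnramified h.left := by
  constructor
  · intro H
    refine FormallyUnramified.of_hom_ext h.left fun R T φ hφ hker g₁ g₂ h1 h2 => ?_
    let V' : Over S := Over.mk (g₁ ≫ U.hom)
    let W' : Over S := Over.mk (Spec.map φ ≫ g₁ ≫ U.hom)
    let t : W' ⟶ V' := Over.homMk (Spec.map φ) rfl
    haveI : IsClosedImmersion t.left := IsClosedImmersion.spec_of_surjective φ hφ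
    have hV' : IsAffine V'.left := by
      change IsAffine (Spec R)
      infer_instance
    have hw : g₂ ≫ U.hom = g₁ ≫ U.hom := by
      have := Over.w h
      rw [← this, ← Category.assoc, ← h2, Category.assoc]
    let m₁ : V' ⟶ U := Over.homMk g₁ rfl
    let m₂ : V' ⟶ U := Over.homMk g₂ hw
    have key := uniq_affine H hV' t (ker_specMap_mul φ hker) ((yon S).map m₁) ((yon S).map m₂)
      (by
        rw [← Functor.map_comp, ← Functor.map_comp]
        congr 1
        apply Over.OverMorphism.ext
        exact h1) (by
        rw [← Functor.map_comp, ← Functor.map_comp]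
        congr 1
        apply Over.OverMorphism.ext
        exact h2)
    exact congrArg (fun k => k.left) ((yon S).map_injective key)
  · intro H sq l l' h1 h2 h3 h4
    obtain ⟨l₀, rfl⟩ := (yon S).map_surjective l
    obtain ⟨l₀', rfl⟩ := (yon S).map_surjective l'
    congr 1
    have e1 : sq.j ≫ l₀ = sq.j ≫ l₀' :=
      (yon S).map_injective (by rw [Functor.map_comp, Functor.map_comp, h1, h3])
    have e2 : l₀ ≫ h = l₀' ≫ h :=
      (yon S).map_injective (by rw [Functor.map_comp, Functor.map_comp, h2, h4])
    apply Over.OverMorphism.ext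
    have hfo := isFirstOrderThickening_j sq
    haveI : IsClosedImmersion sq.j.left := hfo.1.1
    refine FormallyUnramified.hom_ext sq.j.left ⟨2, ?_⟩ h.left
      (congrArg (fun k => k.left) e1) (congrArg (fun k => k.left) e2)
    rw [pow_two]
    exact hfo.2

theorem formallyEtaleMor_yon_map_iff :
    IsFormallyEtaleMor ((yon S).map h) ↔ MoreMor.IsFormallyEtaleHom h.left := by
  constructor
  · intro H A _ I hI a b w
    obtain ⟨l, ⟨hl1, hl2⟩, hlu⟩ := H (sqOf h A I hI a b w)
    obtain ⟨l₀, rfl⟩ := (yon S).map_surjective l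
    refine ⟨l₀.left, ⟨?_, ?_⟩, ?_⟩
    · have := (yon S).map_injective ((Functor.map_comp _ _ _).trans hl1)
      exact congrArg (fun k => k.left) this
    · have := (yon S).map_injective ((Functor.map_comp _ _ _).trans hl2)
      exact congrArg (fun k => k.left) this
    · rintro l₁ ⟨h1, h2⟩
      have hw : l₁ ≫ U.hom = b ≫ V.hom := by
        have := Over.w h
        rw [← this, ← Category.assoc, h2]
      have := hlu ((yon S).map (Over.homMk l₁ hw : (sqOf h A I hI a b w).ptT' ⟶ U)) ⟨?_, ?_⟩
      · exact congrArg (fun k => k.left) ((yon S).map_injective this)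
      · change (yon S).map _ ≫ (yon S).map _ = (yon S).map _
        rw [← Functor.map_comp]
        congr 1
        apply Over.OverMorphism.ext
        exact h1
      · change (yon S).map _ ≫ (yon S).map _ = (yon S).map _
        rw [← Functor.map_comp]
        congr 1
        apply Over.OverMorphism.ext
        exact h2
  · intro H sq
    obtain ⟨top₀, htop⟩ := (yon S).map_surjective sq.top
    obtain ⟨bot₀, hbot⟩ := (yon S).map_surjective sq.bot
    have hcomm : top₀ ≫ h = sq.j ≫ bot₀ := by
      apply (yon S).map_injective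
      rw [Functor.map_comp, Functor.map_comp, htop, hbot]
      exact sq.comm
    obtain ⟨l₀, ⟨hl1, hl2⟩, hlu⟩ := H sq.A sq.I sq.sq_zero top₀.left bot₀.left
      (congrArg (fun k => k.left) hcomm).symm
    refine ⟨(yon S).map (Over.homMk l₀ ?_ : sq.ptT' ⟶ U), ⟨?_, ?_⟩, ?_⟩
    · have h1 := Over.w h
      have h2 := Over.w bot₀
      dsimp at h1 h2 ⊢
      rw [← h1, ← Category.assoc, hl2, h2]
    · rw [← Functor.map_comp, ← htop]
      congr 1
      apply Over.OverMorphism.ext
      exact hl1
    · rw [← Functor.map_comp, ← hbot]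
      congr 1
      apply Over.OverMorphism.ext
      exact hl2
    · rintro l ⟨h1, h2⟩
      obtain ⟨l₁, rfl⟩ := (yon S).map_surjective l
      congr 1
      apply Over.OverMorphism.ext
      refine hlu l₁.left ⟨?_, ?_⟩
      · have : sq.j ≫ l₁ = top₀ :=
          (yon S).map_injective (by rw [Functor.map_comp, h1, htop])
        exact congrArg (fun k => k.left) this
      · have : l₁ ≫ h = bot₀ :=
          (yon S).map_injective (by rw [Functor.map_comp, h2, hbot])
        exact congrArg (fun k => k.left) this

end yon

section charts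

open Groth.Agent.Lib.Helper46.LocPChart

variable {X Y : Sp S} (f : X ⟶ Y)

/-- A formally etale morphism of sheaves is formally etale on every chart diagram. -/
theorem locP_of_formallyEtaleMor (hf : IsFormallyEtaleMor f) :
    LocP @MoreMor.IsFormallyEtaleHom f := by
  intro U V a b h ha hb comm
  rw [← formallyEtaleMor_yon_map_iff]
  refine etale_of_comp ((yon S).map h) b
    (unramified_of_etale (formallyEtaleMor_of_repWith_etale hb)) ?_
  rw [← comm]
  exact etale_comp a f (formallyEtaleMor_of_repWith_etale ha) hf

/-- A formally unramified morphism of sheaves is formally unramified on every chart diagram. -/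
theorem locP_of_formallyUnramifiedMor (hf : IsFormallyUnramifiedMor f) :
    LocP @FormallyUnramified f := by
  intro U V a b h ha hb comm
  rw [← formallyUnramifiedMor_yon_map_iff]
  refine unramified_of_comp ((yon S).map h) b ?_
  rw [← comm]
  exact unramified_comp a f (unramified_of_etale (formallyEtaleMor_of_repWith_etale ha)) hf

/-- One chart diagram with surjective source chart and formally etale top arrow suffices. -/
theorem formallyEtaleMor_of_chart {U V : Over S} (a : (yon S).obj U ⟶ X)
    (b : (yon S).obj V ⟶ Y) (h : U ⟶ V) (ha : RepWith @Etale a) (has : RepWith @Surjective a)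
    (hb : RepWith @Etale b) (comm : a ≫ f = (yon S).map h ≫ b)
    (hh : MoreMor.IsFormallyEtaleHom h.left) : IsFormallyEtaleMor f := by
  refine etale_of_comp_etale_surj a f ha has ?_
  rw [comm]
  exact etale_comp _ _ ((formallyEtaleMor_yon_map_iff h).2 hh)
    (formallyEtaleMor_of_repWith_etale hb)

/-- One chart diagram with surjective source chart and formally unramified top arrow suffices. -/
theorem formallyUnramifiedMor_of_chart {U V : Over S} (a : (yon S).obj U ⟶ X)
    (b : (yon S).obj V ⟶ Y) (h : U ⟶ V) (ha : RepWith @Etale a) (has : RepWith @Surjective a)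
    (hb : RepWith @Etale b) (comm : a ≫ f = (yon S).map h ≫ b)
    (hh : FormallyUnramified h.left) : IsFormallyUnramifiedMor f := by
  refine unramified_of_comp_etale_surj a f ha has ?_
  rw [comm]
  exact unramified_comp _ _ ((formallyUnramifiedMor_yon_map_iff h).2 hh)
    (unramified_of_etale (formallyEtaleMor_of_repWith_etale hb))

theorem formallyEtaleMor_of_locP (hX : IsAlgSpace X) (hY : IsAlgSpace Y)
    (hf : LocP @MoreMor.IsFormallyEtaleHom f) : IsFormallyEtaleMor f := by
  obtain ⟨V, b, hbe, hbs⟩ := hY.atlas
  obtain ⟨U, a, h, d, -, -, -, -, hae, comm, has⟩ := exists_chart hX hY.diag f b hbe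
  exact formallyEtaleMor_of_chart f a b h hae (has hbs) hbe comm (hf a b h hae hbe comm)

theorem formallyUnramifiedMor_of_locP (hX : IsAlgSpace X) (hY : IsAlgSpace Y)
    (hf : LocP @FormallyUnramified f) : IsFormallyUnramifiedMor f := by
  obtain ⟨V, b, hbe, hbs⟩ := hY.atlas
  obtain ⟨U, a, h, d, -, -, -, -, hae, comm, has⟩ := exists_chart hX hY.diag f b hbe
  exact formallyUnramifiedMor_of_chart f a b h hae (has hbs) hbe comm (hf a b h hae hbe comm)

end charts

end Groth.Agent.Lib.Helper79.AlgSpFormalYon
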