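import Mathlib.CategoryTheory.Limits.Shapes.Diagonal
import Mathlib.CategoryTheory.Limits.Shapes.Pullback.IsPullback.Basic
import Mathlib.CategoryTheory.Limits.Shapes.BinaryProducts

/-!
# `X ×_Y X ⟶ X ⨯ X` is a base change of the diagonal of `Y` (helper79)
-/

set_option autoImplicit false
universe v u
open CategoryTheory CategoryTheory.Limits

namespace Groth.Agent.Lib.Helper79

variable {C : Type u} [Category.{v} C] [HasPullbacks C] [HasBinaryProducts C]

/-- The canonical map `X ×_Y X ⟶ X ⨯ X`. -/
noncomputable abbrev pullbackToProd {X Y : C} (f : X ⟶ Y) : pullback f f ⟶ X ⨯ X :=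
  prod.lift (pullback.fst f f) (pullback.snd f f)

set_option backward.isDefEq.respectTransparency false in
theorem isPullback_pullbackToProd {X Y : C} (f : X ⟶ Y) :
    IsPullback (pullback.fst f f ≫ f) (pullbackToProd f) (diag Y) (prod.map f f) := by
  have w : (pullback.fst f f ≫ f) ≫ diag Y = pullbackToProd f ≫ prod.map f f := by
    apply Limits.prod.hom_ext
    · simp
    · simp [pullback.condition]
  refine IsPullback.of_isLimit' ⟨w⟩ (PullbackCone.IsLimit.mk _ (fun s => pullback.lift
    (s.snd ≫ prod.fst) (s.snd ≫ prod.snd) ?_) (fun s => ?_) (fun s => ?_) (fun s m h1 h2 => ?_))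
  · have e1 := congrArg (fun φ => φ ≫ (prod.fst : Y ⨯ Y ⟶ Y)) s.condition
    have e2 := congrArg (fun φ => φ ≫ (prod.snd : Y ⨯ Y ⟶ Y)) s.condition
    simp only [Category.assoc, prod.map_fst, prod.map_snd] at e1 e2
    rw [Category.assoc, Category.assoc, ← e1, ← e2]
    simp
  · have e1 := congrArg (fun φ => φ ≫ (prod.fst : Y ⨯ Y ⟶ Y)) s.condition
    simp only [Category.assoc, prod.map_fst] at e1
    rw [← Category.assoc, pullback.lift_fst, Category.assoc, ← e1]
    simp
  · apply Limits.prod.hom_ext <;> simp
  · apply pullback.hom_ext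
    · rw [pullback.lift_fst, ← h2]; simp
    · rw [pullback.lift_snd, ← h2]; simp

set_option backward.isDefEq.respectTransparency false in
theorem diag_eq_diagonal_comp {X Y : C} (f : X ⟶ Y) :
    diag X = pullback.diagonal f ≫ pullbackToProd f := by
  apply Limits.prod.hom_ext <;> simp

end Groth.Agent.Lib.Helper79
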