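import Groth.Agent.Lib.Helper57.FOThick
import Mathlib.AlgebraicGeometry.Morphisms.Flat
import Mathlib.RingTheory.Flat.FaithfullyFlat.Algebra

/-!
# Vanishing of an ideal sheaf is flat-local (helper79)
-/

set_option autoImplicit false
universe u
open CategoryTheory CategoryTheory.Limits AlgebraicGeometry Opposite

namespace Groth.Agent.Lib.Helper79.IdealSheafLocal

open Scheme

/-- The stalk map of a flat morphism is injective. -/
theorem stalkMap_injective_of_flat {X Y : Scheme.{u}} (f : X ⟶ Y) [Flat f] (x : X) :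
    Function.Injective (f.stalkMap x).hom := by
  have hfl : (f.stalkMap x).hom.Flat := Flat.stalkMap f x
  algebraize [(f.stalkMap x).hom]
  have h1 : Module.Flat (Y.presheaf.stalk (f x)) (X.presheaf.stalk x) := hfl
  have h2 : IsLocalHom (algebraMap (Y.presheaf.stalk (f x)) (X.presheaf.stalk x)) :=
    (inferInstance : IsLocalHom (f.stalkMap x).hom)
  have h3 : Module.FaithfullyFlat (Y.presheaf.stalk (f x)) (X.presheaf.stalk x) :=
    Module.FaithfullyFlat.of_flat_of_isLocalHom
  exact FaithfulSMul.algebraMap_injective _ _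

/-- An ideal sheaf vanishes if it does so after pullback along a jointly surjective family of flat
morphisms. -/
theorem eq_bot_of_flat_cover {V : Scheme.{u}} (J : V.IdealSheafData)
    (H : ∀ x : V, ∃ (V' : Scheme.{u}) (q : V' ⟶ V) (y : V'), Flat q ∧ q y = x ∧ J.comap q = ⊥) :
    J = ⊥ := by
  refine IdealSheafData.ext_of_iSup_eq_top (fun W : V.affineOpens => W)
    (iSup_affineOpens_eq_top V) ?_
  intro W
  rw [IdealSheafData.ideal_bot]
  change J.ideal W = ⊥
  rw [eq_bot_iff]
  intro s hs
  rw [Ideal.mem_bot]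
  apply TopCat.Presheaf.section_ext V.sheaf W.1 s 0
  intro x hx
  change V.presheaf.germ W.1 x hx s = V.presheaf.germ W.1 x hx 0
  rw [map_zero]
  obtain ⟨V', q, y, hq, rfl, hJ⟩ := H x
  obtain ⟨U, hU, hyU, hUW⟩ := exists_isAffineOpen_mem_and_subset (U := q ⁻¹ᵁ W.1) (x := y) hx
  have h0 : (q.appLE W.1 U hUW).hom s = 0 := by
    have h1 : (q.appLE W.1 U hUW).hom s ∈ (J.comap q).ideal ⟨U, hU⟩ := by
      rw [Groth.Agent.Lib.Helper82.ideal_comap_of_le q J U hU W.1 W.2 hUW]
      exact Ideal.mem_map_of_mem _ hs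
    rw [hJ, IdealSheafData.ideal_bot] at h1
    exact h1
  apply stalkMap_injective_of_flat q y
  rw [map_zero]
  have h2 := Scheme.Hom.germ_stalkMap_apply q W.1 y hx s
  change (q.stalkMap y).hom (V.presheaf.germ W.1 (q y) hx s) = 0
  refine h2.trans ?_
  have h3 : V'.presheaf.germ (q ⁻¹ᵁ W.1) y hx (q.app W.1 s) =
      V'.presheaf.germ U y hyU ((q.appLE W.1 U hUW).hom s) := by
    rw [Scheme.Hom.appLE]
    change _ = V'.presheaf.germ U y hyU ((V'.presheaf.map (homOfLE hUW).op).hom ((q.app W.1).hom s))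
    exact (TopCat.Presheaf.germ_res_apply V'.presheaf (homOfLE hUW) y hyU _).symm
  rw [h3, h0, map_zero]

end Groth.Agent.Lib.Helper79.IdealSheafLocal
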