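import Groth.Agent.Lib.Helper79.AlgSpUnivThick

/-!
# Flat-local criteria for first order thickenings of sheaves; charts through a point (helper79)
-/

set_option autoImplicit false
universe u
open CategoryTheory CategoryTheory.Limits AlgebraicGeometry Opposite

namespace Groth.Agent.Lib.Helper79.AlgSpThickLocal

open AlgSp Groth.Agent.Lib.Helper79.AlgSpChart

variable {S : Scheme.{u}}

/-- **Flat-local criterion**: a represented pullback `snd : R ⟶ T` of a representable closed
immersion of sheaves is a first order thickening of schemes as soon as this holds flat-locally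
on `T`. -/
theorem isFirstOrderThickening_of_flat_local {A B : Sp S} {jm : A ⟶ B}
    (hjm : RepWith @IsClosedImmersion jm) {T R : Over S} (τ : (yon S).obj T ⟶ B)
    (fst : (yon S).obj R ⟶ A) (snd : R ⟶ T) (pb : IsPullback fst ((yon S).map snd) jm τ)
    (H : ∀ x : T.left, ∃ (T₁ R₁ : Over S) (q : T₁ ⟶ T) (y : T₁.left)
      (fst₁ : (yon S).obj R₁ ⟶ A) (snd₁ : R₁ ⟶ T₁), Flat q.left ∧ q.left y = x ∧
      IsPullback fst₁ ((yon S).map snd₁) jm ((yon S).map q ≫ τ) ∧
      MoreMor.IsFirstOrderThickening snd₁.left) :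
    MoreMor.IsFirstOrderThickening snd.left := by
  haveI : IsClosedImmersion snd.left := hjm.property τ fst snd pb
  -- the comparison square
  have key : ∀ {T₁ R₁ : Over S} (q : T₁ ⟶ T) (fst₁ : (yon S).obj R₁ ⟶ A) (snd₁ : R₁ ⟶ T₁),
      IsPullback fst₁ ((yon S).map snd₁) jm ((yon S).map q ≫ τ) →
      ∃ ψ : R₁ ⟶ R, IsPullback ψ.left snd₁.left snd.left q.left := by
    intro T₁ R₁ q fst₁ snd₁ pb₁
    obtain ⟨ψ, hψ⟩ := (yon S).map_surjective
      (pb.lift fst₁ ((yon S).map snd₁ ≫ (yon S).map q) (by simpa only [Category.assoc] using pb₁.w))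
    have h1 : (yon S).map ψ ≫ fst = fst₁ := by rw [hψ, pb.lift_fst]
    have h2 : (yon S).map ψ ≫ (yon S).map snd = (yon S).map snd₁ ≫ (yon S).map q := by
      rw [hψ, pb.lift_snd]
    rw [← h1] at pb₁
    exact ⟨ψ, isPullback_left_of_yon (IsPullback.of_right pb₁ h2 pb)⟩
  refine ⟨⟨inferInstance, ⟨fun x => ?_⟩⟩, ?_⟩
  · obtain ⟨T₁, R₁, q, y, fst₁, snd₁, -, hy, pb₁, hfo₁⟩ := H x
    obtain ⟨ψ, hψ⟩ := key q fst₁ snd₁ pb₁
    obtain ⟨z₁, hz₁⟩ := hfo₁.1.2.surj y
    refine ⟨ψ.left z₁, ?_⟩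
    have := congrArg (fun k : R₁.left ⟶ T.left => k z₁) hψ.w
    simp only [Scheme.Hom.comp_apply] at this
    rw [this, hz₁, hy]
  · apply Groth.Agent.Lib.Helper79.IdealSheafLocal.eq_bot_of_flat_cover
    intro x
    obtain ⟨T₁, R₁, q, y, fst₁, snd₁, hq, hy, pb₁, hfo₁⟩ := H x
    obtain ⟨ψ, hψ⟩ := key q fst₁ snd₁ pb₁
    refine ⟨T₁.left, q.left, y, hq, hy, ?_⟩
    rw [Groth.Agent.Lib.Helper57.FOThick.comap_mul,
      ← Groth.Agent.Lib.Helper57.FOThick.ker_of_isPullback hψ]
    exact hfo₁.2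

/-- **Affine etale charts through a point**: for a map `β : h_T ⟶ U` to an algebraic space and a
point `x` of `T` there are an etale `q : T₁ ⟶ T` whose image contains `x` and an affine etale chart
`bk : h_{Vk} ⟶ U` through which `q ≫ β` factors. -/
theorem exists_chart_at_point {U : Sp S} (hU : IsAlgSpace U) {T : Over S}
    (β : (yon S).obj T ⟶ U) (x : T.left) :
    ∃ (Vk T₁ : Over S) (bk : (yon S).obj Vk ⟶ U) (q : T₁ ⟶ T) (m : T₁ ⟶ Vk) (y : T₁.left),
      IsAffine Vk.left ∧ RepWith @Etale bk ∧ Etale q.left ∧ q.left y = x ∧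
      (yon S).map q ≫ β = (yon S).map m ≫ bk := by
  obtain ⟨V₀, p, hpe, hps⟩ := hU.atlas
  obtain ⟨T₁', r, q₁, sq₁, hq₁e⟩ := exists_pullback_chart @Etale hpe β
  have hq₁s : Surjective q₁.left := hps.property β ((yon S).map r) q₁ sq₁
  obtain ⟨y₁, hy₁⟩ := hq₁s.surj x
  obtain ⟨k, z, hz⟩ := V₀.left.affineCover.exists_eq (r.left y₁)
  let Vk : Over S := Over.mk (V₀.left.affineCover.f k ≫ V₀.hom)
  let gk : Vk ⟶ V₀ := Over.homMk (V₀.left.affineCover.f k) rfl
  have hVk : IsAffine Vk.left := by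
    change IsAffine (V₀.left.affineCover.X k)
    infer_instance
  have hgk : Etale gk.left := by
    change Etale (V₀.left.affineCover.f k)
    infer_instance
  have pbV : IsPullback (pullback.fst r gk) (pullback.snd r gk) r gk := IsPullback.of_hasPullback r gk
  have pbVl : IsPullback (pullback.fst r gk).left (pullback.snd r gk).left r.left gk.left :=
    pbV.map (Over.forget S)
  obtain ⟨yk, hyk1, -⟩ := Scheme.exists_preimage_of_isPullback pbVl y₁ z hz.symm
  have hfste : Etale (pullback.fst r gk).left :=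
    MorphismProperty.of_isPullback (P := @Etale) pbVl.flip hgk
  refine ⟨Vk, pullback r gk, (yon S).map gk ≫ p, pullback.fst r gk ≫ q₁, pullback.snd r gk, yk, hVk,
    repWith_map_comp @Etale gk hgk hpe, ?_, ?_, ?_⟩
  · rw [Over.comp_left]
    infer_instance
  · rw [Over.comp_left, Scheme.Hom.comp_apply, hyk1, hy₁]
  · rw [Functor.map_comp, Category.assoc, ← sq₁.w, ← Category.assoc, ← Functor.map_comp, pbV.w,
      Functor.map_comp, Category.assoc]

end Groth.Agent.Lib.Helper79.AlgSpThickLocal
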