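import Mathlib
import Groth.Agent.Lib.Helper52.KapDescent
import Groth.Agent.Lib.Helper4.FFDescent

/-!
# Projectivity is Zariski local (helper79)

From helper52's descent of projectivity along faithfully flat ring maps: if the localisations
`M_r` are projective over `R_r` for a family of `r` generating the unit ideal, then `M` is
projective over `R`.  No finiteness assumption.
-/

set_option autoImplicit false

universe u

namespace Groth.Agent.Lib.Helper79.ZarProj

open TensorProduct

theorem projective_finsupp (S B X : Type u) [CommRing S] [AddCommGroup B] [Module S B]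
    [Module.Projective S B] : Module.Projective S (X →₀ B) := by
  classical
  exact Module.Projective.of_equiv' (finsuppLequivDFinsupp (M := B) (ι := X) S).symm

/-- Transitivity of projectivity. -/
theorem projective_trans (S B Q : Type u) [CommRing S] [CommRing B] [Algebra S B]
    [AddCommGroup Q] [Module S Q] [Module B Q] [IsScalarTower S B Q] [Module.Projective S B]
    [Module.Projective B Q] : Module.Projective S Q := by
  obtain ⟨s, hs⟩ := Module.projective_def'.1 (inferInstance : Module.Projective B Q)
  haveI := projective_finsupp S B Q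
  exact Module.Projective.of_split (s.restrictScalars S)
    ((Finsupp.linearCombination B id).restrictScalars S) (by
      ext q
      exact LinearMap.congr_fun hs q)

theorem projective_pi_of_tower {S : Type u} [CommRing S] {ι : Type u} [Finite ι]
    (B : ι → Type u) [∀ i, CommRing (B i)] [∀ i, Algebra S (B i)]
    [∀ i, Module.Projective S (B i)]
    (Q : ι → Type u) [∀ i, AddCommGroup (Q i)] [∀ i, Module S (Q i)] [∀ i, Module (B i) (Q i)]
    [∀ i, IsScalarTower S (B i) (Q i)] [∀ i, Module.Projective (B i) (Q i)] :
    Module.Projective S (Π i, Q i) := by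
  classical
  haveI := Fintype.ofFinite ι
  haveI : ∀ i, Module.Projective S (Q i) := fun i => projective_trans S (B i) (Q i)
  exact Module.Projective.of_equiv' (DirectSum.linearEquivFunOnFintype S ι Q)

section PiTensor

variable {R : Type u} [CommRing R] {ι : Type u} [Fintype ι] [DecidableEq ι]
  (A : ι → Type u) [∀ i, CommRing (A i)] [∀ i, Algebra R (A i)]
  (M : Type u) [AddCommGroup M] [Module R M]

theorem projective_pi_tensor (h : ∀ i, Module.Projective (A i) (A i ⊗[R] M)) :
    Module.Projective (Π i, A i) ((Π i, A i) ⊗[R] M) := by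
  letI algS : ∀ i, Algebra (Π i, A i) (A i) := fun i => (Pi.evalRingHom A i).toAlgebra
  have halg : ∀ i (s : Π i, A i) (a : A i), s • a = s i * a := fun i s a => rfl
  haveI tw : ∀ i, IsScalarTower R (Π i, A i) (A i) := fun i =>
    IsScalarTower.of_algebraMap_eq (fun r => rfl)
  haveI : ∀ i, Module.Projective (Π i, A i) (A i) := fun i => by
    let sg : A i →ₗ[Π i, A i] (Π i, A i) :=
      { toFun := fun a => Pi.single i a
        map_add' := fun a b => Pi.single_add i a b
        map_smul' := fun s a => by
          rw [RingHom.id_apply, halg, smul_eq_mul]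
          ext j
          by_cases hj : j = i
          · subst hj; simp
          · simp [Pi.single_eq_of_ne hj] }
    let ev : (Π i, A i) →ₗ[Π i, A i] A i :=
      { toFun := fun s => s i
        map_add' := fun _ _ => rfl
        map_smul' := fun s t => by rw [RingHom.id_apply, halg, smul_eq_mul]; rfl }
    exact Module.Projective.of_split sg ev (by ext a; simp [sg, ev])
  letI modT : Module (Π i, A i) (Π i, A i ⊗[R] M) :=
    Pi.module ι (fun i => A i ⊗[R] M) (Π i, A i)
  haveI hT : Module.Projective (Π i, A i) (Π i, A i ⊗[R] M) :=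
    projective_pi_of_tower (S := Π i, A i) A (fun i => A i ⊗[R] M)
  haveI twT : IsScalarTower R (Π i, A i) (Π i, A i ⊗[R] M) :=
    ⟨fun r s x => by
      ext i
      change (r • s) • x i = r • (s • x i)
      exact smul_assoc r s (x i)⟩
  let φ₀ : M →ₗ[R] (Π i, A i ⊗[R] M) := LinearMap.pi (fun i => TensorProduct.mk R (A i) M 1)
  let φ : (Π i, A i) ⊗[R] M →ₗ[Π i, A i] (Π i, A i ⊗[R] M) := φ₀.liftBaseChange (Π i, A i)
  let ψi : ∀ i, A i ⊗[R] M →ₗ[R] (Π i, A i) ⊗[R] M := fun i =>
    LinearMap.rTensor M (LinearMap.single R A i)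
  have hψi : ∀ i (a : A i) (m : M), ψi i (a ⊗ₜ m) = (Pi.single i a : Π i, A i) ⊗ₜ[R] m :=
    fun i a m => rfl
  have hmul : ∀ i (s : Π i, A i) (a : A i), s * Pi.single i a = Pi.single i (s i * a) := by
    intro i s a
    ext j
    by_cases hj : j = i
    · subst hj; simp
    · simp [Pi.single_eq_of_ne hj]
  have hψis : ∀ i (s : Π i, A i) (q : A i ⊗[R] M), ψi i (s • q) = s • ψi i q := by
    intro i s q
    induction q using TensorProduct.induction_on with
    | zero => simp
    | tmul a m =>
      rw [TensorProduct.smul_tmul', hψi, hψi, TensorProduct.smul_tmul', halg, smul_eq_mul, hmul]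
    | add x y hx hy => rw [smul_add, map_add, hx, hy, map_add, smul_add]
  let ψ : (Π i, A i ⊗[R] M) →ₗ[Π i, A i] (Π i, A i) ⊗[R] M :=
    { toFun := fun x => ∑ i, ψi i (x i)
      map_add' := fun x y => by
        simp only [Pi.add_apply, map_add, Finset.sum_add_distrib]
      map_smul' := fun s x => by
        rw [RingHom.id_apply, Finset.smul_sum]
        refine Finset.sum_congr rfl fun i _ => ?_
        rw [← hψis]
        rfl }
  refine Module.Projective.of_split φ ψ ?_
  apply TensorProduct.AlgebraTensorModule.ext
  intro s m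
  change ψ (φ₀.liftBaseChange (Π i, A i) (s ⊗ₜ m)) = s ⊗ₜ m
  rw [LinearMap.liftBaseChange_tmul, map_smul]
  have h1 : ψ (φ₀ m) = (1 : Π i, A i) ⊗ₜ[R] m := by
    change ∑ i, ψi i ((1 : A i) ⊗ₜ[R] m) = _
    simp only [hψi]
    rw [← TensorProduct.sum_tmul, Finset.univ_sum_single]
    rfl
  rw [h1, TensorProduct.smul_tmul', smul_eq_mul, mul_one]

end PiTensor

/-- **Projectivity is Zariski local** (no finiteness hypotheses). -/
theorem projective_of_localizationSpan {R : Type u} [CommRing R] (s : Set R)
    (hs : Ideal.span s = ⊤) (M : Type u) [AddCommGroup M] [Module R M]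
    (h : ∀ r ∈ s, Module.Projective (Localization.Away r) (Localization.Away r ⊗[R] M)) :
    Module.Projective R M := by
  classical
  obtain ⟨s', hs's, hs'⟩ := (Ideal.span_eq_top_iff_finite s).mp hs
  let A : (↥s' : Type u) → Type u := fun r => Localization.Away r.1
  haveI : Module.FaithfullyFlat R (Π r : s', A r) := by
    apply Groth.Agent.Lib.Helper4.FFDescent.faithfullyFlat_pi
    intro m hm
    obtain ⟨r, hr, hrm⟩ : ∃ r ∈ s', r ∉ m := by
      by_contra hcon
      push Not at hcon
      have : Ideal.span (s' : Set R) ≤ m := Ideal.span_le.mpr hcon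
      rw [hs', top_le_iff] at this
      exact hm.ne_top this
    refine ⟨⟨r, hr⟩, ?_⟩
    rw [IsLocalization.map_algebraMap_ne_top_iff_disjoint (Submonoid.powers r)]
    rw [Set.disjoint_left]
    rintro _ ⟨k, rfl⟩ hk
    exact hrm (hm.isPrime.mem_of_pow_mem k hk)
  haveI : Module.Projective (Π r : s', A r) ((Π r : s', A r) ⊗[R] M) :=
    projective_pi_tensor A M (fun r => h r.1 (hs's r.2))
  exact Groth.Agent.Lib.Helper52.Kap.projective_of_faithfullyFlat_baseChange (Π r : s', A r)

end Groth.Agent.Lib.Helper79.ZarProj
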