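import Mathlib

/-!
# Gluing sections of sheaves on the small étale site over disjoint open covers (helper79)

* `exists_arrow_of_mem`: a covering sieve of `U` in the small étale site contains, for each point of
  `U`, an arrow whose image contains it.
* `ofArrows_mem`: jointly surjective families generate covering sieves.
* `subsingleton_of_isEmpty`: a sheaf of sets has at most one section over an empty scheme.
* `openObj`, `openι`: open subschemes as objects of the small étale site.
* `existsUnique_glue_of_disjoint`: sections over a pairwise disjoint open cover glue uniquely.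
-/

set_option autoImplicit false
universe w u
open CategoryTheory CategoryTheory.Limits AlgebraicGeometry Opposite

namespace Groth.Agent.Lib.Helper79.EtSiteGlue

variable {X : Scheme.{u}}

set_option backward.isDefEq.respectTransparency false in
set_option backward.isDefEq.respectTransparency.types false in
theorem exists_arrow_of_mem {U : X.Etale} {R : Sieve U} (hR : R ∈ X.smallEtaleTopology U)
    (x : U.left) : ∃ (Z : X.Etale) (g : Z ⟶ U), R g ∧ x ∈ Set.range g.left := by
  obtain ⟨𝒰, h𝒰, p, hle⟩ := (Scheme.mem_smallGrothendieckTopology _ _).1 hR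
  obtain ⟨j, y, hy⟩ := 𝒰.exists_eq x
  exact ⟨_, _, hle _ _ (Presieve.ofArrows.mk j), y, hy⟩

theorem ofArrows_mem {U : X.Etale} {ι : Type*} {Z : ι → X.Etale} (g : ∀ i, Z i ⟶ U)
    (h : ∀ x : U.left, ∃ i, x ∈ Set.range (g i).left) :
    Sieve.ofArrows Z g ∈ X.smallEtaleTopology U := by
  rw [Scheme.ofArrows_mem_smallEtaleTopology_iff]
  ext x
  simp only [Set.mem_iUnion, Set.mem_univ, iff_true]
  exact h x

theorem subsingleton_of_isEmpty {P : X.Etaleᵒᵖ ⥤ Type w}
    (hP : Presieve.IsSheaf X.smallEtaleTopology P) (Z : X.Etale) [IsEmpty Z.left] :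
    Subsingleton (P.obj (op Z)) := by
  have hcov : Sieve.ofArrows (fun i : PEmpty.{1} => Z) (fun i => i.elim) ∈
      X.smallEtaleTopology Z := ofArrows_mem _ (fun x => (IsEmpty.false x).elim)
  refine ⟨fun s t => ?_⟩
  refine (hP.isSeparated _ hcov).ext ?_
  rintro W k ⟨_, _, _, ⟨i⟩, _⟩
  exact i.elim

/-- an open subscheme of an object of the small étale site, as an object of that site -/
noncomputable def openObj (U : X.Etale) (W : U.left.Opens) : X.Etale :=
  Scheme.Etale.mk (W.ι ≫ U.hom)

/-- the inclusion of an open subscheme in the small étale site -/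
noncomputable def openι (U : X.Etale) (W : U.left.Opens) : openObj U W ⟶ U :=
  MorphismProperty.Over.homMk W.ι rfl trivial

@[simp] theorem openι_left (U : X.Etale) (W : U.left.Opens) : (openι U W).left = W.ι := rfl

set_option backward.isDefEq.respectTransparency false in
set_option backward.isDefEq.respectTransparency.types false in
/-- sections over a jointly surjective family of monomorphisms with pairwise disjoint images glue
uniquely -/
theorem existsUnique_glue_of_disjoint' {P : X.Etaleᵒᵖ ⥤ Type w}
    (hP : Presieve.IsSheaf X.smallEtaleTopology P) (U : X.Etale) {μ : Type*}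
    (Wo : μ → X.Etale) (ι : ∀ a, Wo a ⟶ U) (hmono : ∀ a, Mono (ι a).left)
    (hd : ∀ a b, a ≠ b → Disjoint (Set.range (ι a).left) (Set.range (ι b).left))
    (hsurj : ∀ x : U.left, ∃ a, x ∈ Set.range (ι a).left)
    (t : ∀ a, P.obj (op (Wo a))) :
    ∃! s : P.obj (op U), ∀ a, P.map (ι a).op s = t a := by
  have hcov : Sieve.ofArrows Wo ι ∈ X.smallEtaleTopology U := ofArrows_mem _ hsurj
  have hsf : (Presieve.ofArrows Wo ι).IsSheafFor P := by
    rw [Presieve.isSheafFor_iff_generate]
    exact hP _ hcov
  refine (Presieve.isSheafFor_arrows_iff P _).1 hsf t ?_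
  intro a b Z ga gb hab
  have hl : ga.left ≫ (ι a).left = gb.left ≫ (ι b).left := congrArg (fun k => k.left) hab
  by_cases hab' : a = b
  · subst hab'
    haveI := hmono a
    have : ga = gb := MorphismProperty.Over.Hom.ext ((cancel_mono (ι a).left).1 hl)
    rw [this]
  · haveI : IsEmpty Z.left := by
      refine ⟨fun z => ?_⟩
      have h1 : (ga.left ≫ (ι a).left) z ∈ Set.range (ι a).left := by
        rw [Scheme.Hom.comp_apply]
        exact ⟨_, rfl⟩
      have h2 : (ga.left ≫ (ι a).left) z ∈ Set.range (ι b).left := by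
        rw [hl, Scheme.Hom.comp_apply]
        exact ⟨_, rfl⟩
      exact Set.disjoint_left.1 (hd a b hab') h1 h2
    exact (subsingleton_of_isEmpty hP Z).elim _ _

/-- a separatedness statement for jointly surjective families -/
theorem eq_of_forall_map_eq {P : X.Etaleᵒᵖ ⥤ Type w}
    (hP : Presieve.IsSheaf X.smallEtaleTopology P) (U : X.Etale) {μ : Type*}
    (Wo : μ → X.Etale) (ι : ∀ a, Wo a ⟶ U)
    (hsurj : ∀ x : U.left, ∃ a, x ∈ Set.range (ι a).left) (s s' : P.obj (op U))
    (h : ∀ a, P.map (ι a).op s = P.map (ι a).op s') : s = s' := by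
  have hcov : Sieve.ofArrows Wo ι ∈ X.smallEtaleTopology U := ofArrows_mem _ hsurj
  refine (hP.isSeparated _ hcov).ext ?_
  rintro W k ⟨_, k', _, ⟨a⟩, rfl⟩
  rw [op_comp, CategoryTheory.FunctorToTypes.map_comp_apply P,
    CategoryTheory.FunctorToTypes.map_comp_apply P, h a]

set_option backward.isDefEq.respectTransparency false in
set_option backward.isDefEq.respectTransparency.types false in
theorem existsUnique_glue_of_disjoint {P : X.Etaleᵒᵖ ⥤ Type w}
    (hP : Presieve.IsSheaf X.smallEtaleTopology P) (U : X.Etale) {μ : Type*}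
    (W : μ → U.left.Opens) (hd : ∀ a b, a ≠ b → Disjoint (W a) (W b)) (hW : (⨆ a, W a) = ⊤)
    (t : ∀ a, P.obj (op (openObj U (W a)))) :
    ∃! s : P.obj (op U), ∀ a, P.map (openι U (W a)).op s = t a := by
  have hcov : Sieve.ofArrows (fun a => openObj U (W a)) (fun a => openι U (W a)) ∈
      X.smallEtaleTopology U := by
    refine ofArrows_mem _ fun x => ?_
    have hx : x ∈ (⨆ a, W a) := by rw [hW]; trivial
    obtain ⟨a, ha⟩ := TopologicalSpace.Opens.mem_iSup.1 hx
    refine ⟨a, ?_⟩
    exact ⟨⟨x, ha⟩, rfl⟩
  have hsf : (Presieve.ofArrows (fun a => openObj U (W a)) (fun a => openι U (W a))).IsSheafFor P := by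
    rw [Presieve.isSheafFor_iff_generate]
    exact hP _ hcov
  refine (Presieve.isSheafFor_arrows_iff P _).1 hsf t ?_
  intro a b Z ga gb hab
  have hl : ga.left ≫ (W a).ι = gb.left ≫ (W b).ι := by
    exact congrArg (fun k => k.left) hab
  by_cases hab' : a = b
  · subst hab'
    have : ga = gb := MorphismProperty.Over.Hom.ext ((cancel_mono (W a).ι).1 hl)
    rw [this]
  · haveI : IsEmpty Z.left := by
      refine ⟨fun z => ?_⟩
      have h1 : (ga.left ≫ (W a).ι) z ∈ W a := by
        rw [Scheme.Hom.comp_apply]
        exact (ga.left z).2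
      have h2 : (ga.left ≫ (W a).ι) z ∈ W b := by
        rw [hl, Scheme.Hom.comp_apply]
        exact (gb.left z).2
      exact (hd a b hab').le_bot ⟨h1, h2⟩
    exact (subsingleton_of_isEmpty hP Z).elim _ _

/-- a sieve containing, for each point, an arrow whose image contains it, is covering -/
theorem mem_of_forall_exists {U : X.Etale} (R : Sieve U)
    (h : ∀ x : U.left, ∃ (Z : X.Etale) (g : Z ⟶ U), R g ∧ x ∈ Set.range g.left) :
    R ∈ X.smallEtaleTopology U := by
  choose Z g hg hx using h
  refine X.smallEtaleTopology.superset_covering ?_ (ofArrows_mem g (fun x => ⟨x, hx x⟩))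
  rintro W k ⟨_, k', _, ⟨x⟩, rfl⟩
  exact R.downward_closed (hg x) k'

/-- the empty sieve covers an object with empty underlying space -/
theorem bot_mem_of_isEmpty (Z : X.Etale) [IsEmpty Z.left] :
    (⊥ : Sieve Z) ∈ X.smallEtaleTopology Z :=
  mem_of_forall_exists _ (fun x => (IsEmpty.false x).elim)

set_option backward.isDefEq.respectTransparency false in
set_option backward.isDefEq.respectTransparency.types false in
/-- gluing over two disjoint pieces -/
theorem existsUnique_glue_two {P : X.Etaleᵒᵖ ⥤ Type w}
    (hP : Presieve.IsSheaf X.smallEtaleTopology P) (U : X.Etale) {W1 W2 : X.Etale}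
    (i1 : W1 ⟶ U) (i2 : W2 ⟶ U) (hm1 : Mono i1.left) (hm2 : Mono i2.left)
    (hd : Disjoint (Set.range i1.left) (Set.range i2.left))
    (hs : ∀ x : U.left, x ∈ Set.range i1.left ∨ x ∈ Set.range i2.left)
    (t1 : P.obj (op W1)) (t2 : P.obj (op W2)) :
    ∃! s : P.obj (op U), P.map i1.op s = t1 ∧ P.map i2.op s = t2 := by
  let Wo : Bool → X.Etale := fun b => Bool.rec W2 W1 b
  let ι : ∀ b, Wo b ⟶ U := fun b => Bool.rec (motive := fun b => Wo b ⟶ U) i2 i1 b
  let t : ∀ b, P.obj (op (Wo b)) := fun b =>
    Bool.rec (motive := fun b => P.obj (op (Wo b))) t2 t1 b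
  have hmono : ∀ b, Mono (ι b).left := by
    intro b; cases b
    · exact hm2
    · exact hm1
  have hdis : ∀ b c, b ≠ c → Disjoint (Set.range (ι b).left) (Set.range (ι c).left) := by
    intro b c hbc
    cases b <;> cases c
    · exact absurd rfl hbc
    · exact hd.symm
    · exact hd
    · exact absurd rfl hbc
  have hsurj : ∀ x : U.left, ∃ b, x ∈ Set.range (ι b).left := by
    intro x
    rcases hs x with h | h
    · exact ⟨true, h⟩
    · exact ⟨false, h⟩
  obtain ⟨s, hs1, hs2⟩ := existsUnique_glue_of_disjoint' hP U Wo ι hmono hdis hsurj t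
  refine ⟨s, ⟨hs1 true, hs1 false⟩, ?_⟩
  intro s' hs'
  apply hs2
  intro b
  cases b
  · exact hs'.2
  · exact hs'.1

end Groth.Agent.Lib.Helper79.EtSiteGlue
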