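import Mathlib.AlgebraicGeometry.Morphisms.FiniteType
import Mathlib.RingTheory.Jacobson.Ring
import Mathlib.FieldTheory.IsAlgClosed.Basic
import Mathlib.AlgebraicGeometry.AffineScheme

/-!
# A nonempty scheme locally of finite type over an algebraically closed field has a rational point
(helper79)
-/

set_option autoImplicit false
universe u
open CategoryTheory CategoryTheory.Limits AlgebraicGeometry

namespace Groth.Agent.Lib.Helper79

/-- Ring-level: a nontrivial finite type algebra over an algebraically closed field has a retraction. -/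
theorem exists_retraction_of_finiteType {k A : Type u} [Field k] [IsAlgClosed k] [CommRing A]
    [Nontrivial A] (ψ : k →+* A) (hψ : ψ.FiniteType) : ∃ ρ : A →+* k, ρ.comp ψ = RingHom.id k := by
  obtain ⟨m, hm⟩ := Ideal.exists_maximal A
  letI := Ideal.Quotient.field m
  let θ : k →+* A ⧸ m := (Ideal.Quotient.mk m).comp ψ
  have hθ : θ.FiniteType :=
    (RingHom.FiniteType.of_surjective _ Ideal.Quotient.mk_surjective).comp hψ
  letI : Algebra k (A ⧸ m) := θ.toAlgebra
  haveI : Algebra.FiniteType k (A ⧸ m) := hθ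
  haveI : Module.Finite k (A ⧸ m) := finite_of_finite_type_of_isJacobsonRing k (A ⧸ m)
  have hbij : Function.Bijective (algebraMap k (A ⧸ m)) :=
    IsAlgClosed.algebraMap_bijective_of_isIntegral
  let e : k ≃+* A ⧸ m := RingEquiv.ofBijective (algebraMap k (A ⧸ m)) hbij
  refine ⟨(e.symm : A ⧸ m →+* k).comp (Ideal.Quotient.mk m), ?_⟩
  ext a
  change e.symm (Ideal.Quotient.mk m (ψ a)) = a
  rw [RingEquiv.symm_apply_eq]
  rfl

/-- A nonempty scheme locally of finite type over an algebraically closed field has a section. -/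
theorem exists_section_of_lft {k : Type u} [Field k] [IsAlgClosed k] {T : Scheme.{u}}
    (g : T ⟶ Spec (CommRingCat.of k)) [LocallyOfFiniteType g] [Nonempty T] :
    ∃ σ : Spec (CommRingCat.of k) ⟶ T, σ ≫ g = 𝟙 _ := by
  obtain ⟨t⟩ := ‹Nonempty T›
  obtain ⟨U, hU, htU⟩ : ∃ U : T.Opens, IsAffineOpen U ∧ t ∈ U := by
    obtain ⟨_, ⟨U, hU, rfl⟩, htU, -⟩ :=
      (T.isBasis_affineOpens).exists_subset_of_mem_open (Set.mem_univ t) isOpen_univ
    exact ⟨U, hU, htU⟩
  obtain ⟨ψ, hψ⟩ := Spec.map_surjective (hU.fromSpec ≫ g)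
  have hlft : LocallyOfFiniteType (Spec.map ψ) := by rw [hψ]; infer_instance
  have hft : ψ.hom.FiniteType := (HasRingHomProperty.Spec_iff (P := @LocallyOfFiniteType)).mp hlft
  haveI : Nontrivial Γ(T, U) := by
    have : t ∈ Set.range hU.fromSpec := by rw [hU.range_fromSpec]; exact htU
    obtain ⟨x, -⟩ := this
    exact (PrimeSpectrum.nonempty_iff_nontrivial).mp ⟨x⟩
  obtain ⟨ρ, hρ⟩ := exists_retraction_of_finiteType ψ.hom hft
  refine ⟨Spec.map (CommRingCat.ofHom ρ) ≫ hU.fromSpec, ?_⟩
  rw [Category.assoc, ← hψ, ← Spec.map_comp]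
  have : ψ ≫ CommRingCat.ofHom ρ = 𝟙 _ := by
    ext a
    exact congrArg (fun φ => φ a) hρ
  rw [this, Spec.map_id]

end Groth.Agent.Lib.Helper79
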