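import Mathlib.AlgebraicGeometry.Pullbacks
import Mathlib.CategoryTheory.Comma.Over.Pullback

/-!
# The cartesian square attached to `(Over.pullback g).map k`
-/

set_option autoImplicit false
universe v u

open CategoryTheory Limits

namespace Groth.Agent.Lib.Helper79

variable {C : Type u} [Category.{v} C] [HasPullbacks C]

theorem isPullback_overPullback_map {S S' : C} (g : S' ⟶ S) {A B : Over S} (k : A ⟶ B) :
    IsPullback (pullback.fst A.hom g) ((Over.pullback g).map k).left k.left
      (pullback.fst B.hom g) := by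
  have hr : IsPullback (pullback.snd B.hom g) (pullback.fst B.hom g) g B.hom :=
    (IsPullback.of_hasPullback B.hom g).flip
  have ho : IsPullback (((Over.pullback g).map k).left ≫ pullback.snd B.hom g)
      (pullback.fst A.hom g) g (k.left ≫ B.hom) := by
    have e1 : ((Over.pullback g).map k).left ≫ pullback.snd B.hom g = pullback.snd A.hom g :=
      pullback.lift_snd _ _ _
    rw [e1, Over.w k]
    exact (IsPullback.of_hasPullback A.hom g).flip
  have hc : ((Over.pullback g).map k).left ≫ pullback.fst B.hom g =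
      pullback.fst A.hom g ≫ k.left :=
    pullback.lift_fst _ _ _
  exact (ho.of_right hc hr).flip

@[reassoc]
theorem overPullback_map_left_fst {S S' : C} (g : S' ⟶ S) {A B : Over S} (k : A ⟶ B) :
    ((Over.pullback g).map k).left ≫ pullback.fst B.hom g = pullback.fst A.hom g ≫ k.left :=
  (isPullback_overPullback_map g k).w.symm

@[reassoc]
theorem overPullback_map_left_snd {S S' : C} (g : S' ⟶ S) {A B : Over S} (k : A ⟶ B) :
    ((Over.pullback g).map k).left ≫ pullback.snd B.hom g = pullback.snd A.hom g :=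
  pullback.lift_snd _ _ _

/-- the cartesian square attached to `pullback.map _ g _ g k (𝟙 _) (𝟙 _)`. -/
theorem isPullback_pullback_map_id {A B S S' : C} (A' : A ⟶ S) (B' : B ⟶ S) (g : S' ⟶ S)
    (k : A ⟶ B) (e₁ : A' ≫ 𝟙 S = k ≫ B') (e₂ : g ≫ 𝟙 S = 𝟙 S' ≫ g) :
    IsPullback (pullback.fst A' g) (pullback.map A' g B' g k (𝟙 S') (𝟙 S) e₁ e₂) k
      (pullback.fst B' g) := by
  have hr : IsPullback (pullback.snd B' g) (pullback.fst B' g) g B' :=
    (IsPullback.of_hasPullback B' g).flip
  have hA : A' = k ≫ B' := by rw [← e₁, Category.comp_id]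
  have ho : IsPullback (pullback.map A' g B' g k (𝟙 S') (𝟙 S) e₁ e₂ ≫ pullback.snd B' g)
      (pullback.fst A' g) g (k ≫ B') := by
    have e1 : pullback.map A' g B' g k (𝟙 S') (𝟙 S) e₁ e₂ ≫ pullback.snd B' g =
        pullback.snd A' g := by
      rw [pullback.lift_snd, Category.comp_id]
    rw [e1, ← hA]
    exact (IsPullback.of_hasPullback A' g).flip
  have hc : pullback.map A' g B' g k (𝟙 S') (𝟙 S) e₁ e₂ ≫ pullback.fst B' g =
      pullback.fst A' g ≫ k :=
    pullback.lift_fst _ _ _
  exact (ho.of_right hc hr).flip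

end Groth.Agent.Lib.Helper79
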