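import Groth.Prelude.Def_AlgSp4
import Mathlib.AlgebraicGeometry.Morphisms.ClosedImmersion
import Mathlib.AlgebraicGeometry.Morphisms.Affine

/-!
# Affine morphisms of fppf sheaves: base change, composition (helper79)
-/

set_option autoImplicit false
universe u
open CategoryTheory CategoryTheory.Limits AlgebraicGeometry

namespace Groth.Agent.Lib.Helper79.AlgSpAffine

open AlgSp

variable {S : Scheme.{u}}

/-- Affine morphisms are stable under base change: in a pullback square with `f` on the right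
and `f'` on the left, `f` affine implies `f'` affine. -/
theorem isAffineMor_of_isPullback {F' F G' G : Sp S} {t : F' ⟶ F} {f' : F' ⟶ G'} {f : F ⟶ G}
    {u : G' ⟶ G} (sq : IsPullback t f' f u) (hf : IsAffineMor f) : IsAffineMor f' := by
  intro Z hZ z
  obtain ⟨W, i, fst, hsq, hW⟩ := hf hZ (z ≫ u)
  have hcomm : fst ≫ f = ((yon S).map i ≫ z) ≫ u := by rw [hsq.w, Category.assoc]
  refine ⟨W, i, sq.lift fst ((yon S).map i ≫ z) hcomm, ?_, hW⟩
  have h1 : sq.lift fst ((yon S).map i ≫ z) hcomm ≫ t = fst := sq.lift_fst _ _ _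
  have h2 : sq.lift fst ((yon S).map i ≫ z) hcomm ≫ f' = (yon S).map i ≫ z := sq.lift_snd _ _ _
  rw [← h1] at hsq
  exact IsPullback.of_right hsq h2 sq

/-- Affine morphisms are stable under composition. -/
theorem isAffineMor_comp {F G H : Sp S} {f : F ⟶ G} {g : G ⟶ H} (hf : IsAffineMor f)
    (hg : IsAffineMor g) : IsAffineMor (f ≫ g) := by
  intro Z hZ z
  obtain ⟨W₁, i₁, fst₁, sq₁, hW₁⟩ := hg hZ z
  obtain ⟨W₂, i₂, fst₂, sq₂, hW₂⟩ := hf hW₁ fst₁
  refine ⟨W₂, i₂ ≫ i₁, fst₂, ?_, hW₂⟩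
  rw [Functor.map_comp]
  exact sq₂.paste_vert sq₁

/-- A representable closed immersion is affine. -/
theorem isAffineMor_of_repWith_isClosedImmersion {F G : Sp S} {f : F ⟶ G}
    (hf : RepWith @IsClosedImmersion f) : IsAffineMor f := by
  intro Z hZ z
  refine ⟨_, hf.rep.snd z, hf.rep.fst z, hf.rep.isPullback z, ?_⟩
  haveI : IsClosedImmersion (hf.rep.snd z).left := hf.property_snd z
  haveI := hZ
  exact isAffine_of_isAffineHom (hf.rep.snd z).left

end Groth.Agent.Lib.Helper79.AlgSpAffine
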