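import Groth.Prelude.Def_AlgSpInf
import Groth.Agent.Lib.Helper19.FormallyEtaleGlue
import Groth.Agent.Lib.Helper37.AlgSpFormal

/-!
# Infinitesimal lifting for morphisms of fppf sheaves against first order thickenings of affine
schemes (helper79)

`AlgSp.IsFormallyUnramifiedMor` / `AlgSp.IsFormallySmoothMor` are tested on the model pairs
`Spec (A ⧸ I) ⟶ Spec A`.  Here: every closed immersion `t : W ⟶ V` of schemes over `S` with `V`
affine and square-zero kernel is isomorphic over `S` to a model pair (`exists_model`), hence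
the lifting properties hold against all such `t` (`uniq_affine`, `exists_affine`).
-/

set_option autoImplicit false
universe u
open CategoryTheory CategoryTheory.Limits AlgebraicGeometry Opposite

namespace Groth.Agent.Lib.Helper79.AlgSpFormalAffine

open AlgSp Groth.Agent.Lib.Helper19.FEG

variable {S : Scheme.{u}}

/-- For a closed immersion `t : W ⟶ V` into an affine scheme, the chart
`Spec (Γ(V, ⊤) ⧸ I(⊤)) ⟶ W` is an isomorphism. -/
theorem isIso_cU_top {W V : Scheme.{u}} [IsAffine V] (t : W ⟶ V) [IsClosedImmersion t] :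
    IsIso (cU t ⟨⊤, isAffineOpen_top V⟩) := by
  set U₀ : V.affineOpens := ⟨⊤, isAffineOpen_top V⟩ with hU₀
  have hiso : IsIso U₀.2.fromSpec := by
    have : U₀.2.fromSpec = V.isoSpec.inv := IsAffineOpen.fromSpec_top
    rw [this]; infer_instance
  obtain ⟨r, hr1, hr2⟩ := exists_factor t U₀ (𝟙 W) (t ≫ inv U₀.2.fromSpec) (by simp)
  refine ⟨r, ?_, hr1⟩
  have hmono : Mono (Spec.map (CommRingCat.ofHom (Ideal.Quotient.mk (t.ker.ideal U₀)))) := by
    have : IsClosedImmersion (Spec.map (CommRingCat.ofHom (Ideal.Quotient.mk (t.ker.ideal U₀)))) :=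
      IsClosedImmersion.spec_of_surjective _ Ideal.Quotient.mk_surjective
    infer_instance
  rw [← cancel_mono (Spec.map (CommRingCat.ofHom (Ideal.Quotient.mk (t.ker.ideal U₀))))]
  rw [Category.assoc, hr2, ← Category.assoc, cU_comp, Category.assoc, IsIso.hom_inv_id,
    Category.comp_id, Category.id_comp]

/-- Every square-zero closed immersion of schemes over `S` into an affine scheme is isomorphic
over `S` to a model pair `Spec (A ⧸ I) ⟶ Spec A`. -/
theorem exists_model {V W : Over S} (hV : IsAffine V.left) (t : W ⟶ V) [IsClosedImmersion t.left]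
    (hsq : t.left.ker * t.left.ker = ⊥) :
    ∃ (A : Type u) (_ : CommRing A) (I : Ideal A) (_ : I ^ 2 = ⊥) (str : Spec (.of A) ⟶ S)
      (e : Over.mk (Spec.map (CommRingCat.ofHom (Ideal.Quotient.mk I)) ≫ str) ≅ W)
      (e' : Over.mk str ≅ V),
      e.hom ≫ t = (Over.homMk (Spec.map (CommRingCat.ofHom (Ideal.Quotient.mk I))) rfl :
        Over.mk (Spec.map (CommRingCat.ofHom (Ideal.Quotient.mk I)) ≫ str) ⟶ Over.mk str) ≫
          e'.hom := by
  set U₀ : V.left.affineOpens := ⟨⊤, isAffineOpen_top V.left⟩ with hU₀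
  have hiso : IsIso U₀.2.fromSpec := by
    have : U₀.2.fromSpec = V.left.isoSpec.inv := IsAffineOpen.fromSpec_top
    rw [this]; infer_instance
  have hI : t.left.ker.ideal U₀ ^ 2 = ⊥ := by
    rw [pow_two]
    exact congrArg (fun I : V.left.IdealSheafData => I.ideal U₀) hsq
  have hc : IsIso (cU t.left U₀) := isIso_cU_top t.left
  have hcomp := cU_comp t.left U₀
  refine ⟨Γ(V.left, ⊤), inferInstance, t.left.ker.ideal U₀, hI, U₀.2.fromSpec ≫ V.hom,
    Over.isoMk (asIso (cU t.left U₀)) ?_, Over.isoMk (asIso U₀.2.fromSpec) ?_, ?_⟩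
  · have := Over.w t
    dsimp at this ⊢
    rw [← this, ← Category.assoc, hcomp, Category.assoc]
  · simp
  · apply Over.OverMorphism.ext
    simpa using hcomp

/-- A formally unramified morphism of sheaves has at most one lift against a square-zero closed
immersion of schemes over `S` with affine target. -/
theorem uniq_affine {F G : Sp S} {f : F ⟶ G} (hf : IsFormallyUnramifiedMor f) {V W : Over S}
    (hV : IsAffine V.left) (t : W ⟶ V) [IsClosedImmersion t.left]
    (hsq : t.left.ker * t.left.ker = ⊥) (m m' : (yon S).obj V ⟶ F)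
    (h1 : (yon S).map t ≫ m = (yon S).map t ≫ m') (h2 : m ≫ f = m' ≫ f) : m = m' := by
  obtain ⟨A, _, I, hI, str, e, e', he⟩ := exists_model hV t hsq
  let sq : InfSq f :=
    { A := A
      I := I
      sq_zero := hI
      str := str
      top := (yon S).map e.hom ≫ (yon S).map t ≫ m
      bot := (yon S).map e'.hom ≫ m ≫ f
      comm := by
        rw [← Category.assoc ((yon S).map _) ((yon S).map _), ← Functor.map_comp, he,
          Functor.map_comp]
        simp only [Category.assoc] }
  have key := hf sq ((yon S).map e'.hom ≫ m) ((yon S).map e'.hom ≫ m') (by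
      change _ ≫ _ ≫ _ = (yon S).map e.hom ≫ (yon S).map t ≫ m
      rw [← Category.assoc ((yon S).map _) ((yon S).map _), ← Functor.map_comp]
      change (yon S).map (_ ≫ e'.hom) ≫ m = _
      rw [← he, Functor.map_comp, Category.assoc]) (by
      change _ = (yon S).map e'.hom ≫ m ≫ f
      rw [Category.assoc]) (by
      change _ ≫ _ ≫ _ = (yon S).map e.hom ≫ (yon S).map t ≫ m
      rw [← Category.assoc ((yon S).map _) ((yon S).map _), ← Functor.map_comp]
      change (yon S).map (_ ≫ e'.hom) ≫ m' = _
      rw [← he, Functor.map_comp, Category.assoc, h1]) (by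
      change _ = (yon S).map e'.hom ≫ m ≫ f
      rw [Category.assoc, h2])
  have hiso : IsIso ((yon S).map e'.hom) := inferInstance
  exact (cancel_epi ((yon S).map e'.hom)).1 key

/-- A formally smooth morphism of sheaves has a lift against every square-zero closed immersion of
schemes over `S` with affine target. -/
theorem exists_affine {F G : Sp S} {f : F ⟶ G} (hf : IsFormallySmoothMor f) {V W : Over S}
    (hV : IsAffine V.left) (t : W ⟶ V) [IsClosedImmersion t.left]
    (hsq : t.left.ker * t.left.ker = ⊥) (a : (yon S).obj W ⟶ F) (b : (yon S).obj V ⟶ G)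
    (w : a ≫ f = (yon S).map t ≫ b) :
    ∃ l : (yon S).obj V ⟶ F, (yon S).map t ≫ l = a ∧ l ≫ f = b := by
  obtain ⟨A, _, I, hI, str, e, e', he⟩ := exists_model hV t hsq
  let sq : InfSq f :=
    { A := A
      I := I
      sq_zero := hI
      str := str
      top := (yon S).map e.hom ≫ a
      bot := (yon S).map e'.hom ≫ b
      comm := by
        rw [Category.assoc, w, ← Category.assoc, ← Functor.map_comp, he, Functor.map_comp,
          Category.assoc] }
  obtain ⟨l, hl1, hl2⟩ := hf sq
  change (yon S).map (Over.homMk _ _) ≫ l = (yon S).map e.hom ≫ a at hl1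
  change l ≫ f = (yon S).map e'.hom ≫ b at hl2
  refine ⟨(yon S).map e'.inv ≫ l, ?_, ?_⟩
  · have h3 : t ≫ e'.inv = e.inv ≫ (Over.homMk
        (Spec.map (CommRingCat.ofHom (Ideal.Quotient.mk I))) rfl :
        Over.mk (Spec.map (CommRingCat.ofHom (Ideal.Quotient.mk I)) ≫ str) ⟶ Over.mk str) := by
      rw [Iso.comp_inv_eq, Category.assoc, ← he, Iso.inv_hom_id_assoc]
    rw [← Category.assoc, ← Functor.map_comp, h3, Functor.map_comp, Category.assoc, hl1,
      ← Category.assoc, ← Functor.map_comp, Iso.inv_hom_id, CategoryTheory.Functor.map_id, Category.id_comp]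
  · rw [Category.assoc, hl2, ← Category.assoc, ← Functor.map_comp, Iso.inv_hom_id, CategoryTheory.Functor.map_id,
      Category.id_comp]

end Groth.Agent.Lib.Helper79.AlgSpFormalAffine
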