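import Groth.Agent.Lib.Helper79.AlgSpFormalAffine
import Groth.Agent.Lib.Helper79.AlgSpChart
import Groth.Agent.Lib.Helper23.AlgSpFlatMono
import Groth.Agent.S9872

/-!
# Infinitesimal lifting against first order thickenings of algebraic spaces (helper79)

For `f : X ⟶ Y` a morphism of fppf sheaves, `j : T ⟶ T'` a first order thickening with `T'` an
algebraic space, `a : T ⟶ X`, `b : T' ⟶ Y`:

* `uniq_lift`: `f` formally unramified ⇒ at most one lift;
* `existsUnique_lift`: `f` formally etale ⇒ exactly one lift.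

The argument: local solutions on etale charts (`IsSol`), unique on all scheme charts, existing on
affine charts, glued over a disjoint union of affine charts and descended along the atlas.
-/

set_option autoImplicit false
universe u
open CategoryTheory CategoryTheory.Limits AlgebraicGeometry Opposite

namespace Groth.Agent.Lib.Helper79.AlgSpFormalLift

open AlgSp Groth.Agent.Lib.Helper79.AlgSpFormalAffine Groth.Agent.Lib.Helper79.AlgSpChart
open Groth.Agent.Lib.Helper23.AlgSpMor Groth.Agent.Lib.Helper5

variable {S : Scheme.{u}}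

/-- Morphisms out of `h_V` are determined by their restrictions along a jointly surjective family
of etale morphisms. -/
theorem yon_hom_ext_of_family {ι : Type u} {V : Over S} (Xf : ι → Over S) (g : ∀ i, Xf i ⟶ V)
    (he : ∀ i, Etale (g i).left) (hs : ∀ x : V.left, ∃ i, ∃ y : (Xf i).left, (g i).left y = x)
    {Z : Sp S} (a b : (yon S).obj V ⟶ Z)
    (h : ∀ i, (yon S).map (g i) ≫ a = (yon S).map (g i) ≫ b) : a = b := by
  let c : sigmaOver Xf ⟶ V := Over.homMk (Sigma.desc fun i => (g i).left) (by
    apply Sigma.hom_ext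
    intro i
    simp [sigmaOver])
  have hce : Etale c.left := by
    change Etale (Sigma.desc fun i => (g i).left)
    exact IsZariskiLocalAtSource.sigmaDesc (P := @Etale) fun i => he i
  have hcs : Surjective c.left := by
    change Surjective (Sigma.desc fun i => (g i).left)
    refine ⟨fun x => ?_⟩
    obtain ⟨i, y, rfl⟩ := hs x
    refine ⟨Sigma.ι (fun i => (Xf i).left) i y, ?_⟩
    rw [← Scheme.Hom.comp_apply, Sigma.ι_desc]
  have hepi : Epi ((yon S).map c) :=
    epi_of_etale_surjective _ ((repWith_yon_map_iff @Etale c).2 hce)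
      ((repWith_yon_map_iff @Surjective c).2 hcs)
  rw [← cancel_epi ((yon S).map c)]
  apply (isColimitYonSigmaOver Xf).hom_ext
  rintro ⟨i⟩
  have hci : sigmaOverι Xf i ≫ c = g i := by
    apply Over.OverMorphism.ext
    simp [c]
  change (yon S).map (sigmaOverι Xf i) ≫ (yon S).map c ≫ a =
    (yon S).map (sigmaOverι Xf i) ≫ (yon S).map c ≫ b
  rw [← Category.assoc, ← Category.assoc, ← Functor.map_comp, hci]
  exact h i

section sol

variable {X Y T T' : Sp S} (f : X ⟶ Y) (j : T ⟶ T') (a : T ⟶ X) (b : T' ⟶ Y)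

/-- `l` solves the lifting problem `(j, a, b, f)` restricted along `c : Z ⟶ T'`. -/
def IsSol {Z : Sp S} (c : Z ⟶ T') (l : Z ⟶ X) : Prop :=
  pullback.snd j c ≫ l = pullback.fst j c ≫ a ∧ l ≫ f = c ≫ b

variable {f j a b}

theorem isSol_iff {Z P : Sp S} {c : Z ⟶ T'} {fst : P ⟶ T} {snd : P ⟶ Z}
    (sq : IsPullback fst snd j c) (l : Z ⟶ X) :
    IsSol f j a b c l ↔ snd ≫ l = fst ≫ a ∧ l ≫ f = c ≫ b := by
  unfold IsSol
  refine and_congr ?_ Iff.rfl
  constructor
  · intro h
    have := congrArg (sq.isoPullback.hom ≫ ·) h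
    simpa using this
  · intro h
    rw [← cancel_epi sq.isoPullback.hom]
    simpa using h

theorem IsSol.restrict {Z Z' : Sp S} {c : Z ⟶ T'} {l : Z ⟶ X} (h : IsSol f j a b c l)
    (k : Z' ⟶ Z) : IsSol f j a b (k ≫ c) (k ≫ l) := by
  refine ⟨?_, by rw [Category.assoc, h.2, Category.assoc]⟩
  let φ : pullback j (k ≫ c) ⟶ pullback j c :=
    pullback.lift (pullback.fst j (k ≫ c)) (pullback.snd j (k ≫ c) ≫ k)
      (by rw [pullback.condition, Category.assoc])
  have h1 : φ ≫ pullback.fst j c = pullback.fst j (k ≫ c) := pullback.lift_fst _ _ _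
  have h2 : φ ≫ pullback.snd j c = pullback.snd j (k ≫ c) ≫ k := pullback.lift_snd _ _ _
  rw [← Category.assoc, ← h2, Category.assoc, h.1, ← Category.assoc, h1]

theorem isSol_of_lift {Z : Sp S} (c : Z ⟶ T') {l : T' ⟶ X} (h1 : j ≫ l = a) (h2 : l ≫ f = b) :
    IsSol f j a b c (c ≫ l) := by
  refine ⟨?_, by rw [Category.assoc, h2]⟩
  rw [← Category.assoc, ← pullback.condition, Category.assoc, h1]

/-- Solutions on affine etale charts are unique. -/
theorem IsSol.unique_affine (hf : IsFormallyUnramifiedMor f) (hj : IsFOThickMor j) {V : Over S}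
    (hV : IsAffine V.left) {c : (yon S).obj V ⟶ T'} (hc : RepWith @Etale c)
    {l l' : (yon S).obj V ⟶ X} (h : IsSol f j a b c l) (h' : IsSol f j a b c l') : l = l' := by
  obtain ⟨W, fst, snd, sq, hthick⟩ := exists_pullback thick hj.1 c
  haveI : IsClosedImmersion snd.left := hthick.1
  have hsq : snd.left.ker * snd.left.ker = ⊥ := hj.2 c fst snd hV hc sq
  rw [isSol_iff sq] at h h'
  exact uniq_affine hf hV snd hsq l l' (h.1.trans h'.1.symm) (h.2.trans h'.2.symm)

/-- Solutions on etale scheme charts are unique as soon as they are unique on affine etale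
charts. -/
theorem IsSol.unique_of_affine
    (huniq : ∀ {V : Over S}, IsAffine V.left → ∀ {c : (yon S).obj V ⟶ T'}, RepWith @Etale c →
      ∀ {l l' : (yon S).obj V ⟶ X}, IsSol f j a b c l → IsSol f j a b c l' → l = l')
    {V : Over S} {c : (yon S).obj V ⟶ T'} (hc : RepWith @Etale c)
    {l l' : (yon S).obj V ⟶ X} (h : IsSol f j a b c l) (h' : IsSol f j a b c l') : l = l' := by
  apply yon_hom_ext_of_affineCover
  intro i
  refine huniq (V := Over.mk (V.left.affineCover.f i ≫ V.hom)) ?_ ?_
    (h.restrict _) (h'.restrict _)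
  · change IsAffine (V.left.affineCover.X i)
    infer_instance
  · refine repWith_map_comp @Etale _ ?_ hc
    change Etale (V.left.affineCover.f i)
    infer_instance

/-- Solutions on etale scheme charts are unique. -/
theorem IsSol.unique (hf : IsFormallyUnramifiedMor f) (hj : IsFOThickMor j) {V : Over S}
    {c : (yon S).obj V ⟶ T'} (hc : RepWith @Etale c)
    {l l' : (yon S).obj V ⟶ X} (h : IsSol f j a b c l) (h' : IsSol f j a b c l') : l = l' :=
  IsSol.unique_of_affine (fun hV _ hc _ _ h h' => IsSol.unique_affine hf hj hV hc h h') hc h h'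

/-- Solutions exist on affine etale charts. -/
theorem exists_isSol_affine (hf : IsFormallySmoothMor f) (hj : IsFOThickMor j)
    (w : a ≫ f = j ≫ b) {V : Over S} (hV : IsAffine V.left) {c : (yon S).obj V ⟶ T'}
    (hc : RepWith @Etale c) : ∃ l : (yon S).obj V ⟶ X, IsSol f j a b c l := by
  obtain ⟨W, fst, snd, sq, hthick⟩ := exists_pullback thick hj.1 c
  haveI : IsClosedImmersion snd.left := hthick.1
  have hsq : snd.left.ker * snd.left.ker = ⊥ := hj.2 c fst snd hV hc sq
  obtain ⟨l, h1, h2⟩ := exists_affine hf hV snd hsq (fst ≫ a) (c ≫ b) (by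
    rw [Category.assoc, w, ← Category.assoc, sq.w, Category.assoc])
  exact ⟨l, (isSol_iff sq l).2 ⟨h1, h2⟩⟩

/-- Solutions on the members of a disjoint union glue. -/
theorem exists_isSol_sigma (hj : IsThickMor j) {ι : Type u} (Xf : ι → Over S)
    (c : (yon S).obj (sigmaOver Xf) ⟶ T') (l : ∀ i, (yon S).obj (Xf i) ⟶ X)
    (hl : ∀ i, IsSol f j a b ((yon S).map (sigmaOverι Xf i) ≫ c) (l i)) :
    ∃ l' : (yon S).obj (sigmaOver Xf) ⟶ X, IsSol f j a b c l' ∧
      ∀ i, (yon S).map (sigmaOverι Xf i) ≫ l' = l i := by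
  let l' : (yon S).obj (sigmaOver Xf) ⟶ X := Cofan.IsColimit.desc (isColimitYonSigmaOver Xf) l
  have hl' : ∀ i, (yon S).map (sigmaOverι Xf i) ≫ l' = l i := fun i =>
    Cofan.IsColimit.fac (isColimitYonSigmaOver Xf) l i
  refine ⟨l', ?_, hl'⟩
  obtain ⟨W, fst, snd, sq, -⟩ := exists_pullback thick hj c
  rw [isSol_iff sq]
  constructor
  · refine yon_hom_ext_of_family (fun i => pullback snd (sigmaOverι Xf i))
      (fun i => pullback.fst snd (sigmaOverι Xf i)) ?_ ?_ _ _ ?_
    · intro i
      have hpb : IsPullback (pullback.snd snd (sigmaOverι Xf i)).left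
          (pullback.fst snd (sigmaOverι Xf i)).left (sigmaOverι Xf i).left snd.left :=
        ((IsPullback.of_hasPullback snd (sigmaOverι Xf i)).map (Over.forget S)).flip
      have : IsOpenImmersion (pullback.fst snd (sigmaOverι Xf i)).left :=
        MorphismProperty.of_isPullback (P := @IsOpenImmersion) hpb
          (by change IsOpenImmersion (Sigma.ι _ i); infer_instance)
      infer_instance
    · intro x
      obtain ⟨i, y, hy⟩ := (sigmaOpenCover fun i => (Xf i).left).exists_eq (snd.left x)
      have hpb : IsPullback (pullback.fst snd (sigmaOverι Xf i)).left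
          (pullback.snd snd (sigmaOverι Xf i)).left snd.left (sigmaOverι Xf i).left :=
        (IsPullback.of_hasPullback snd (sigmaOverι Xf i)).map (Over.forget S)
      obtain ⟨p, hp1, -⟩ := Scheme.exists_preimage_of_isPullback hpb x y hy.symm
      exact ⟨i, p, hp1⟩
    · intro i
      have sqi : IsPullback ((yon S).map (pullback.fst snd (sigmaOverι Xf i)))
          ((yon S).map (pullback.snd snd (sigmaOverι Xf i))) ((yon S).map snd)
          ((yon S).map (sigmaOverι Xf i)) :=
        (IsPullback.of_hasPullback snd (sigmaOverι Xf i)).map (yon S)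
      have sqp := sqi.paste_horiz sq
      have := ((isSol_iff sqp (l i)).1 (hl i)).1
      rw [← Category.assoc, sqi.w, Category.assoc, hl' i, this, Category.assoc]
  · refine Cofan.IsColimit.hom_ext (isColimitYonSigmaOver Xf) _ _ fun i => ?_
    change (yon S).map (sigmaOverι Xf i) ≫ l' ≫ f = (yon S).map (sigmaOverι Xf i) ≫ c ≫ b
    rw [← Category.assoc, hl' i, (hl i).2, Category.assoc]

end sol

section main

variable {X Y T T' : Sp S} (f : X ⟶ Y) (j : T ⟶ T') (a : T ⟶ X) (b : T' ⟶ Y)

/-- Lifts are unique as soon as local solutions on affine etale charts are. -/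
theorem uniq_lift_of_affine
    (huniq : ∀ {V : Over S}, IsAffine V.left → ∀ {c : (yon S).obj V ⟶ T'}, RepWith @Etale c →
      ∀ {l l' : (yon S).obj V ⟶ X}, IsSol f j a b c l → IsSol f j a b c l' → l = l')
    (hT' : IsAlgSpace T')
    (l l' : T' ⟶ X) (h1 : j ≫ l = a) (h2 : l ≫ f = b) (h3 : j ≫ l' = a) (h4 : l' ≫ f = b) :
    l = l' := by
  obtain ⟨U, p, hpe, hps⟩ := hT'.atlas
  have hp : Epi p := epi_of_etale_surjective p hpe hps
  rw [← cancel_epi p]
  exact IsSol.unique_of_affine huniq hpe (isSol_of_lift p h1 h2) (isSol_of_lift p h3 h4)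

/-- A formally unramified morphism of sheaves has at most one lift against a first order
thickening of algebraic spaces. -/
theorem uniq_lift (hf : IsFormallyUnramifiedMor f) (hT' : IsAlgSpace T') (hj : IsFOThickMor j)
    (l l' : T' ⟶ X) (h1 : j ≫ l = a) (h2 : l ≫ f = b) (h3 : j ≫ l' = a) (h4 : l' ≫ f = b) :
    l = l' :=
  uniq_lift_of_affine f j a b (fun hV _ hc _ _ h h' => IsSol.unique_affine hf hj hV hc h h') hT'
    l l' h1 h2 h3 h4

/-- Lifts against a thickening of algebraic spaces exist as soon as they exist on the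
members of the affine cover of an atlas of `T'` and local solutions on affine etale charts are
unique. -/
theorem exists_lift_of_local_of_affine
    (huniq : ∀ {V : Over S}, IsAffine V.left → ∀ {c : (yon S).obj V ⟶ T'}, RepWith @Etale c →
      ∀ {l l' : (yon S).obj V ⟶ X}, IsSol f j a b c l → IsSol f j a b c l' → l = l')
    (hT' : IsAlgSpace T')
    (hj : IsThickMor j) {U : Over S} (p : (yon S).obj U ⟶ T') (hpe : RepWith @Etale p)
    (hps : RepWith @Surjective p)
    (hloc : ∀ i : U.left.affineCover.I₀,
      ∃ l : (yon S).obj (Over.mk (U.left.affineCover.f i ≫ U.hom)) ⟶ X,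
        IsSol f j a b ((yon S).map (Over.homMk (U.left.affineCover.f i) rfl :
          Over.mk (U.left.affineCover.f i ≫ U.hom) ⟶ U) ≫ p) l) :
    ∃ l : T' ⟶ X, j ≫ l = a ∧ l ≫ f = b := by
  -- the disjoint union of the affine cover of the atlas
  let Xf : U.left.affineCover.I₀ → Over S := fun i => Over.mk (U.left.affineCover.f i ≫ U.hom)
  let cσ : sigmaOver Xf ⟶ U := Over.homMk (Sigma.desc U.left.affineCover.f) (by
    apply Sigma.hom_ext
    intro i
    simp [sigmaOver, Xf])
  have hce : Etale cσ.left := by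
    change Etale (Sigma.desc U.left.affineCover.f)
    exact IsZariskiLocalAtSource.sigmaDesc (P := @Etale) fun i => inferInstance
  have hcs : Surjective cσ.left := by
    change Surjective (Sigma.desc U.left.affineCover.f)
    infer_instance
  let q : (yon S).obj (sigmaOver Xf) ⟶ T' := (yon S).map cσ ≫ p
  have hqe : RepWith @Etale q := repWith_map_comp @Etale cσ hce hpe
  have hqs : RepWith @Surjective q := repWith_map_comp @Surjective cσ hcs hps
  have hq : Epi q := epi_of_etale_surjective q hqe hqs
  have hci : ∀ i, sigmaOverι Xf i ≫ cσ = (Over.homMk (U.left.affineCover.f i) rfl : Xf i ⟶ U) := by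
    intro i
    apply Over.OverMorphism.ext
    simp [cσ, Xf]
  -- local solutions
  have hloc' : ∀ i, ∃ l : (yon S).obj (Xf i) ⟶ X,
      IsSol f j a b ((yon S).map (sigmaOverι Xf i) ≫ q) l := by
    intro i
    obtain ⟨l, hl⟩ := hloc i
    refine ⟨l, ?_⟩
    have : (yon S).map (sigmaOverι Xf i) ≫ q =
        (yon S).map (Over.homMk (U.left.affineCover.f i) rfl : Xf i ⟶ U) ≫ p := by
      change (yon S).map (sigmaOverι Xf i) ≫ (yon S).map cσ ≫ p = _
      rw [← Category.assoc, ← Functor.map_comp, hci]
    rw [this]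
    exact hl
  choose li hli using hloc'
  obtain ⟨l', hl', -⟩ := exists_isSol_sigma hj Xf q li hli
  -- descent along the atlas
  obtain ⟨R, p1, p2, sqR, -⟩ := exists_pullback_chart @Etale hqe q
  have hp1 : Etale p1.left := fst_property_of_isPullback @Etale hqe sqR
  have heq : (yon S).map p1 ≫ l' = (yon S).map p2 ≫ l' := by
    have s1 := hl'.restrict ((yon S).map p1)
    have s2 := hl'.restrict ((yon S).map p2)
    rw [← sqR.w] at s2
    exact IsSol.unique_of_affine huniq (repWith_map_comp @Etale p1 hp1 hqe) s1 s2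
  obtain ⟨-, ⟨hcolim⟩⟩ := Groth.Agent.S9872.result S T' hT' q hqe hqs p2 p1 sqR
  let l : T' ⟶ X := Cofork.IsColimit.desc hcolim l' heq
  have hl : q ≫ l = l' := Cofork.IsColimit.π_desc hcolim
  refine ⟨l, ?_, ?_⟩
  · have hfst : Epi (pullback.fst j q) := by
      refine epi_of_etale_surjective _ ?_ ?_
      · exact MorphismProperty.of_isPullback (IsPullback.of_hasPullback j q).flip hqe
      · exact MorphismProperty.of_isPullback (IsPullback.of_hasPullback j q).flip hqs
    rw [← cancel_epi (pullback.fst j q), ← Category.assoc, pullback.condition, Category.assoc, hl]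
    exact hl'.1
  · rw [← cancel_epi q, ← Category.assoc, hl]
    exact hl'.2

/-- Lifts against a first order thickening of algebraic spaces exist as soon as they exist on the
members of the affine cover of an atlas of `T'` (for `f` formally unramified). -/
theorem exists_lift_of_local (hfu : IsFormallyUnramifiedMor f) (hT' : IsAlgSpace T')
    (hj : IsFOThickMor j) {U : Over S} (p : (yon S).obj U ⟶ T') (hpe : RepWith @Etale p)
    (hps : RepWith @Surjective p)
    (hloc : ∀ i : U.left.affineCover.I₀,
      ∃ l : (yon S).obj (Over.mk (U.left.affineCover.f i ≫ U.hom)) ⟶ X,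
        IsSol f j a b ((yon S).map (Over.homMk (U.left.affineCover.f i) rfl :
          Over.mk (U.left.affineCover.f i ≫ U.hom) ⟶ U) ≫ p) l) :
    ∃ l : T' ⟶ X, j ≫ l = a ∧ l ≫ f = b :=
  exists_lift_of_local_of_affine f j a b
    (fun hV _ hc _ _ h h' => IsSol.unique_affine hfu hj hV hc h h') hT' hj.1 p hpe hps hloc

/-- If the local lifting problems on affine etale charts of `T'` have exactly one solution, so
does the lifting problem on `T'`. -/
theorem existsUnique_lift_of_affine (hT' : IsAlgSpace T') (hj : IsThickMor j)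
    (H : ∀ {V : Over S}, IsAffine V.left → ∀ {c : (yon S).obj V ⟶ T'}, RepWith @Etale c →
      ∃! l : (yon S).obj V ⟶ X, IsSol f j a b c l) :
    ∃! l : T' ⟶ X, j ≫ l = a ∧ l ≫ f = b := by
  have huniq : ∀ {V : Over S}, IsAffine V.left → ∀ {c : (yon S).obj V ⟶ T'}, RepWith @Etale c →
      ∀ {l l' : (yon S).obj V ⟶ X}, IsSol f j a b c l → IsSol f j a b c l' → l = l' :=
    fun hV _ hc _ _ h h' => (H hV hc).unique h h'
  obtain ⟨U, p, hpe, hps⟩ := hT'.atlas
  obtain ⟨l, h1, h2⟩ := exists_lift_of_local_of_affine f j a b huniq hT' hj p hpe hps fun i => by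
    refine (H (V := Over.mk (U.left.affineCover.f i ≫ U.hom)) ?_ ?_).exists
    · change IsAffine (U.left.affineCover.X i)
      infer_instance
    · refine repWith_map_comp @Etale _ ?_ hpe
      change Etale (U.left.affineCover.f i)
      infer_instance
  exact ⟨l, ⟨h1, h2⟩, fun l' h => uniq_lift_of_affine f j a b huniq hT' l' l h.1 h.2 h1 h2⟩

/-- A formally etale morphism of sheaves has a lift against every first order
thickening of algebraic spaces. -/
theorem exists_lift (hf : IsFormallyEtaleMor f) (hT' : IsAlgSpace T') (hj : IsFOThickMor j)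
    (w : a ≫ f = j ≫ b) : ∃ l : T' ⟶ X, j ≫ l = a ∧ l ≫ f = b := by
  have hfs := Groth.Agent.Lib.Helper37.AlgSpFormal.smooth_of_etale hf
  have hfu := Groth.Agent.Lib.Helper37.AlgSpFormal.unramified_of_etale hf
  obtain ⟨U, p, hpe, hps⟩ := hT'.atlas
  refine exists_lift_of_local f j a b hfu hT' hj p hpe hps fun i => ?_
  refine exists_isSol_affine hfs hj w (V := Over.mk (U.left.affineCover.f i ≫ U.hom)) ?_ ?_
  · change IsAffine (U.left.affineCover.X i)
    infer_instance
  · refine repWith_map_comp @Etale _ ?_ hpe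
    change Etale (U.left.affineCover.f i)
    infer_instance

/-- A formally etale morphism of sheaves has exactly one lift against every first order
thickening of algebraic spaces. -/
theorem existsUnique_lift (hf : IsFormallyEtaleMor f) (hT' : IsAlgSpace T') (hj : IsFOThickMor j)
    (w : a ≫ f = j ≫ b) : ∃! l : T' ⟶ X, j ≫ l = a ∧ l ≫ f = b := by
  obtain ⟨l, h1, h2⟩ := exists_lift f j a b hf hT' hj w
  refine ⟨l, ⟨h1, h2⟩, fun l' h => ?_⟩
  exact uniq_lift f j a b (Groth.Agent.Lib.Helper37.AlgSpFormal.unramified_of_etale hf) hT' hj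
    l' l h.1 h.2 h1 h2

end main

end Groth.Agent.Lib.Helper79.AlgSpFormalLift
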