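import Groth.Agent.Lib.Helper79.AlgSpThickLocal
import Groth.Agent.Lib.Helper62.AlgSpMono

/-!
# The first order infinitesimal neighbourhood of an immersion of algebraic spaces is a universal
first order thickening (helper79)
-/

set_option autoImplicit false
universe u
open CategoryTheory CategoryTheory.Limits AlgebraicGeometry Opposite

namespace Groth.Agent.Lib.Helper79.AlgSpInfNbhd

open AlgSp Groth.Agent.Lib.Helper79.AlgSpChart Groth.Agent.Lib.Helper79.AlgSpThickLocal
open Groth.Agent.Lib.Helper79.AlgSpUnivThick Groth.Agent.Lib.Helper79.AlgSpFormalEtale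

variable {S : Scheme.{u}}

theorem mono_of_closedImmersion {F G : Sp S} (m : F ⟶ G) (hm : RepWith @IsClosedImmersion m) :
    Mono m :=
  Groth.Agent.Lib.Helper62.mono_of_repWith @IsClosedImmersion
    (fun f hf => by haveI := hf; infer_instance) m hm

theorem mono_of_openImmersion {F G : Sp S} (m : F ⟶ G) (hm : RepWith @IsOpenImmersion m) :
    Mono m :=
  Groth.Agent.Lib.Helper62.mono_of_repWith @IsOpenImmersion
    (fun f hf => by haveI := hf; infer_instance) m hm

/-- A closed immersion `l : W ⟶ Wn` of closed subschemes of `V` with `I(Wn) = I(W)²` is a first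
order thickening. -/
theorem isFirstOrderThickening_of_ker_eq_sq {W Wn V : Scheme.{u}} (l : W ⟶ Wn) (q : Wn ⟶ V)
    [IsClosedImmersion q] [IsClosedImmersion (l ≫ q)] (h : q.ker = (l ≫ q).ker ^ 2) :
    MoreMor.IsFirstOrderThickening l := by
  have hl : IsClosedImmersion l := IsClosedImmersion.of_comp_isClosedImmersion l q
  refine ⟨⟨hl, ⟨fun y => ?_⟩⟩, ?_⟩
  · have hsupp : (q.ker.support : Set V) = ((l ≫ q).ker.support : Set V) := by
      rw [h, Scheme.IdealSheafData.support_pow _ 2 (by norm_num)]
    rw [Scheme.Hom.support_ker, Scheme.Hom.support_ker,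
      (l ≫ q).isClosedEmbedding.isClosed_range.closure_eq,
      q.isClosedEmbedding.isClosed_range.closure_eq] at hsupp
    have hy : q y ∈ Set.range (l ≫ q) := by
      rw [← hsupp]
      exact ⟨y, rfl⟩
    obtain ⟨w, hw⟩ := hy
    refine ⟨w, q.isClosedEmbedding.injective ?_⟩
    rw [← hw, Scheme.Hom.comp_apply]
  · apply Groth.Agent.Lib.Helper57.FOThick.ker_mul_ker_eq_bot_of_comp l q
    rw [h, pow_two]

section

variable {Z U X Z₁ : Sp S} (hU : IsAlgSpace U) (c : Z ⟶ U) (hc : RepWith @IsClosedImmersion c)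
  (j : Z ⟶ Z₁) (k : Z₁ ⟶ U) (hk : RepWith @IsClosedImmersion k) (hjk : j ≫ k = c)
  (hker : ∀ ⦃V W Wn : Over S⦄ (b : (yon S).obj V ⟶ U) (fst : (yon S).obj W ⟶ Z) (snd : W ⟶ V)
      (fstn : (yon S).obj Wn ⟶ Z₁) (sndn : Wn ⟶ V),
      IsAffine V.left → RepWith @Etale b → IsPullback fst ((yon S).map snd) c b →
        IsPullback fstn ((yon S).map sndn) k b → sndn.left.ker = snd.left.ker ^ (1 + 1))

include hc hk hjk hker

/-- On an affine etale chart `V` of `U`, the pulled back `Z_V ⟶ Z₁_V` is a first order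
thickening, and it is the pullback of `j` along `Z₁_V ⟶ Z₁`. -/
theorem chart_data {V : Over S} (hV : IsAffine V.left) (b : (yon S).obj V ⟶ U)
    (hb : RepWith @Etale b) :
    ∃ (W Wn : Over S) (fstW : (yon S).obj W ⟶ Z) (sndW : W ⟶ V) (fstn : (yon S).obj Wn ⟶ Z₁)
      (sndn : Wn ⟶ V) (l : W ⟶ Wn),
      IsPullback fstW ((yon S).map sndW) c b ∧ IsPullback fstn ((yon S).map sndn) k b ∧
      l ≫ sndn = sndW ∧ IsPullback fstW ((yon S).map l) j fstn ∧
      MoreMor.IsFirstOrderThickening l.left ∧ sndn.left.ker = sndW.left.ker ^ 2 ∧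
      IsClosedImmersion sndW.left ∧ IsClosedImmersion sndn.left := by
  obtain ⟨W, fstW, sndW, pbW, hW⟩ := exists_pullback @IsClosedImmersion hc b
  obtain ⟨Wn, fstn, sndn, pbWn, hWn⟩ := exists_pullback @IsClosedImmersion hk b
  have hk2 := hker b fstW sndW fstn sndn hV hb pbW pbWn
  obtain ⟨l, hl⟩ := (yon S).map_surjective (pbWn.lift (fstW ≫ j) ((yon S).map sndW) (by
    rw [Category.assoc, hjk, pbW.w]))
  have hl1 : (yon S).map l ≫ fstn = fstW ≫ j := by rw [hl, pbWn.lift_fst]
  have hl2 : l ≫ sndn = sndW := by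
    apply (yon S).map_injective
    rw [Functor.map_comp, hl, pbWn.lift_snd]
  have hl2' : l.left ≫ sndn.left = sndW.left := congrArg (fun k => k.left) hl2
  have pbl : IsPullback fstW ((yon S).map l) j fstn := by
    refine IsPullback.of_bot ?_ hl1.symm pbWn
    rw [← Functor.map_comp, hl2, hjk]
    exact pbW
  haveI : IsClosedImmersion sndn.left := hWn
  haveI : IsClosedImmersion (l.left ≫ sndn.left) := by rw [hl2']; exact hW
  refine ⟨W, Wn, fstW, sndW, fstn, sndn, l, pbW, pbWn, hl2, pbl, ?_, hk2, hW, hWn⟩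
  refine isFirstOrderThickening_of_ker_eq_sq l.left sndn.left ?_
  rw [hl2']
  exact hk2

include hU

/-- Every represented pullback of `j` to a scheme is a first order thickening. -/
theorem isFirstOrderThickening_pullback_j (hj : RepWith @IsClosedImmersion j) {T R : Over S}
    (τ : (yon S).obj T ⟶ Z₁) (fst : (yon S).obj R ⟶ Z) (snd : R ⟶ T)
    (pb : IsPullback fst ((yon S).map snd) j τ) : MoreMor.IsFirstOrderThickening snd.left := by
  refine isFirstOrderThickening_of_flat_local hj τ fst snd pb fun x => ?_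
  obtain ⟨Vk, T₁, bk, q, m, y, hVk, hbk, hqe, hy, hfac⟩ := exists_chart_at_point hU (τ ≫ k) x
  obtain ⟨W, Wn, fstW, sndW, fstn, sndn, l, pbW, pbWn, hl2, pbl, hlfo, -, -, -⟩ :=
    chart_data c hc j k hk hjk hker hVk bk hbk
  obtain ⟨m', hm'⟩ := (yon S).map_surjective (pbWn.lift ((yon S).map q ≫ τ) ((yon S).map m) (by
    rw [Category.assoc, ← hfac]))
  have hm'1 : (yon S).map m' ≫ fstn = (yon S).map q ≫ τ := by rw [hm', pbWn.lift_fst]
  have pbR := IsPullback.of_hasPullback l m'
  have hfo₁ : MoreMor.IsFirstOrderThickening (pullback.snd l m').left :=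
    Groth.Agent.Lib.Helper57.FOThick.baseChange hlfo (pbR.map (Over.forget S))
  have big := (pbR.map (yon S)).paste_horiz pbl
  rw [hm'1] at big
  haveI : Flat q.left := by haveI := hqe; infer_instance
  exact ⟨T₁, pullback l m', q, y, _, _, inferInstance, hy, big, hfo₁⟩

theorem isFOThickMor_j : IsFOThickMor j := by
  haveI : Mono k := mono_of_closedImmersion k hk
  have pbj : IsPullback (𝟙 Z) j c k :=
    IsPullback.of_horiz_isIso_mono ⟨by rw [Category.id_comp, hjk]⟩
  have hj : RepWith @IsClosedImmersion j :=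
    MorphismProperty.of_isPullback (P := RepWith @IsClosedImmersion) pbj hc
  refine ⟨⟨hj.1, fun T R τ fst snd pb => ?_⟩, fun V W b fst snd _ _ pb => ?_⟩
  · exact (isFirstOrderThickening_pullback_j hU c hc j k hk hjk hker hj τ fst snd pb).1
  · exact (isFirstOrderThickening_pullback_j hU c hc j k hk hjk hker hj b fst snd pb).2

/-- A map `T' ⟶ U` from a first order thickening `T ⊂ T'` whose restriction to `T` factors
through `Z` factors through `Z₁`: the pullback of `k` to `T'` is an isomorphism. -/
theorem isIso_pullback_k {T T' N : Over S} (t : T ⟶ T')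
    (hfo : MoreMor.IsFirstOrderThickening t.left) (a : (yon S).obj T ⟶ Z)
    (bU : (yon S).obj T' ⟶ U) (w : (yon S).map t ≫ bU = a ≫ c) (ν : (yon S).obj N ⟶ Z₁)
    (n : N ⟶ T') (pbn : IsPullback ν ((yon S).map n) k bU) : IsIso n.left := by
  haveI : IsClosedImmersion n.left := hk.property bU ν n pbn
  rw [IsClosedImmersion.isIso_iff_ker_eq_bot]
  apply Groth.Agent.Lib.Helper79.IdealSheafLocal.eq_bot_of_flat_cover
  intro x
  obtain ⟨Vk, T₁, bk, q, m, y, hVk, hbk, hqe, hy, hfac⟩ := exists_chart_at_point hU bU x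
  obtain ⟨W, Wn, fstW, sndW, fstn, sndn, l, pbW, pbWn, hl2, pbl, hlfo, hk2, hWc, hWnc⟩ :=
    chart_data c hc j k hk hjk hker hVk bk hbk
  haveI : Flat q.left := by haveI := hqe; infer_instance
  refine ⟨T₁.left, q.left, y, inferInstance, hy, ?_⟩
  haveI : IsClosedImmersion sndW.left := hWc
  haveI : IsClosedImmersion sndn.left := hWnc
  -- the pullback of `Z₁_V ⊂ V` to `T₁` is the pullback of `n`
  have pbN₁ := IsPullback.of_hasPullback sndn m
  have pbN₁l : IsPullback (pullback.fst sndn m).left (pullback.snd sndn m).left sndn.left m.left :=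
    pbN₁.map (Over.forget S)
  have big := (pbN₁.map (yon S)).paste_horiz pbWn
  rw [← hfac] at big
  obtain ⟨ψ, hψ⟩ := (yon S).map_surjective
    (pbn.lift ((yon S).map (pullback.fst sndn m) ≫ fstn)
      ((yon S).map (pullback.snd sndn m) ≫ (yon S).map q)
      (by simpa only [Category.assoc] using big.w))
  have hψ1 : (yon S).map ψ ≫ ν = (yon S).map (pullback.fst sndn m) ≫ fstn := by
    rw [hψ, pbn.lift_fst]
  have hψ2 : (yon S).map ψ ≫ (yon S).map n =
      (yon S).map (pullback.snd sndn m) ≫ (yon S).map q := by rw [hψ, pbn.lift_snd]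
  rw [← hψ1] at big
  have leftl := isPullback_left_of_yon (IsPullback.of_right big hψ2 pbn)
  rw [← Groth.Agent.Lib.Helper57.FOThick.ker_of_isPullback leftl,
    Groth.Agent.Lib.Helper57.FOThick.ker_of_isPullback pbN₁l, hk2, pow_two,
    Groth.Agent.Lib.Helper57.FOThick.comap_mul]
  -- the pulled back thickening of `T` factors through the pullback of `Z_V`
  have pbT₁ := IsPullback.of_hasPullback t q
  have hfoT₁ : MoreMor.IsFirstOrderThickening (pullback.snd t q).left :=
    Groth.Agent.Lib.Helper57.FOThick.baseChange hfo (pbT₁.map (Over.forget S))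
  have pbW₁ := IsPullback.of_hasPullback sndW m
  have pbW₁l : IsPullback (pullback.fst sndW m).left (pullback.snd sndW m).left sndW.left m.left :=
    pbW₁.map (Over.forget S)
  obtain ⟨φ₀, hφ₀⟩ := (yon S).map_surjective
    (pbW.lift ((yon S).map (pullback.fst t q) ≫ a) ((yon S).map (pullback.snd t q ≫ m)) (by
      rw [Category.assoc, ← w, ← Category.assoc, ← Functor.map_comp, pbT₁.w, Functor.map_comp,
        Category.assoc, hfac, Functor.map_comp, Category.assoc]))
  have hφ₀2 : φ₀ ≫ sndW = pullback.snd t q ≫ m := by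
    apply (yon S).map_injective
    rw [Functor.map_comp, hφ₀, pbW.lift_snd]
  have hφ : pullback.lift φ₀ (pullback.snd t q) hφ₀2 ≫ pullback.snd sndW m = pullback.snd t q :=
    pullback.lift_snd _ _ _
  have hle : (pullback.snd sndW m).left.ker ≤ (pullback.snd t q).left.ker := by
    rw [← hφ, Over.comp_left]
    exact Scheme.Hom.le_ker_comp _ _
  rw [← Groth.Agent.Lib.Helper57.FOThick.ker_of_isPullback pbW₁l, eq_bot_iff,
    ← hfoT₁.2]
  exact mul_le_mul' hle hle

/-- The first order infinitesimal neighbourhood of a closed subspace of an open subspace is a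
universal first order thickening. -/
theorem isUnivFOThick_infNbhd {X : Sp S} (u : U ⟶ X) (hu : RepWith @IsOpenImmersion u) :
    IsUnivFOThick (c ≫ u) j (k ≫ u) := by
  haveI : Mono k := mono_of_closedImmersion k hk
  haveI : Mono u := mono_of_openImmersion u hu
  have hiFO := isFOThickMor_j hU c hc j k hk hjk hker
  refine isUnivFOThick_of_affine_test (c ≫ u) j (k ≫ u) hiFO (by rw [← Category.assoc, hjk]) ?_
  intro T T' t hT' ht a b wt
  have hfo := isFirstOrderThickening_of_isFOThickMor_yon_map hT' ht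
  -- `b` factors through `u`
  obtain ⟨T'U, fstU, o, pbU, ho⟩ := exists_pullback @IsOpenImmersion hu b
  obtain ⟨tU, htU⟩ := (yon S).map_surjective (pbU.lift (a ≫ c) ((yon S).map t) (by
    rw [Category.assoc, wt]))
  have htU2 : tU ≫ o = t := by
    apply (yon S).map_injective
    rw [Functor.map_comp, htU, pbU.lift_snd]
  have hosurj : Surjective o.left := by
    haveI : Surjective t.left := hfo.1.2
    have : Surjective (tU.left ≫ o.left) := by rw [← Over.comp_left, htU2]; infer_instance
    exact Surjective.of_comp tU.left o.left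
  haveI : IsOpenImmersion o.left := ho
  have hoiso : IsIso o.left := by
    refine isIso_of_isOpenImmersion_of_opensRange_eq_top o.left ?_
    ext x
    simp only [Scheme.Hom.coe_opensRange, Set.mem_range, TopologicalSpace.Opens.coe_top,
      Set.mem_univ, iff_true]
    exact hosurj.surj x
  have hoiso' : IsIso o := by
    haveI : IsIso ((Over.forget S).map o) := hoiso
    exact isIso_of_reflects_iso o (Over.forget S)
  let bU : (yon S).obj T' ⟶ U := (yon S).map (inv o) ≫ fstU
  have hbU : bU ≫ u = b := by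
    rw [Category.assoc, pbU.w, ← Category.assoc, ← Functor.map_comp, IsIso.inv_hom_id,
      CategoryTheory.Functor.map_id, Category.id_comp]
  have hw : (yon S).map t ≫ bU = a ≫ c := by
    rw [← cancel_mono u, Category.assoc, hbU, wt, Category.assoc]
  -- `bU` factors through `k`
  obtain ⟨N, ν, n, pbn, hn⟩ := exists_pullback @IsClosedImmersion hk bU
  have hniso : IsIso n.left := isIso_pullback_k hU c hc j k hk hjk hker t hfo a bU hw ν n pbn
  have hniso' : IsIso n := by
    haveI : IsIso ((Over.forget S).map n) := hniso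
    exact isIso_of_reflects_iso n (Over.forget S)
  have ha'k : ((yon S).map (inv n) ≫ ν) ≫ k = bU := by
    rw [Category.assoc, pbn.w, ← Category.assoc, ← Functor.map_comp, IsIso.inv_hom_id,
      CategoryTheory.Functor.map_id, Category.id_comp]
  refine ⟨(yon S).map (inv n) ≫ ν, ⟨?_, ?_⟩, ?_⟩
  · rw [← cancel_mono k, Category.assoc, ha'k, hw, Category.assoc, hjk]
  · rw [← Category.assoc, ha'k, hbU]
  · rintro a'' ⟨h1, h2⟩
    rw [← cancel_mono (k ≫ u), h2, ← Category.assoc, ha'k, hbU]

end

end Groth.Agent.Lib.Helper79.AlgSpInfNbhd
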