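import Groth.Agent.Lib.Helper79.AlgSpKosLocus

/-!
# The Koszul locus of a morphism of algebraic spaces commutes with base change (helper79)

`locPNear_lci_baseChange` : for `f : X ⟶ Y`, `q : Y ⟶ Z` with `q` and `f ≫ q` flat and locally of
finite presentation, and a base change `f' : X' ⟶ Y'` along `g : Z' ⟶ Z`, `f'` is Koszul at `x'` iff
`f` is Koszul at the image of `x'`.
-/

set_option autoImplicit false
universe u
open CategoryTheory CategoryTheory.Limits AlgebraicGeometry Opposite

namespace Groth.Agent.Lib.Helper79.AlgSpKosBC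

open AlgSp Groth.Agent.Lib.Helper36.AlgSpCharts Groth.Agent.Lib.Helper23.AlgSpMor
open Groth.Agent.Lib.Helper46.LocPChart Groth.Agent.Lib.Helper37.AlgSpPoints
open Groth.Agent.Lib.Helper79.KosNear Groth.Agent.Lib.Helper79.EtLocalF
open Groth.Agent.Lib.Helper79.AlgSpChart Groth.Agent.Lib.Helper79.AlgSpKosLocus
open Groth.Agent.Lib.Helper94.FibG

variable {S : Scheme.{u}}

theorem locPNear_lci_baseChange {X Y Z Z' Y' X' : Sp S} (hX : IsAlgSpace X) (hY : IsAlgSpace Y)
    (hZ : IsAlgSpace Z) (hZ' : IsAlgSpace Z') (f : X ⟶ Y) (q : Y ⟶ Z)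
    (hp1 : LocP @Flat (f ≫ q)) (hp2 : LocP @LocallyOfFinitePresentation (f ≫ q))
    (hq1 : LocP @Flat q) (hq2 : LocP @LocallyOfFinitePresentation q)
    (g : Z' ⟶ Z) (gY : Y' ⟶ Y) (q' : Y' ⟶ Z') (sqY : IsPullback gY q' q g)
    (gX : X' ⟶ X) (f' : X' ⟶ Y') (sqX : IsPullback gX f' f gY) (x' : Points X') :
    LocPNear AlgSp.lci f' x' ↔ LocPNear AlgSp.lci f (Points.map gX x') := by
  -- charts of `Z`, `Y`, `X`
  obtain ⟨Wz, c, hce, hcs⟩ := hZ.atlas
  obtain ⟨V, b, k, dV, -, -, -, -, hbe, commq, hbs⟩ := exists_chart hY hZ.diag q c hce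
  obtain ⟨U, a, h, dU, -, -, -, -, hae, commf, has⟩ := exists_chart hX hY.diag f b hbe
  have hbs' := hbs hcs
  have has' := has hbs'
  -- a chart of `Z'` and its base change to `Wz`
  obtain ⟨W', c', hc'e, hc's⟩ := hZ'.atlas
  obtain ⟨W'', s1, s2, sqW⟩ := exists_isPullback_yon (c' ≫ g) c hce.rep
  have hs1e : RepWith @Etale ((yon S).map s1) :=
    (repWith_yon_map_iff _ _).2 (prop_fst_of_isPullback sqW hce)
  have hs1s : RepWith @Surjective ((yon S).map s1) :=
    (repWith_yon_map_iff _ _).2 (prop_fst_of_isPullback sqW hcs)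
  -- the base change to `h_{W'}`
  have sqY₁ := IsPullback.of_hasPullback q (c' ≫ g)
  set gY₁ := pullback.fst q (c' ≫ g) with hgY₁
  set q₁ := pullback.snd q (c' ≫ g) with hq₁
  obtain ⟨eY, heY1, heY2⟩ := sqY.exists_lift gY₁ (q₁ ≫ c') (by
    rw [Category.assoc]; exact sqY₁.w)
  have sqeY : IsPullback eY q₁ q' c' := by
    refine IsPullback.of_right ?_ heY2 sqY
    rw [heY1]
    exact sqY₁
  have heYe : RepWith @Etale eY :=
    MorphismProperty.of_isPullback (P := RepWith @Etale) sqeY.flip hc'e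
  have heYs : RepWith @Surjective eY :=
    MorphismProperty.of_isPullback (P := RepWith @Surjective) sqeY.flip hc's
  have sqX₁ := IsPullback.of_hasPullback f gY₁
  set gX₁ := pullback.fst f gY₁ with hgX₁
  set f₁ := pullback.snd f gY₁ with hf₁
  obtain ⟨eX, heX1, heX2⟩ := sqX.exists_lift gX₁ (f₁ ≫ eY) (by
    rw [Category.assoc, heY1]; exact sqX₁.w)
  have sqeX : IsPullback eX f₁ f' eY := by
    refine IsPullback.of_right ?_ heX2 sqX
    rw [heX1, heY1]
    exact sqX₁
  have heXe : RepWith @Etale eX :=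
    MorphismProperty.of_isPullback (P := RepWith @Etale) sqeX.flip heYe
  have heXs : RepWith @Surjective eX :=
    MorphismProperty.of_isPullback (P := RepWith @Surjective) sqeX.flip heYs
  -- charts of `Y₁`, `X₁`
  obtain ⟨b₁, sqb₁, hb₁⟩ :=
    exists_chart_baseChange sqY₁ b c k commq ((yon S).map s1) s2 sqW
  have hb₁e : RepWith @Etale b₁ :=
    MorphismProperty.of_isPullback (P := RepWith @Etale) sqb₁.flip hbe
  have hb₁s : RepWith @Surjective b₁ :=
    MorphismProperty.of_isPullback (P := RepWith @Surjective) sqb₁.flip hbs'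
  obtain ⟨a₁, sqa₁, ha₁⟩ :=
    exists_chart_baseChange sqX₁ a b h commf b₁ (pullback.fst k s2) sqb₁
  have ha₁e : RepWith @Etale a₁ :=
    MorphismProperty.of_isPullback (P := RepWith @Etale) sqa₁.flip hae
  have ha₁s : RepWith @Surjective a₁ :=
    MorphismProperty.of_isPullback (P := RepWith @Surjective) sqa₁.flip has'
  -- charts of `Y'`, `X'`
  have hb'e : RepWith @Etale (b₁ ≫ eY) := (RepWith @Etale).comp_mem _ _ hb₁e heYe
  have ha'e : RepWith @Etale (a₁ ≫ eX) := (RepWith @Etale).comp_mem _ _ ha₁e heXe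
  have ha's : RepWith @Surjective (a₁ ≫ eX) := (RepWith @Surjective).comp_mem _ _ ha₁s heXs
  have comm' : (a₁ ≫ eX) ≫ f' = (yon S).map (pullback.snd h (pullback.fst k s2)) ≫ b₁ ≫ eY := by
    rw [Category.assoc, heX2, ← Category.assoc, ha₁, Category.assoc]
  obtain ⟨u', rfl⟩ := ofPt_surjective (a₁ ≫ eX) ha's x'
  have hpt : Points.map gX (Points.ofPt (a₁ ≫ eX) u') =
      Points.ofPt a ((pullback.fst h (pullback.fst k s2)).left u') := by
    rw [Points.map_ofPt, Category.assoc, heX1, sqa₁.w, ofPt_map_comp]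
  rw [hpt, locPNear_lci_iff f' (a₁ ≫ eX) (b₁ ≫ eY) _ ha'e hb'e comm' u',
    locPNear_lci_iff f a b h hae hbe commf, kosNear_iff_inK, kosNear_iff_inK]
  -- the scheme-level statement
  have hk1 : Flat k.left := hq1 b c k hbe hce commq
  have hk2 : LocallyOfFinitePresentation k.left := hq2 b c k hbe hce commq
  have commp : a ≫ f ≫ q = (yon S).map (h ≫ k) ≫ c := by
    rw [← Category.assoc, commf, Category.assoc, commq, Functor.map_comp, Category.assoc]
  have hhk1 : Flat (h.left ≫ k.left) := hp1 a c (h ≫ k) hae hce commp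
  have hhk2 : LocallyOfFinitePresentation (h.left ≫ k.left) := hp2 a c (h ≫ k) hae hce commp
  have sY := (IsPullback.of_hasPullback k s2).map (Over.forget S)
  have sX := (IsPullback.of_hasPullback h (pullback.fst k s2)).map (Over.forget S)
  have sXY := sX.paste_vert sY
  constructor
  · exact inK_of_baseChange h.left k.left s2.left _ _ sY _ _ sXY sX.w u'
  · exact inK_baseChange h.left k.left s2.left _ _ sY _ _ sXY sX.w u'

end Groth.Agent.Lib.Helper79.AlgSpKosBC
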