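import Groth.Agent.Lib.Helper79.LCIEtaleSource
import Groth.Agent.Lib.Helper46.LocPChart
import Groth.Agent.S8658

/-!
# Chart-wise properties stable under FLAT base change only (helper79)

Variant of helper46's `EtLocal` framework for properties `Q` of morphisms of schemes that are etale
local on the source-and-target and stable under flat (not arbitrary) base change, such as
"local complete intersection morphism".

* `EtLocalF Q`, `EtLocalF.cancel`
* `locP_of_chart` : one chart with surjective source chart suffices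
* `locP_flat_baseChange` : `LocP Q` is stable under flat base change of algebraic spaces
* `etLocalF_lci`
-/

set_option autoImplicit false
universe u
open CategoryTheory CategoryTheory.Limits AlgebraicGeometry Opposite

namespace Groth.Agent.Lib.Helper79.EtLocalF

open AlgSp Groth.Agent.Lib.Helper36.AlgSpCharts Groth.Agent.Lib.Helper23.AlgSpMor
open Groth.Agent.Lib.Helper46.LocPChart

/-- `Q` is etale local on the source-and-target and stable under flat base change. -/
structure EtLocalF (Q : MorphismProperty Scheme.{u}) : Prop where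
  respectsIso : Q.RespectsIso
  flatBaseChange : ∀ ⦃A X Y Z : Scheme.{u}⦄ ⦃fst : A ⟶ X⦄ ⦃snd : A ⟶ Y⦄ ⦃f : X ⟶ Z⦄ ⦃g : Y ⟶ Z⦄,
    IsPullback fst snd f g → Flat g → Q f → Q snd
  precomp : ∀ ⦃U' U V : Scheme.{u}⦄ (g : U' ⟶ U) (q : U ⟶ V), Etale g → Q q → Q (g ≫ q)
  postcomp : ∀ ⦃U V V' : Scheme.{u}⦄ (q : U ⟶ V) (b : V ⟶ V'), Etale b → Q q → Q (q ≫ b)
  of_cover : ∀ ⦃U' U V : Scheme.{u}⦄ (g : U' ⟶ U) (q : U ⟶ V), Etale g → Surjective g →
    Q (g ≫ q) → Q q

namespace EtLocalF

variable {Q : MorphismProperty Scheme.{u}}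

/-- cancellation: if `k ≫ r` has `Q` and `r` is etale then `k` has `Q`. -/
theorem cancel (hQ : EtLocalF Q) {A B C : Scheme.{u}} (k : A ⟶ B) (r : B ⟶ C) (hr : Etale r)
    (h : Q (k ≫ r)) : Q k := by
  set gr : A ⟶ pullback (k ≫ r) r := pullback.lift (𝟙 A) k (by simp) with hgr
  have hk : k = gr ≫ pullback.snd _ _ := by rw [hgr, pullback.lift_snd]
  have hpb := pullback_lift_diagonal_isPullback k r
  have h1 : Etale (pullback.diagonal r) := inferInstance
  have h2 : Etale gr := MorphismProperty.of_isPullback (P := @Etale) hpb h1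
  rw [hk]
  exact hQ.precomp _ _ h2
    (hQ.flatBaseChange (IsPullback.of_hasPullback (k ≫ r) r) inferInstance h)

end EtLocalF

variable {S : Scheme.{u}} {Q : MorphismProperty Scheme.{u}}

/-- **One chart suffices** (flat-base-change version of helper46's `locP_of_chart`). -/
theorem locP_of_chart (hQ : EtLocalF Q) {X Y : Sp S} (f : X ⟶ Y) {U V : Over S}
    (a : (yon S).obj U ⟶ X) (b : (yon S).obj V ⟶ Y) (h : U ⟶ V)
    (ha : RepWith @Etale a) (has : RepWith @Surjective a) (hb : RepWith @Etale b)
    (comm : a ≫ f = (yon S).map h ≫ b) (hh : Q h.left) : LocP Q f := by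
  intro U' V' a' b' h' ha' hb' comm'
  obtain ⟨U'', p1, p2, sqU⟩ := exists_isPullback_yon a a' ha'.rep
  have hp1 : Etale p1.left := prop_fst_of_isPullback sqU ha'
  have hp2e : Etale p2.left := prop_snd_of_isPullback sqU ha
  have hp2s : Surjective p2.left := prop_snd_of_isPullback sqU has
  obtain ⟨V'', r1, r2, sqV⟩ := exists_isPullback_yon b b' hb'.rep
  have hr1 : Etale r1.left := prop_fst_of_isPullback sqV hb'
  have hr2 : Etale r2.left := prop_snd_of_isPullback sqV hb
  obtain ⟨k', hk1, hk2⟩ := sqV.exists_lift ((yon S).map (p1 ≫ h)) ((yon S).map (p2 ≫ h')) (by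
    rw [Functor.map_comp, Category.assoc, ← comm, ← Category.assoc, sqU.w, Category.assoc, comm',
      Functor.map_comp, Category.assoc])
  obtain ⟨k, rfl⟩ := (yon S).map_surjective k'
  have e1 : k ≫ r1 = p1 ≫ h := (yon S).map_injective (by simpa using hk1)
  have e2 : k ≫ r2 = p2 ≫ h' := (yon S).map_injective (by simpa using hk2)
  have q1 : Q (k.left ≫ r1.left) := by
    rw [← Over.comp_left, e1, Over.comp_left]
    exact hQ.precomp _ _ hp1 hh
  have hk : Q k.left := hQ.cancel _ _ hr1 q1
  have q2 : Q (p2.left ≫ h'.left) := by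
    rw [← Over.comp_left, ← e2, Over.comp_left]
    exact hQ.postcomp _ _ hr2 hk
  exact hQ.of_cover _ _ hp2e hp2s q2

/-- **Base change of a chart**: for a pullback square `X' = X ×_Y Y'`, a chart `(a, c, h)` of `f`
and a scheme `V'` with `h_{V'} = Y' ×_Y h_V`, the scheme `U ×_V V'` is a chart of `X'` whose
structure map is the base change of `a`. -/
theorem exists_chart_baseChange {X Y X' Y' : Sp S} {f : X ⟶ Y} {g : Y' ⟶ Y} {fst : X' ⟶ X}
    {f' : X' ⟶ Y'} (sq : IsPullback fst f' f g) {U V V' : Over S}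
    (a : (yon S).obj U ⟶ X) (c : (yon S).obj V ⟶ Y) (h : U ⟶ V)
    (comm : a ≫ f = (yon S).map h ≫ c) (b' : (yon S).obj V' ⟶ Y') (s2 : V' ⟶ V)
    (sqV : IsPullback b' ((yon S).map s2) g c) :
    ∃ a' : (yon S).obj (pullback h s2) ⟶ X',
      IsPullback a' ((yon S).map (pullback.fst h s2)) fst a ∧
        a' ≫ f' = (yon S).map (pullback.snd h s2) ≫ b' := by
  have sqT := (IsPullback.of_hasPullback h s2).map (yon S)
  have big : IsPullback ((yon S).map (pullback.fst h s2))
      ((yon S).map (pullback.snd h s2) ≫ b') (a ≫ f) g := by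
    have := sqT.paste_vert sqV.flip
    rwa [← comm] at this
  obtain ⟨a', ha1, ha2⟩ := sq.exists_lift ((yon S).map (pullback.fst h s2) ≫ a)
    ((yon S).map (pullback.snd h s2) ≫ b') (by rw [Category.assoc]; exact big.w)
  refine ⟨a', ?_, ha2⟩
  refine IsPullback.of_right ?_ ha1 sq.flip
  rw [ha2]
  exact big.flip

/-- **Base change to a scheme** along a map `t : h_T ⟶ Y` whose base changes to etale charts of `Y`
are flat. -/
theorem locP_baseChange_yon (hQ : EtLocalF Q) {X Y : Sp S} (hX : IsAlgSpace X)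
    (hY : IsAlgSpace Y) (f : X ⟶ Y) (hf : LocP Q f) {T : Over S} (t : (yon S).obj T ⟶ Y)
    (hflat : ∀ ⦃V V1 : Over S⦄ (c : (yon S).obj V ⟶ Y) (s1 : V1 ⟶ T) (s2 : V1 ⟶ V),
      RepWith @Etale c → IsPullback ((yon S).map s1) ((yon S).map s2) t c → Flat s2.left)
    {P : Sp S} (pfst : P ⟶ X) (psnd : P ⟶ (yon S).obj T) (sqP : IsPullback pfst psnd f t) :
    LocP Q psnd := by
  obtain ⟨V, c, hce, hcs⟩ := hY.atlas
  obtain ⟨V1, s1, s2, sqV⟩ := exists_isPullback_yon t c hce.rep
  have hs1e : Etale s1.left := prop_fst_of_isPullback sqV hce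
  have hs2 : Flat s2.left := hflat c s1 s2 hce sqV
  obtain ⟨U, a, h, d, -, -, -, -, hae, comm, has⟩ := exists_chart hX hY.diag f c hce
  have hQh : Q h.left := hf a c h hae hce comm
  obtain ⟨a', sqa, ha'⟩ := exists_chart_baseChange sqP a c h comm ((yon S).map s1) s2 sqV
  have ha'e : RepWith @Etale a' :=
    MorphismProperty.of_isPullback (P := RepWith @Etale) sqa.flip hae
  have ha's : RepWith @Surjective a' :=
    MorphismProperty.of_isPullback (P := RepWith @Surjective) sqa.flip (has hcs)
  refine locP_of_chart hQ psnd a' ((yon S).map s1) (pullback.snd h s2) ha'e ha's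
    ((repWith_yon_map_iff _ _).2 hs1e) ha' ?_
  exact hQ.flatBaseChange ((IsPullback.of_hasPullback h s2).map (Over.forget S)) hs2 hQh

/-- **Etale locality on the target**: `LocP Q f'` follows from `LocP Q` of the base change of `f'` to
a surjective etale chart of the target. -/
theorem locP_of_atlas_target (hQ : EtLocalF Q) {X' Y' : Sp S} (hX' : IsAlgSpace X')
    (hY' : IsAlgSpace Y') (f' : X' ⟶ Y') {V' : Over S} (b' : (yon S).obj V' ⟶ Y')
    (hb'e : RepWith @Etale b') (hb's : RepWith @Surjective b')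
    (h : LocP Q (pullback.snd f' b')) : LocP Q f' := by
  obtain ⟨U', a', h', d', hd'e, -, ha'd, hh', ha'e, comm, has⟩ :=
    exists_chart hX' hY'.diag f' b' hb'e
  refine locP_of_chart hQ f' a' b' h' ha'e (has hb's) hb'e comm ?_
  exact h d' (𝟙 _) h' hd'e (repWith_id _ V') (by rw [Category.comp_id, hh'])

/-- **Flat base change**: the chart-wise property `LocP Q` is stable under flat base change of
algebraic spaces. -/
theorem locP_flat_baseChange (hQ : EtLocalF Q) {X Y X' Y' : Sp S} (hX : IsAlgSpace X)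
    (hY : IsAlgSpace Y) (hX' : IsAlgSpace X') (hY' : IsAlgSpace Y') {f : X ⟶ Y} {g : Y' ⟶ Y}
    {fst : X' ⟶ X} {f' : X' ⟶ Y'} (sq : IsPullback fst f' f g) (hg : LocP @Flat g)
    (hf : LocP Q f) : LocP Q f' := by
  obtain ⟨V', b', hb'e, hb's⟩ := hY'.atlas
  refine locP_of_atlas_target hQ hX' hY' f' b' hb'e hb's ?_
  have sqP : IsPullback (pullback.fst f' b' ≫ fst) (pullback.snd f' b') f (b' ≫ g) :=
    (IsPullback.of_hasPullback f' b').paste_horiz sq
  refine locP_baseChange_yon hQ hX hY f hf (b' ≫ g) ?_ _ _ sqP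
  intro V V1 c s1 s2 hce sqV
  have hs1e : Etale s1.left := prop_fst_of_isPullback sqV hce
  refine hg ((yon S).map s1 ≫ b') c s2 ?_ hce ?_
  · exact (RepWith @Etale).comp_mem _ _ ((repWith_yon_map_iff _ _).2 hs1e) hb'e
  · rw [Category.assoc]; exact sqV.w

open Groth.Agent.Lib.Helper79.AlgSpLCI Groth.Agent.Lib.Helper79.LCIEtaleSource in
/-- "local complete intersection morphism" is etale local on the source-and-target and stable under
flat base change. -/
theorem etLocalF_lci : EtLocalF (AlgSp.lci.{u}) where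
  respectsIso := by
    haveI : (Groth.Agent.Lib.Helper43.LCIDescent.lciMor.{u}).RespectsIso := inferInstance
    have e : AlgSp.lci.{u} = Groth.Agent.Lib.Helper43.LCIDescent.lciMor.{u} := by
      ext X Y f; exact lci_iff_lciMor f
    rw [e]; infer_instance
  flatBaseChange := fun _ _ _ _ fst snd f g sq hg hf =>
    haveI := hg
    Groth.Agent.S8658.result f g snd fst sq hf
  precomp := fun _ _ _ g q hg hq => haveI := hg; lci_comp g q (lci_of_smooth g) hq
  postcomp := fun _ _ _ q b hb hq => haveI := hb; lci_comp q b hq (lci_of_smooth b)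
  of_cover := fun _ _ _ g q hg hs h => haveI := hg; haveI := hs; lci_of_etale_cover g q h

end Groth.Agent.Lib.Helper79.EtLocalF
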