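import Groth.Agent.Lib.Helper79.KosNear
import Groth.Agent.Lib.Helper79.EtLocalF
import Groth.Agent.Lib.Helper79.AlgSpChart
import Groth.Agent.Lib.Helper36.OpenSubspace
import Groth.Agent.Lib.Helper30.LocPNbhd
import Groth.Prelude.Def_AlgSpMor6

/-!
# The Koszul locus of a morphism of algebraic spaces on charts (helper79)

`locPNear_lci_iff` : for etale charts `a : h_U ⟶ X`, `b : h_V ⟶ Y` and `h : U ⟶ V` over `f`,
`f` is Koszul at `a(u)` (in the open-neighbourhood sense) iff `h` is lci on an open neighbourhood of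
`u`.
-/

set_option autoImplicit false
universe u
open CategoryTheory CategoryTheory.Limits AlgebraicGeometry Opposite

namespace Groth.Agent.Lib.Helper79.AlgSpKosLocus

open AlgSp Groth.Agent.Lib.Helper36.AlgSpCharts Groth.Agent.Lib.Helper23.AlgSpMor
open Groth.Agent.Lib.Helper46.LocPChart Groth.Agent.Lib.Helper37.AlgSpPoints
open Groth.Agent.Lib.Helper79.KosNear Groth.Agent.Lib.Helper79.EtLocalF
open Groth.Agent.Lib.Helper79.AlgSpChart Groth.Agent.Lib.Helper36.OpenSubspace
open Groth.Agent.Lib.Helper30.LocPNbhd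

variable {S : Scheme.{u}}

theorem kosNear_of_locPNear {X Y : Sp S} (f : X ⟶ Y) {U V : Over S}
    (a : (yon S).obj U ⟶ X) (b : (yon S).obj V ⟶ Y) (h : U ⟶ V)
    (ha : RepWith @Etale a) (hb : RepWith @Etale b) (comm : a ≫ f = (yon S).map h ≫ b)
    (u : ↥U.left) (hn : LocPNear AlgSp.lci f (Points.ofPt a u)) : KosNear h.left u := by
  obtain ⟨W, j, hj, ⟨w, hw⟩, hloc⟩ := hn
  obtain ⟨R, fst, snd, sq, hsnd⟩ := exists_pullback @IsOpenImmersion hj a
  have hfst : RepWith @Etale fst :=
    MorphismProperty.of_isPullback (P := RepWith @Etale) sq.flip ha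
  have e : Points.map j w = Points.map a (Points.ofScheme U u) := by
    rw [hw, Points.ofPt_eq_map_ofScheme]
  obtain ⟨p, -, hp2⟩ := points_exists_of_isPullback sq w (Points.ofScheme U u) e
  refine ⟨R.left, snd.left, hsnd, ⟨Points.toScheme R p, ?_⟩, ?_⟩
  · apply (Points.schemeEquiv U).injective
    change Points.ofScheme U _ = Points.ofScheme U u
    rw [← hp2, ← ofPt_yon_map, ← Points.ofScheme_toScheme R p, Points.toScheme_ofScheme,
      Points.ofPt_eq_map_ofScheme]
  · have := hloc fst b (snd ≫ h) hfst hb (by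
      rw [← Category.assoc, sq.w, Category.assoc, comm, Functor.map_comp, Category.assoc])
    rwa [Over.comp_left] at this

theorem locPNear_of_kosNear {X Y : Sp S} (f : X ⟶ Y) {U V : Over S}
    (a : (yon S).obj U ⟶ X) (b : (yon S).obj V ⟶ Y) (h : U ⟶ V)
    (ha : RepWith @Etale a) (hb : RepWith @Etale b) (comm : a ≫ f = (yon S).map h ≫ b)
    (u : ↥U.left) (hk : KosNear h.left u) : LocPNear AlgSp.lci f (Points.ofPt a u) := by
  obtain ⟨W₀, ι, hι, ⟨w₀, hw₀⟩, hl⟩ := hk
  let Wo : Over S := Over.mk (ι ≫ U.hom)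
  let ιo : Wo ⟶ U := Over.homMk ι rfl
  have hopen : IsOpen (Points.ofPt a '' Set.range ι) :=
    isOpenMap_ofPt a ha _ ι.isOpenEmbedding.isOpen_range
  set W' : Set (Points X) := Points.ofPt a '' Set.range ι with hW'
  have hj := repWith_isOpenImmersion_openSubι X W' hopen
  have hιe : RepWith @Etale ((yon S).map ιo) :=
    (repWith_yon_map_iff _ _).2 (by change Etale ι; infer_instance)
  have haW : RepWith @Etale ((yon S).map ιo ≫ a) :=
    MorphismProperty.comp_mem _ _ _ hιe ha
  obtain ⟨a'', ha''⟩ := exists_lift_openSub X W' ((yon S).map ιo ≫ a) (fun t => by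
    rw [ofPt_map_comp]
    exact ⟨ι t, ⟨t, rfl⟩, rfl⟩)
  have ha''e : RepWith @Etale a'' := by
    refine repWith_of_comp_mono @Etale a'' (openSubι X W') ?_
    rw [ha'']
    exact haW
  have ha''s : RepWith @Surjective a'' := by
    refine repWith_surjective_of_ofPt_surjective a'' ha''e.rep fun x' => ?_
    have hx' : Points.map (openSubι X W') x' ∈ W' :=
      (range_map_openSubι X W').subset ⟨x', rfl⟩
    obtain ⟨_, ⟨t, rfl⟩, ht⟩ := hx'
    refine ⟨t, points_map_injective_of_mono (openSubι X W') ?_⟩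
    rw [Points.map_ofPt, ha'', ofPt_map_comp]
    exact ht
  refine ⟨openSub X W', openSubι X W', hj, ?_, ?_⟩
  · rw [range_map_openSubι]
    exact ⟨u, ⟨w₀, hw₀⟩, rfl⟩
  · refine locP_of_chart etLocalF_lci (openSubι X W' ≫ f) a'' b (ιo ≫ h) ha''e ha''s hb ?_ ?_
    · rw [← Category.assoc, ha'', Category.assoc, comm, Functor.map_comp, Category.assoc]
    · rw [Over.comp_left]
      exact hl

theorem locPNear_lci_iff {X Y : Sp S} (f : X ⟶ Y) {U V : Over S}
    (a : (yon S).obj U ⟶ X) (b : (yon S).obj V ⟶ Y) (h : U ⟶ V)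
    (ha : RepWith @Etale a) (hb : RepWith @Etale b) (comm : a ≫ f = (yon S).map h ≫ b)
    (u : ↥U.left) : LocPNear AlgSp.lci f (Points.ofPt a u) ↔ KosNear h.left u :=
  ⟨kosNear_of_locPNear f a b h ha hb comm u, locPNear_of_kosNear f a b h ha hb comm u⟩

end Groth.Agent.Lib.Helper79.AlgSpKosLocus
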