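import Groth.Agent.Lib.Helper79.AlgSpKosBC
import Groth.Agent.Lib.Helper23.AlgSpMor2
import Groth.Agent.Lib.Helper23.AlgSpMor4
import Groth.Agent.S10194
import Groth.Agent.S10195

/-!
# The Koszul locus is open; the open locus of the base where a morphism is Koszul (helper79)

* `isOpen_kosLocus` : `{x | LocPNear lci f x}` is open in `|X|`.
* `locP_lci_iff_forall_locPNear` : `f` is Koszul iff it is Koszul at every point.
* `where_lci` : for `f : X ⟶ Y` over `Z` with `X ⟶ Z` flat, lfp and closed, `Y ⟶ Z` flat lfp, there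
  is an open subspace `W ⊆ Z` such that `g : Z' ⟶ Z` factors through `W` iff the base change of `f`
  along `g` is Koszul.
-/

set_option autoImplicit false
universe u
open CategoryTheory CategoryTheory.Limits AlgebraicGeometry Opposite

namespace Groth.Agent.Lib.Helper79.AlgSpKosOpen

open AlgSp Groth.Agent.Lib.Helper36.AlgSpCharts Groth.Agent.Lib.Helper23.AlgSpMor
open Groth.Agent.Lib.Helper46.LocPChart Groth.Agent.Lib.Helper37.AlgSpPoints
open Groth.Agent.Lib.Helper79.KosNear Groth.Agent.Lib.Helper79.EtLocalF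
open Groth.Agent.Lib.Helper79.AlgSpChart Groth.Agent.Lib.Helper79.AlgSpKosLocus
open Groth.Agent.Lib.Helper79.AlgSpKosBC
open Groth.Agent.Lib.Helper94.FibG Groth.Agent.Lib.Helper79.AlgSpLCI
open Groth.Agent.Lib.Helper43.LCIDescent

variable {S : Scheme.{u}}

theorem isOpen_kosLocus {X Y : Sp S} (f : X ⟶ Y) : IsOpen {x | LocPNear AlgSp.lci f x} := by
  rw [isOpen_iff_forall_mem_open]
  rintro x ⟨W, j, hj, hx, hloc⟩
  refine ⟨Set.range (Points.map j), ?_, ?_, hx⟩
  · intro y hy
    exact ⟨W, j, hj, hy, hloc⟩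
  · rw [← Set.image_univ]
    exact isOpenMap_points_of_repWith (P := @IsOpenImmersion) (fun _ _ g hg => by
      have : IsOpenImmersion g := hg
      exact g.isOpenEmbedding.isOpenMap) j hj _ isOpen_univ

theorem lci_of_forall_inK {U V : Scheme.{u}} (h : U ⟶ V) (H : ∀ u, InK h u) : AlgSp.lci h := by
  rw [lci_iff_lciMor, HasRingHomProperty.iff_exists_appLE (P := lciMor) hQs]
  intro x
  obtain ⟨U₀, V₀, hU₀, hV₀, hUV, hx, hQ⟩ := H x
  exact ⟨⟨V₀, hV₀⟩, ⟨U₀, hU₀⟩, hx, hUV, hQ⟩

theorem repWith_isOpenImmersion_id (X : Sp S) : RepWith @IsOpenImmersion (𝟙 X) := by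
  apply MorphismProperty.relative.of_exists
  intro T g
  refine ⟨T, g, 𝟙 T, ?_, (inferInstance : IsOpenImmersion (𝟙 T.left))⟩
  exact IsPullback.of_vert_isIso ⟨by simp⟩

theorem locPNear_of_locP {X Y : Sp S} (f : X ⟶ Y) (hf : LocP AlgSp.lci f) (x : Points X) :
    LocPNear AlgSp.lci f x :=
  ⟨X, 𝟙 X, repWith_isOpenImmersion_id X, ⟨x, Points.map_id x⟩, by rwa [Category.id_comp]⟩

theorem locP_lci_of_forall_locPNear {X Y : Sp S} (hX : IsAlgSpace X) (hY : IsAlgSpace Y)
    (f : X ⟶ Y) (H : ∀ x, LocPNear AlgSp.lci f x) : LocP AlgSp.lci f := by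
  obtain ⟨V, b, hbe, hbs⟩ := hY.atlas
  obtain ⟨U, a, h, d, -, -, -, -, hae, comm, has⟩ := exists_chart hX hY.diag f b hbe
  refine locP_of_chart etLocalF_lci f a b h hae (has hbs) hbe comm ?_
  apply lci_of_forall_inK
  intro u
  rw [← kosNear_iff_inK, ← locPNear_lci_iff f a b h hae hbe comm u]
  exact H _

theorem where_lci {X Y Z : AlgSp.Space S} (f : X ⟶ Y) (q : Y ⟶ Z)
    (hp1 : LocP @Flat (f.hom ≫ q.hom)) (hp2 : LocP @LocallyOfFinitePresentation (f.hom ≫ q.hom))
    (hp3 : IsClosedMap (Points.map (f.hom ≫ q.hom))) (hq1 : LocP @Flat q.hom)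
    (hq2 : LocP @LocallyOfFinitePresentation q.hom) :
    ∃ (W : AlgSp.Space S) (w : W ⟶ Z), RepWith @IsOpenImmersion w.hom ∧
      ∀ (Z' : AlgSp.Space S) (g : Z' ⟶ Z),
        (∃ k : Z' ⟶ W, k ≫ w = g) ↔
          ∀ (Y' : AlgSp.Space S) (gY : Y' ⟶ Y) (q' : Y' ⟶ Z'),
            IsPullback gY.hom q'.hom q.hom g.hom →
            ∀ (X' : AlgSp.Space S) (gX : X' ⟶ X) (f' : X' ⟶ Y'),
              IsPullback gX.hom f'.hom f.hom gY.hom →
                LocP AlgSp.lci f'.hom := by
  set K : Set (Points X.obj) := {x | LocPNear AlgSp.lci f.hom x} with hK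
  have hKo : IsOpen K := isOpen_kosLocus f.hom
  have hcl : IsClosed (Points.map (f.hom ≫ q.hom) '' Kᶜ) := hp3 _ hKo.isClosed_compl
  obtain ⟨W, w, hw, hrange⟩ := Groth.Agent.S10195.result Z _ hcl.isOpen_compl
  refine ⟨W, w, hw, fun Z' g => ?_⟩
  rw [Groth.Agent.S10194.result w hw g, hrange]
  constructor
  · intro hsub Y' gY q' hY X' gX f' hX
    refine locP_lci_of_forall_locPNear X'.property Y'.property f'.hom fun x' => ?_
    rw [locPNear_lci_baseChange X.property Y.property Z.property Z'.property f.hom q.hom hp1 hp2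
      hq1 hq2 g.hom gY.hom q'.hom hY gX.hom f'.hom hX x']
    by_contra hx
    have h1 : Points.map g.hom (Points.map (f'.hom ≫ q'.hom) x') ∈
        (Points.map (f.hom ≫ q.hom) '' Kᶜ)ᶜ := hsub ⟨_, rfl⟩
    apply h1
    refine ⟨Points.map gX.hom x', hx, ?_⟩
    rw [← Points.map_comp, ← Points.map_comp, Category.assoc, ← hY.w, ← Category.assoc,
      ← Category.assoc, hX.w]
  · intro H
    rintro _ ⟨z', rfl⟩ ⟨x, hxK, hxz⟩
    have sqY := IsPullback.of_hasPullback q.hom g.hom
    let Y' : AlgSp.Space S := ⟨pullback q.hom g.hom,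
      isAlgSpace_of_isPullback Y.property Z'.property Z.property.diag sqY⟩
    let gY : Y' ⟶ Y := ObjectProperty.homMk (pullback.fst q.hom g.hom)
    let q' : Y' ⟶ Z' := ObjectProperty.homMk (pullback.snd q.hom g.hom)
    have sqX := IsPullback.of_hasPullback f.hom (pullback.fst q.hom g.hom)
    let X' : AlgSp.Space S := ⟨pullback f.hom (pullback.fst q.hom g.hom),
      isAlgSpace_of_isPullback X.property Y'.property Y.property.diag sqX⟩
    let gX : X' ⟶ X := ObjectProperty.homMk (pullback.fst f.hom (pullback.fst q.hom g.hom))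
    let f' : X' ⟶ Y' := ObjectProperty.homMk (pullback.snd f.hom (pullback.fst q.hom g.hom))
    have hf' : LocP AlgSp.lci f'.hom := H Y' gY q' sqY X' gX f' sqX
    have big : IsPullback gX.hom (f'.hom ≫ q'.hom) (f.hom ≫ q.hom) g.hom := sqX.paste_vert sqY
    obtain ⟨x', -, hx'⟩ := points_exists_of_isPullback big.flip z' x hxz.symm
    apply hxK
    show LocPNear AlgSp.lci f.hom x
    rw [← hx', ← locPNear_lci_baseChange X.property Y.property Z.property Z'.property f.hom q.hom
      hp1 hp2 hq1 hq2 g.hom gY.hom q'.hom sqY gX.hom f'.hom sqX x']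
    exact locPNear_of_locP f'.hom hf' x'

end Groth.Agent.Lib.Helper79.AlgSpKosOpen
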