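import Groth.Prelude.Def_AlgSpMor6
import Groth.Agent.Lib.Helper36.AlgSpCharts
import Groth.Agent.Lib.Helper43.LCICancel
import Groth.Agent.Lib.Helper43.KoszulAtLCI
import Groth.Agent.Lib.Helper43.LCIDescent

/-!
# lci morphisms of algebraic spaces: scheme-level toolbox and cancellation (helper79)

* `lci_iff_lciMor`, `lci_comp`, `lci_of_etale`, `lci_cancel_smooth`
* `lci_descent` : `lci` descends along etale surjective base change (no quasi-compactness)
* `isLCIMor_of_comp_smooth` : `f ≫ q` lci, `q` smooth ⇒ `f` lci (algebraic spaces)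
-/

set_option autoImplicit false
universe u
open CategoryTheory CategoryTheory.Limits AlgebraicGeometry Opposite

namespace Groth.Agent.Lib.Helper79.AlgSpLCI

open AlgSp Groth.Agent.Lib.Helper36.AlgSpCharts
open Groth.Agent.Lib.Helper43.LCIDescent Groth.Agent.Lib.Helper43.KoszulAtLCI
open Groth.Agent.Lib.Helper43.LCICancel Groth.Agent.Lib.Helper43.KRComp

theorem lci_iff_lciMor {X Y : Scheme.{u}} (f : X ⟶ Y) : AlgSp.lci f ↔ lciMor f :=
  isKoszulAt_iff_lciMor f

theorem lci_comp {X Y Z : Scheme.{u}} (f : X ⟶ Y) (g : Y ⟶ Z) (hf : AlgSp.lci f)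
    (hg : AlgSp.lci g) : AlgSp.lci (f ≫ g) :=
  isKoszulAt_comp f g hf hg

theorem lci_of_smooth {X Y : Scheme.{u}} (f : X ⟶ Y) [Smooth f] : AlgSp.lci f :=
  fun x => isKoszulAt_of_smooth f x

theorem lci_cancel_smooth {U V T : Scheme.{u}} (h : U ⟶ V) (b : V ⟶ T) [Smooth b]
    (hc : AlgSp.lci (h ≫ b)) : AlgSp.lci h :=
  isKoszulAt_of_comp_smooth h b hc

/-- `lci` descends along etale surjective base change. -/
theorem lci_descent {A X Y Z : Scheme.{u}} {fst : A ⟶ X} {snd : A ⟶ Y} {f : X ⟶ Z} {g : Y ⟶ Z}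
    (sq : IsPullback fst snd f g) [Etale f] [Surjective f] (h : AlgSp.lci fst) : AlgSp.lci g := by
  rw [lci_iff_lciMor] at h ⊢
  haveI := lciMor_descendsAlong.{u}
  haveI : IsZariskiLocalAtTarget lciMor.{u} :=
    HasRingHomProperty.instIsZariskiLocalAtTarget (P := lciMor.{u}) (Q := @IsLCIHom)
  exact MorphismProperty.of_isPullback_of_descendsAlong
    (Q := @Surjective ⊓ @Flat ⊓ @LocallyOfFinitePresentation) sq
    ⟨⟨inferInstance, inferInstance⟩, inferInstance⟩ h

variable {S : Scheme.{u}}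

/-- **Cancellation for algebraic spaces**: `f ≫ q` lci and `q` smooth imply `f` lci. -/
theorem isLCIMor_of_comp_smooth {X Y Z : Sp S} (hZ : IsAlgSpace Z) (f : X ⟶ Y) (q : Y ⟶ Z)
    (hq : LocP @Smooth q) (hp : IsLCIMor (f ≫ q)) : IsLCIMor f := by
  intro U V a b h ha hb comm
  obtain ⟨W, c, hce, hcs⟩ := hZ.atlas
  obtain ⟨V', s1, s2, sqV⟩ := exists_isPullback_yon (b ≫ q) c hce.rep
  have hs1e : Etale s1.left := prop_fst_of_isPullback sqV hce
  have hs1s : Surjective s1.left := prop_fst_of_isPullback sqV hcs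
  have hs2 : Smooth s2.left := by
    refine hq ((yon S).map s1 ≫ b) c s2 ?_ hce ?_
    · exact (RepWith @Etale).comp_mem _ _ ((repWith_yon_map_iff _ _).2 hs1e) hb
    · rw [Category.assoc]; exact sqV.w
  have sqT := IsPullback.of_hasPullback h s1
  set τ1 := pullback.fst h s1
  set τ2 := pullback.snd h s1
  have sqT' : IsPullback τ2.left τ1.left s1.left h.left := (sqT.map (Over.forget S)).flip
  have hτ1 : Etale τ1.left := MorphismProperty.of_isPullback (P := @Etale) sqT' hs1e
  have h1 : AlgSp.lci (τ2 ≫ s2).left := by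
    refine hp ((yon S).map τ1 ≫ a) c (τ2 ≫ s2) ?_ hce ?_
    · exact (RepWith @Etale).comp_mem _ _ ((repWith_yon_map_iff _ _).2 hτ1) ha
    · rw [Category.assoc, ← Category.assoc a, comm, Category.assoc, ← Category.assoc,
        ← Functor.map_comp, sqT.w, Functor.map_comp, Category.assoc, sqV.w, Functor.map_comp,
        Category.assoc]
  rw [Over.comp_left] at h1
  have h2 : AlgSp.lci τ2.left := lci_cancel_smooth _ _ h1
  exact lci_descent sqT' h2

end Groth.Agent.Lib.Helper79.AlgSpLCI
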