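import Groth.Agent.Lib.Helper79.EtLocalFFpqc2

/-!
# lci morphisms of algebraic spaces are fpqc local on the base (helper79)
-/

set_option autoImplicit false
universe u
open CategoryTheory CategoryTheory.Limits AlgebraicGeometry Opposite

namespace Groth.Agent.Lib.Helper79.AlgSpLCIFpqc

open AlgSp Groth.Agent.Lib.Helper79.EtLocalF Groth.Agent.Lib.Helper79.AlgSpLCI
open Groth.Agent.Lib.Helper43.LCIDescent Groth.Agent.Lib.Helper43.KRComp

theorem lci_eq_lciMor : AlgSp.lci.{u} = lciMor.{u} := by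
  ext X Y f
  exact lci_iff_lciMor f

variable {S : Scheme.{u}}

theorem isLocalOnBase_fpqc_isLCIMor :
    IsLocalOnBase (IsFpqcCover (S := S)) (IsLCIMor (S := S)) := by
  haveI : IsZariskiLocalAtTarget AlgSp.lci.{u} := by
    rw [lci_eq_lciMor]
    exact HasRingHomProperty.instIsZariskiLocalAtTarget (P := lciMor.{u}) (Q := @IsLCIHom)
  haveI : (AlgSp.lci.{u}).DescendsAlong (@Surjective ⊓ @Flat ⊓ @QuasiCompact) := by
    rw [lci_eq_lciMor]
    exact lciMor_descendsAlong
  exact isLocalOnBase_fpqc_locP' etLocalF_lci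

end Groth.Agent.Lib.Helper79.AlgSpLCIFpqc
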