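import Groth.Agent.Lib.Helper43.KindImmDescent

/-!
# Descent of regular immersions along flat surjective OPEN morphisms (helper79)

Variant of helper43's `KindImmDescent.regImm_descent` without quasi-compactness: for the kinds
koszul, h1 and quasi, regular immersions descend along flat surjective morphisms that are open
maps (e.g. etale surjective, fppf).

* `isLocallyKind_koszul_iff`, `isLocallyKind_of_faithfullyFlat`
* `regImm_descent_open`, `regImm_descent_etale`
-/

set_option autoImplicit false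
set_option linter.style.haveILetI false
universe u

open CategoryTheory CategoryTheory.Limits AlgebraicGeometry

namespace Groth.Agent.Lib.Helper79.RegImmOpenDescent

open Groth.Agent.Lib.Helper43.KoszulAtPerf Groth.Agent.Lib.Helper43.RegImmFlatBC
open Groth.Agent.Lib.Helper43.KRIdeal Groth.Agent.Lib.Helper43.RegImmComp
open Groth.Agent.Lib.Helper43.KRImmDescent Groth.Agent.Lib.Helper43.KRSmoothImm
open Groth.Agent.Lib.Helper43.SeqFlatBC Groth.Agent.Lib.Helper43.KindIdeal
open Groth.Agent.Lib.Helper43.KindImmDescent Groth.Agent.Lib.Helper43.KRDescent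

lemma isLocallyKind_koszul_iff {R : Type u} [CommRing R] (J : Ideal R) :
    IsLocallyKind .koszul J ↔ LCI.IsKoszulRegularIdeal J := by
  constructor
  · intro h 𝔭 h𝔭
    obtain ⟨g, hg, rs, hrs, hgen⟩ := h 𝔭.asIdeal h𝔭
    exact ⟨g, hg, rs, hrs, hgen.symm⟩
  · intro h P _ hP
    obtain ⟨g, hg, rs, hrs, hgen⟩ := h ⟨P, inferInstance⟩ hP
    exact ⟨g, hg, rs, hrs, hgen.symm⟩

/-- faithfully flat descent of ideals locally generated by sequences of kind `k` -/
theorem isLocallyKind_of_faithfullyFlat (k : RegImm.Kind) (hk : k ≠ .regular)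
    (A B : Type u) [CommRing A] [CommRing B] [Algebra A B] [Module.FaithfullyFlat A B]
    (I : Ideal A) (h : IsLocallyKind k (I.map (algebraMap A B))) : IsLocallyKind k I := by
  cases k with
  | regular => exact absurd rfl hk
  | koszul =>
    exact (isLocallyKind_koszul_iff _).2
      (koszulRegularIdeal_of_faithfullyFlat A B I ((isLocallyKind_koszul_iff _).1 h))
  | h1 =>
    exact (isLocallyKind_h1_iff _).2
      (isLocallyH1_of_faithfullyFlat A B I ((isLocallyKind_h1_iff _).1 h))
  | quasi =>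
    exact (isLocallyKind_quasi_iff _).2
      (Groth.Agent.S9252.result A B I ((isLocallyKind_quasi_iff _).1 h))

/-- **Descent of regular immersions along flat surjective open morphisms** (kinds koszul, h1,
quasi), without quasi-compactness. -/
theorem regImm_descent_open (k : RegImm.Kind) (hk : k ≠ .regular)
    {X Y X' Y' : Scheme.{u}} (i : Y ⟶ X) [IsImmersion i]
    (g : X' ⟶ X) [Flat g] [Surjective g] (hopen : IsOpenMap g)
    (i' : Y' ⟶ X') (g' : Y' ⟶ Y) (hsq : IsPullback g' i' i g)
    (hi' : RegImm.IsRegularImmersion k i') : RegImm.IsRegularImmersion k i := by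
  refine ⟨inferInstance, fun z => ?_⟩
  have hzW : i z ∈ i.coborderRange := subset_coborder ⟨z, rfl⟩
  obtain ⟨U, hU, hzU, hUW⟩ := exists_isAffineOpen_mem_and_subset hzW
  obtain ⟨x', hx'⟩ := g.surjective (i z)
  have hx'U : x' ∈ g ⁻¹ᵁ U := by
    change g x' ∈ U
    rw [hx']; exact hzU
  obtain ⟨V', hV', hx'V', hV'U⟩ := exists_isAffineOpen_mem_and_subset hx'U
  have e : V' ≤ g ⁻¹ᵁ U := hV'U
  let O : X.Opens := ⟨g '' (V' : Set X'), hopen _ V'.2⟩
  have hzO : i z ∈ O := ⟨x', hx'V', hx'⟩
  obtain ⟨h, hhO, hzh⟩ := hU.exists_basicOpen_le (V := O) ⟨i z, hzO⟩ hzU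
  have hUh : IsAffineOpen (X.basicOpen h) := hU.basicOpen h
  have hUhW : (X.basicOpen h : Set X) ⊆ i.coborderRange :=
    fun x hx => hUW (X.basicOpen_le h hx)
  haveI hci : IsClosedImmersion (i ∣_ X.basicOpen h) :=
    isClosedImmersion_restrict_of_le_coborderRange i _ hUhW
  refine regImmAt_of_isLocallyKind k hk i (X.basicOpen h) hUh ?_ z hzh
  set V'' : X'.Opens := X'.basicOpen (g.appLE U V' e h) with hV''def
  have hV''eq : V'' = V' ⊓ g ⁻¹ᵁ (X.basicOpen h) := Scheme.basicOpen_appLE g V' U e h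
  have hV'' : IsAffineOpen V'' := hV'.basicOpen _
  have e'' : V'' ≤ g ⁻¹ᵁ (X.basicOpen h) := by rw [hV''eq]; exact inf_le_right
  obtain ⟨hci'', hker''⟩ := ker_app_baseChange i g i' g' hsq (X.basicOpen h) hUh V'' hV'' e''
  have hff : (g.appLE (X.basicOpen h) V'' e'').hom.FaithfullyFlat := by
    apply faithfullyFlat_appLE g (X.basicOpen h) hUh V'' hV'' e''
    intro x hx
    obtain ⟨t, htV', htx⟩ := hhO hx
    refine ⟨t, ?_, htx⟩
    rw [hV''eq]
    refine ⟨htV', ?_⟩
    change g t ∈ X.basicOpen h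
    rw [htx]; exact hx
  haveI := hci''
  have hK := isLocallyKind_ker_of_regImmAt k hk i' V'' hV'' (fun z _ => hi'.2 z)
  rw [hker''] at hK
  letI := (g.appLE (X.basicOpen h) V'' e'').hom.toAlgebra
  haveI : Module.FaithfullyFlat Γ(X, X.basicOpen h) Γ(X', V'') := hff
  exact isLocallyKind_of_faithfullyFlat k hk Γ(X, X.basicOpen h) Γ(X', V'') _ hK

/-- descent of regular immersions along etale surjective morphisms -/
theorem regImm_descent_etale (k : RegImm.Kind) (hk : k ≠ .regular)
    {X Y X' Y' : Scheme.{u}} (i : Y ⟶ X) [IsImmersion i]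
    (g : X' ⟶ X) [Etale g] [Surjective g]
    (i' : Y' ⟶ X') (g' : Y' ⟶ Y) (hsq : IsPullback g' i' i g)
    (hi' : RegImm.IsRegularImmersion k i') : RegImm.IsRegularImmersion k i :=
  regImm_descent_open k hk i g g.isOpenMap i' g' hsq hi'

end Groth.Agent.Lib.Helper79.RegImmOpenDescent
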