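import Groth.Agent.Lib.Helper79.AlgSpLCI
import Groth.Agent.Lib.Helper79.RegImmOpenDescent
import Groth.Agent.Lib.Helper43.KoszulAtFactor

/-!
# Regular immersions of algebraic spaces (helper79)

* `isRegImmMor_koszul_of_lci_smooth` : an immersion `i : U ⟶ P` over `Y` with `P ⟶ Y` smooth and
  `U ⟶ X ⟶ Y` etale followed by lci is a Koszul-regular immersion (Stacks 0CJY-type; S10664)
-/

set_option autoImplicit false
universe u
open CategoryTheory CategoryTheory.Limits AlgebraicGeometry Opposite

namespace Groth.Agent.Lib.Helper79.AlgSpRegImm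

open AlgSp Groth.Agent.Lib.Helper36.AlgSpCharts
open Groth.Agent.Lib.Helper79.AlgSpLCI Groth.Agent.Lib.Helper79.RegImmOpenDescent
open Groth.Agent.Lib.Helper43.KoszulAtFactor

variable {S : Scheme.{u}}

theorem isRegImmMor_koszul_of_lci_smooth {X Y P U : Sp S} (hY : IsAlgSpace Y)
    (f : X ⟶ Y) (g : P ⟶ Y) (e : U ⟶ X) (i : U ⟶ P)
    (hc : i ≫ g = e ≫ f) (hf : IsLCIMor f) (hg : LocP @Smooth g)
    (he : IsEtaleMor e) (hi : RepWith @IsImmersion i) :
    IsRegImmMor RegImm.Kind.koszul i := by
  refine ⟨hi.1, fun V W b fst snd hb sq => ?_⟩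
  have himm : IsImmersion snd.left := hi.2 b fst snd sq
  obtain ⟨W0, c, hce, hcs⟩ := hY.atlas
  obtain ⟨V1, s1, s2, sqV⟩ := exists_isPullback_yon (b ≫ g) c hce.rep
  have hs1e : Etale s1.left := prop_fst_of_isPullback sqV hce
  have hs1s : Surjective s1.left := prop_fst_of_isPullback sqV hcs
  have hs2 : Smooth s2.left := by
    refine hg ((yon S).map s1 ≫ b) c s2 ?_ hce ?_
    · exact (RepWith @Etale).comp_mem _ _ ((repWith_yon_map_iff _ _).2 hs1e) hb
    · rw [Category.assoc]; exact sqV.w
  have sqT := IsPullback.of_hasPullback snd s1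
  set τ1 := pullback.fst snd s1
  set τ2 := pullback.snd snd s1
  have sqT' : IsPullback τ1.left τ2.left snd.left s1.left := sqT.map (Over.forget S)
  have hτ1 : Etale τ1.left := MorphismProperty.of_isPullback (P := @Etale) sqT'.flip hs1e
  have hτ2 : IsImmersion τ2.left := MorphismProperty.of_isPullback (P := @IsImmersion) sqT' himm
  have hfst : RepWith @Etale fst := MorphismProperty.of_isPullback (P := RepWith @Etale) sq.flip hb
  have ha : RepWith @Etale (((yon S).map τ1 ≫ fst) ≫ e) :=
    he _ ((RepWith @Etale).comp_mem _ _ ((repWith_yon_map_iff _ _).2 hτ1) hfst)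
  have h1 : AlgSp.lci (τ2 ≫ s2).left := by
    refine hf (((yon S).map τ1 ≫ fst) ≫ e) c (τ2 ≫ s2) ha hce ?_
    rw [Category.assoc, Category.assoc, ← hc, ← Category.assoc fst, sq.w, Category.assoc,
      ← Category.assoc, ← Functor.map_comp, sqT.w, Functor.map_comp, Category.assoc, sqV.w,
      Functor.map_comp, Category.assoc]
  rw [Over.comp_left] at h1
  have h2 : RegImm.IsRegularImmersion .koszul τ2.left :=
    regImm_of_koszulAt (τ2.left ≫ s2.left) h1 s2.left τ2.left rfl
  exact regImm_descent_etale .koszul (by simp) snd.left s1.left τ2.left τ1.left sqT' h2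

end Groth.Agent.Lib.Helper79.AlgSpRegImm
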