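import Groth.Agent.Lib.Helper79.AlgSpRegImm
import Groth.Agent.Lib.Helper23.ImmDescent2

/-!
# Regular immersions of algebraic spaces: immersion property and flat base change (helper79)

* `repWith_isImmersion_of_isRegImmMor` : a regular immersion of algebraic spaces is a
  (representable) immersion
* `isRegImmMor_flat_baseChange` : flat base change (S10662)
-/

set_option autoImplicit false
universe u
open CategoryTheory CategoryTheory.Limits AlgebraicGeometry Opposite

namespace Groth.Agent.Lib.Helper79.AlgSpRegImmBC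

open AlgSp Groth.Agent.Lib.Helper36.AlgSpCharts
open Groth.Agent.Lib.Helper79.RegImmOpenDescent
open Groth.Agent.Lib.Helper43.RegImmFlatBC Groth.Agent.Lib.Helper23.ClosedDescent

variable {S : Scheme.{u}}

/-- A regular immersion of algebraic spaces (all etale charts form) is an immersion. -/
theorem repWith_isImmersion_of_isRegImmMor (k : RegImm.Kind) {Z X : Sp S} (hX : IsAlgSpace X)
    (i : Z ⟶ X) (hi : IsRegImmMor k i) : RepWith @IsImmersion i := by
  obtain ⟨V, c, hce, hcs⟩ := hX.atlas
  have sqW := hi.1.isPullback c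
  refine repWith_immersions_of_etale_cover @IsImmersion (Or.inr (Or.inr rfl)) i c hce hcs sqW ?_
  rw [repWith_yon_map_iff]
  exact (hi.2 c (hi.1.fst c) (hi.1.snd c) hce sqW).1

/-- **Flat base change of regular immersions of algebraic spaces.** -/
theorem isRegImmMor_flat_baseChange (k : RegImm.Kind) (hk : k ≠ .regular) {Z X X' P : Sp S}
    (hX : IsAlgSpace X) (i : Z ⟶ X) (g : X' ⟶ X) (hi : IsRegImmMor k i) (hg : LocP @Flat g)
    (fst : P ⟶ Z) (i' : P ⟶ X') (sq : IsPullback fst i' i g) : IsRegImmMor k i' := by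
  have himm : RepWith @IsImmersion i' :=
    (RepWith @IsImmersion).of_isPullback sq (repWith_isImmersion_of_isRegImmMor k hX i hi)
  refine ⟨himm.1, fun V' W' b' fst' snd' hb' sq' => ?_⟩
  haveI hsnd' : IsImmersion snd'.left := himm.2 b' fst' snd' sq'
  obtain ⟨V, c, hce, hcs⟩ := hX.atlas
  obtain ⟨V1, s1, s2, sqV⟩ := exists_isPullback_yon (b' ≫ g) c hce.rep
  have hs1e : Etale s1.left := prop_fst_of_isPullback sqV hce
  have hs1s : Surjective s1.left := prop_fst_of_isPullback sqV hcs
  have hs2 : Flat s2.left := by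
    refine hg ((yon S).map s1 ≫ b') c s2 ?_ hce ?_
    · exact (RepWith @Etale).comp_mem _ _ ((repWith_yon_map_iff _ _).2 hs1e) hb'
    · rw [Category.assoc]; exact sqV.w
  -- the chart of `i` over the atlas
  have sqW := hi.1.isPullback c
  set ι := hi.1.snd c with hι
  have hιreg : RegImm.IsRegularImmersion k ι.left := hi.2 c (hi.1.fst c) ι hce sqW
  -- base change of `snd'` to `V1`
  have sqT := IsPullback.of_hasPullback snd' s1
  set τ1 := pullback.fst snd' s1
  set τ2 := pullback.snd snd' s1
  have sqT' : IsPullback τ1.left τ2.left snd'.left s1.left := sqT.map (Over.forget S)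
  -- `h_{W'1} = Z ×_X h_{V1}`
  have big : IsPullback (((yon S).map τ1 ≫ fst') ≫ fst) ((yon S).map τ2) i
      ((yon S).map s2 ≫ c) := by
    have t1 : IsPullback (fst' ≫ fst) ((yon S).map snd') i (b' ≫ g) := sq'.paste_horiz sq
    have t2 := (sqT.map (yon S)).paste_horiz t1
    rw [sqV.w] at t2
    simpa [Category.assoc] using t2
  obtain ⟨m', hm1, hm2⟩ := sqW.exists_lift (((yon S).map τ1 ≫ fst') ≫ fst)
    ((yon S).map τ2 ≫ (yon S).map s2) (by rw [Category.assoc]; exact big.w)
  have sqm : IsPullback m' ((yon S).map τ2) ((yon S).map ι) ((yon S).map s2) := by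
    refine IsPullback.of_right ?_ hm2 sqW
    rw [hm1]
    exact big
  obtain ⟨m, rfl⟩ := (yon S).map_surjective m'
  have hm2' : m ≫ ι = τ2 ≫ s2 := (yon S).map_injective (by simpa using hm2)
  have sqm' : IsPullback m.left τ2.left ι.left s2.left :=
    (IsPullback.of_map (yon S) hm2' sqm).map (Over.forget S)
  have hτ2 : RegImm.IsRegularImmersion k τ2.left :=
    regImm_baseChange k ι.left s2.left τ2.left m.left sqm' hιreg
  exact regImm_descent_etale k hk snd'.left s1.left τ2.left τ1.left sqT' hτ2

end Groth.Agent.Lib.Helper79.AlgSpRegImmBC
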