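import Groth.Agent.Lib.Helper43.RegImmComp
import Groth.Agent.Lib.Helper43.KindImmDescent
import Groth.Agent.S2104
import Groth.Agent.S2105

/-!
# Composition of `H₁`-regular / quasi-regular immersions (helper79)

* `kindSeq_append` : `rs` of kind `k ∈ {h1, quasi}` in `A`, `tl` `H₁`-regular modulo `(rs)` ⇒ `rs ++ tl`
  of kind `k` (from S2104, S2105)
* `kind_comp_at`, `regImm_comp_kind` : an `H₁`-regular immersion followed by an immersion of kind
  `k` is of kind `k`
-/

set_option autoImplicit false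
universe u
open CategoryTheory CategoryTheory.Limits AlgebraicGeometry

namespace Groth.Agent.Lib.Helper79.RegImmCompKind

open Groth.Agent.Lib.Helper43.SeqFlatBC Groth.Agent.Lib.Helper43.RegImmComp
open Groth.Agent.Lib.Helper43.KindImmDescent Groth.Agent.Lib.Helper43.KoszulAtPerf
open Groth.Agent.Lib.Helper43.RegImmFlatBC

section Ring

variable {A B : Type u} [CommRing A] [CommRing B]

lemma get_append_eq (rs tl : List A) :
    (rs ++ tl).get = Fin.append rs.get tl.get ∘ Fin.cast List.length_append := by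
  funext i
  simp only [Function.comp, List.get_eq_getElem]
  by_cases h : (i : ℕ) < rs.length
  · rw [List.getElem_append_left h]
    have e : Fin.cast List.length_append i = Fin.castAdd tl.length ⟨i, h⟩ := by ext; rfl
    rw [e, Fin.append_left]
    rfl
  · push_neg at h
    rw [List.getElem_append_right h]
    have hlt : (i : ℕ) - rs.length < tl.length := by
      have h1 : (i : ℕ) < (rs ++ tl).length := i.2
      have h2 : (rs ++ tl).length = rs.length + tl.length := List.length_append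
      omega
    have e : Fin.cast List.length_append i = Fin.natAdd rs.length ⟨i - rs.length, hlt⟩ := by
      ext
      simp only [Fin.val_cast, Fin.val_natAdd]
      omega
    rw [e, Fin.append_right]
    rfl

theorem kindSeq_append (k : RegImm.Kind) (hk : k = .h1 ∨ k = .quasi)
    (π : A →+* B) (hπ : Function.Surjective π) (rs tl : List A)
    (hker : RingHom.ker π = Ideal.ofList rs) (hrs : k.Seq A rs)
    (hts : RegImm.Kind.Seq .h1 B (tl.map π)) : k.Seq A (rs ++ tl) := by
  have hspan : Ideal.span (Set.range rs.get) = RingHom.ker π := by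
    rw [hker, ofList_eq_span_range_get]
  let e : (A ⧸ Ideal.span (Set.range rs.get)) ≃+* B :=
    (Ideal.quotEquivOfEq hspan).trans (RingHom.quotientKerEquivOfSurjective hπ)
  have he : ∀ a, e (Ideal.Quotient.mk _ a) = π a := fun a => rfl
  have h1 : CAlgX.IsH1Regular (π ∘ tl.get) := by
    have h0 : CAlgX.IsH1Regular (tl.map π).get := hts
    rw [get_map_eq] at h0
    have h0' := h1_cast (List.length_map π).symm _ h0
    have e1 : ((π ∘ tl.get) ∘ Fin.cast (List.length_map π)) ∘
        Fin.cast (List.length_map π).symm = π ∘ tl.get := by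
      funext j; rfl
    rwa [e1] at h0'
  have h2 : CAlgX.IsH1Regular
      (fun j => Ideal.Quotient.mk (Ideal.span (Set.range rs.get)) (tl.get j)) := by
    have h3 := h1Regular_of_flat e.symm.toRingHom
      (RingHom.Flat.of_bijective e.symm.bijective) _ h1
    have e2 : (e.symm.toRingHom ∘ (π ∘ tl.get)) =
        fun j => Ideal.Quotient.mk (Ideal.span (Set.range rs.get)) (tl.get j) := by
      funext j
      change e.symm (π (tl.get j)) = _
      rw [← he, RingEquiv.symm_apply_apply]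
    rwa [e2] at h3
  rcases hk with rfl | rfl
  · change CAlgX.IsH1Regular (rs ++ tl).get
    rw [get_append_eq]
    exact h1_cast _ _ (Groth.Agent.S2105.result rs.get tl.get hrs h2)
  · change CAlgX.IsQuasiRegular (rs ++ tl).get
    rw [get_append_eq]
    exact quasi_cast _ _ (Groth.Agent.S2104.result rs.get tl.get hrs h2)

end Ring

/-- composition of charts: outer kind `k ∈ {h1, quasi}`, inner kind `h1` -/
theorem kind_comp_at (k : RegImm.Kind) (hk : k = .h1 ∨ k = .quasi)
    {X Y Z : Scheme.{u}} (i : Y ⟶ X) (j : Z ⟶ Y) (z : Z)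
    (U : X.Opens) (hU : IsAffineOpen U) (hzU : i (j z) ∈ U) [IsClosedImmersion (i ∣_ U)]
    (rs : List Γ(X, U)) (hrs : k.Seq Γ(X, U) rs)
    (hker : RingHom.ker (i.app U).hom = Ideal.ofList rs)
    (V : Y.Opens) (hV : IsAffineOpen V) (hzV : j z ∈ V) [IsClosedImmersion (j ∣_ V)]
    (ts : List Γ(Y, V)) (hts : RegImm.Kind.Seq .h1 Γ(Y, V) ts)
    (hkerj : RingHom.ker (j.app V).hom = Ideal.ofList ts) :
    ∃ U₁ : X.affineOpens, (j ≫ i) z ∈ U₁.1 ∧ IsClosedImmersion ((j ≫ i) ∣_ U₁.1) ∧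
      ∃ l : List Γ(X, U₁.1), k.Seq Γ(X, U₁.1) l ∧
          RingHom.ker ((j ≫ i).app U₁.1).hom = Ideal.ofList l := by
  have hU' : IsAffineOpen (i ⁻¹ᵁ U) := isAffineOpen_preimage_of_restrict i U hU
  obtain ⟨fbar, hfV, hzf⟩ := hU'.exists_basicOpen_le ⟨j z, hzV⟩ hzU
  obtain ⟨f, rfl⟩ := app_surjective_of_restrict i U hU fbar
  have hpre : i ⁻¹ᵁ X.basicOpen f = Y.basicOpen ((i.app U).hom f) := Scheme.preimage_basicOpen i f
  have hU₁ : IsAffineOpen (X.basicOpen f) := hU.basicOpen f
  have hz₁ : i (j z) ∈ X.basicOpen f := by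
    change j z ∈ i ⁻¹ᵁ X.basicOpen f
    rw [hpre]
    exact hzf
  obtain ⟨hci₁, rs₁, hlen₁, hrs₁, hker₁⟩ := chart_restrict k i U hU rs hrs hker
    (X.basicOpen f) hU₁ (X.basicOpen_le f) (j z) hz₁
  haveI := hci₁
  have hW : IsAffineOpen (i ⁻¹ᵁ X.basicOpen f) :=
    isAffineOpen_preimage_of_restrict i _ hU₁
  have hWV : i ⁻¹ᵁ X.basicOpen f ≤ V := by rw [hpre]; exact hfV
  obtain ⟨hcj₁, ts₁, hlen₂, hts₁, hkerj₁⟩ := chart_restrict .h1 j V hV ts hts hkerj
    (i ⁻¹ᵁ X.basicOpen f) hW hWV z hz₁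
  haveI := hcj₁
  refine ⟨⟨X.basicOpen f, hU₁⟩, hz₁, ?_, ?_⟩
  · change IsClosedImmersion ((j ≫ i) ∣_ X.basicOpen f)
    rw [morphismRestrict_comp]
    exact @IsClosedImmersion.comp _ _ _ _ _ hcj₁ hci₁
  · have hπ : Function.Surjective (i.app (X.basicOpen f)).hom :=
      app_surjective_of_restrict i _ hU₁
    obtain ⟨tl, rfl⟩ := (List.map_surjective_iff.2 hπ) ts₁
    refine ⟨rs₁ ++ tl, ?_, ?_⟩
    · exact kindSeq_append k hk _ hπ rs₁ tl hker₁ hrs₁ hts₁
    · change RingHom.ker ((j ≫ i).app (X.basicOpen f)).hom = _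
      have hmem : ∀ x, x ∈ RingHom.ker ((j ≫ i).app (X.basicOpen f)).hom ↔
          (i.app (X.basicOpen f)).hom x ∈ RingHom.ker (j.app (i ⁻¹ᵁ X.basicOpen f)).hom := by
        intro x
        rw [RingHom.mem_ker, RingHom.mem_ker, Scheme.Hom.comp_app]
        rfl
      ext x
      rw [hmem, hkerj₁, ← Ideal.mem_comap, ← Ideal.map_ofList,
        Ideal.comap_map_of_surjective _ hπ, ← RingHom.ker_eq_comap_bot, hker₁,
        Ideal.ofList_append, sup_comm]

/-- an `H₁`-regular immersion followed by an immersion of kind `k ∈ {h1, quasi}` is of kind `k` -/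
theorem regImm_comp_kind (k : RegImm.Kind) (hk : k = .h1 ∨ k = .quasi)
    {X Y Z : Scheme.{u}} (i : Y ⟶ X) (j : Z ⟶ Y)
    (hi : RegImm.IsRegularImmersion k i) (hj : RegImm.IsRegularImmersion .h1 j) :
    RegImm.IsRegularImmersion k (j ≫ i) := by
  obtain ⟨hi1, hi2⟩ := hi
  obtain ⟨hj1, hj2⟩ := hj
  haveI := hi1
  haveI := hj1
  refine ⟨inferInstance, fun z => ?_⟩
  obtain ⟨U, hzU, hci, rs, hrs, hker⟩ := hi2 (j z)
  obtain ⟨V, hzV, hcj, ts, hts, hkerj⟩ := hj2 z
  obtain ⟨U₁, hz₁, hc₁, l, hl, hkl⟩ := kind_comp_at k hk i j z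
    U.1 U.2 hzU rs hrs hker V.1 V.2 hzV ts hts hkerj
  exact ⟨U₁, hz₁, hc₁, l, hl, hkl⟩

end Groth.Agent.Lib.Helper79.RegImmCompKind
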