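import Groth.Agent.Lib.Helper79.AlgSpRegImmBC
import Groth.Agent.Lib.Helper79.RegImmCompKind
import Groth.Agent.S8654

/-!
# Composition of regular immersions of algebraic spaces (helper79)
-/

set_option autoImplicit false
universe u
open CategoryTheory CategoryTheory.Limits AlgebraicGeometry Opposite

namespace Groth.Agent.Lib.Helper79.AlgSpRegImmComp

open AlgSp Groth.Agent.Lib.Helper36.AlgSpCharts
open Groth.Agent.Lib.Helper43.RegImmFlatBC Groth.Agent.Lib.Helper79.RegImmCompKind

/-- regular immersions of any kind are stable under precomposition with isomorphisms -/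
theorem regImm_iso_comp (k : RegImm.Kind) {T Y X : Scheme.{u}} (o : T ⟶ Y) [IsIso o] (i : Y ⟶ X)
    (hi : RegImm.IsRegularImmersion k i) : RegImm.IsRegularImmersion k (o ≫ i) := by
  have hsq : IsPullback o (o ≫ i) i (𝟙 X) :=
    IsPullback.of_horiz_isIso ⟨by rw [Category.comp_id]⟩
  exact regImm_baseChange k i (𝟙 X) (o ≫ i) o hsq hi

variable {S : Scheme.{u}}

/-- **Composition** of regular immersions of algebraic spaces, given the composition rule for
schemes. -/
theorem isRegImmMor_comp (k₁ k₂ k₃ : RegImm.Kind)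
    (hcomp : ∀ {A B C : Scheme.{u}} (a : B ⟶ C) (b : A ⟶ B), RegImm.IsRegularImmersion k₂ a →
      RegImm.IsRegularImmersion k₁ b → RegImm.IsRegularImmersion k₃ (b ≫ a))
    {Z Y X : Sp S} (i : Z ⟶ Y) (j : Y ⟶ X) (hi : IsRegImmMor k₁ i) (hj : IsRegImmMor k₂ j) :
    IsRegImmMor k₃ (i ≫ j) := by
  have hrep : Representable (i ≫ j) :=
    (Functor.relativelyRepresentable (yon S)).comp_mem i j hi.1 hj.1
  refine ⟨hrep, fun V W b fst snd hb sq => ?_⟩
  have sqY := hj.1.isPullback b
  have hbY : RepWith @Etale (hj.1.fst b) :=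
    MorphismProperty.of_isPullback (P := RepWith @Etale) sqY.flip hb
  have hιY : RegImm.IsRegularImmersion k₂ (hj.1.snd b).left :=
    hj.2 b (hj.1.fst b) (hj.1.snd b) hb sqY
  have sqZ := hi.1.isPullback (hj.1.fst b)
  have hιZ : RegImm.IsRegularImmersion k₁ (hi.1.snd (hj.1.fst b)).left :=
    hi.2 (hj.1.fst b) (hi.1.fst (hj.1.fst b)) (hi.1.snd (hj.1.fst b)) hbY sqZ
  have big : IsPullback (hi.1.fst (hj.1.fst b))
      ((yon S).map (hi.1.snd (hj.1.fst b) ≫ hj.1.snd b)) (i ≫ j) b := by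
    rw [Functor.map_comp]
    exact sqZ.paste_vert sqY
  let ε' := sq.isoIsPullback _ _ big
  have hε' : ε'.hom ≫ (yon S).map (hi.1.snd (hj.1.fst b) ≫ hj.1.snd b) = (yon S).map snd :=
    sq.isoIsPullback_hom_snd _ _ big
  let ε := (yon S).preimageIso ε'
  have hε : ε.hom ≫ (hi.1.snd (hj.1.fst b) ≫ hj.1.snd b) = snd := by
    apply (yon S).map_injective
    rw [Functor.map_comp]
    simpa [ε] using hε'
  have e : snd.left = ε.hom.left ≫
      ((hi.1.snd (hj.1.fst b)).left ≫ (hj.1.snd b).left) := by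
    rw [← hε]; rfl
  haveI : IsIso ε.hom.left := by
    have : IsIso ((Over.forget S).map ε.hom) := inferInstance
    exact this
  rw [e]
  exact regImm_iso_comp k₃ _ _ (hcomp _ _ hιY hιZ)

/-- the three composition rules (S10663) -/
theorem isRegImmMor_comp_rules {Z Y X : Sp S} (i : Z ⟶ Y) (j : Y ⟶ X) :
    (IsRegImmMor RegImm.Kind.koszul i → IsRegImmMor RegImm.Kind.koszul j →
        IsRegImmMor RegImm.Kind.koszul (i ≫ j)) ∧
      (IsRegImmMor RegImm.Kind.h1 i → IsRegImmMor RegImm.Kind.h1 j →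
        IsRegImmMor RegImm.Kind.h1 (i ≫ j)) ∧
      (IsRegImmMor RegImm.Kind.h1 i → IsRegImmMor RegImm.Kind.quasi j →
        IsRegImmMor RegImm.Kind.quasi (i ≫ j)) := by
  refine ⟨fun hi hj => ?_, fun hi hj => ?_, fun hi hj => ?_⟩
  · exact isRegImmMor_comp .koszul .koszul .koszul
      (fun a b ha hb => Groth.Agent.S8654.result a b ha hb) i j hi hj
  · exact isRegImmMor_comp .h1 .h1 .h1
      (fun a b ha hb => regImm_comp_kind .h1 (Or.inl rfl) a b ha hb) i j hi hj
  · exact isRegImmMor_comp .h1 .quasi .quasi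
      (fun a b ha hb => regImm_comp_kind .quasi (Or.inr rfl) a b ha hb) i j hi hj

end Groth.Agent.Lib.Helper79.AlgSpRegImmComp
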