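import Groth.Agent.Lib.Helper79.SmoothLocalLift
import Groth.Agent.Lib.Helper79.AlgSpChart
import Groth.Agent.Lib.Helper46.LocPChart
import Groth.Agent.Lib.Helper37.AlgSpPoints
import Groth.Prelude.Def_AlgSpInf

/-!
# Etale-local lifting along thickenings for smooth morphisms of algebraic spaces (helper79)
-/

set_option autoImplicit false
universe u
open CategoryTheory CategoryTheory.Limits AlgebraicGeometry Opposite

namespace Groth.Agent.Lib.Helper79.AlgSpSmoothLift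

open AlgSp Groth.Agent.Lib.Helper79.AlgSpChart Groth.Agent.Lib.Helper79.SmoothLocalLift
open Groth.Agent.Lib.Helper46.LocPChart Groth.Agent.Lib.Helper37.AlgSpPoints

variable {S : Scheme.{u}}

/-- Lifting an etale scheme along a thickening of schemes over `S`. -/
theorem exists_etale_lift_over_thick {W V W₂ : Over S} (t : W ⟶ V)
    (ht : MoreMor.IsThickening t.left) (s : W₂ ⟶ W) (hse : Etale s.left) :
    ∃ (V₂ : Over S) (v : V₂ ⟶ V) (t₂ : W₂ ⟶ V₂), Etale v.left ∧ IsPullback t₂ s v t ∧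
      MoreMor.IsThickening t₂.left := by
  haveI : IsClosedImmersion t.left := ht.1
  haveI : Surjective t.left := ht.2
  haveI : Etale s.left := hse
  obtain ⟨V₂₀, ι₀, v₀, hv₀e, hι₀, pb₀⟩ :=
    Groth.Agent.Lib.Helper57.EtLift.exists_isPullback t.left s.left
  let V₂ : Over S := Over.mk (v₀ ≫ V.hom)
  let v : V₂ ⟶ V := Over.homMk v₀ rfl
  let t₂ : W₂ ⟶ V₂ := Over.homMk ι₀ (by
    have h1 := Over.w t
    have h2 := Over.w s
    change ι₀ ≫ v₀ ≫ V.hom = W₂.hom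
    rw [← Category.assoc, pb₀.w, Category.assoc, h1, h2])
  refine ⟨V₂, v, t₂, hv₀e, ?_, hι₀⟩
  refine IsPullback.of_map (Over.forget S) ?_ pb₀
  apply Over.OverMorphism.ext
  exact pb₀.w

/-- Lifting along a thickening of schemes, etale locally on the thickening, for a smooth morphism
of algebraic spaces. -/
theorem exists_lift_of_scheme_thickening {X Y : Sp S} (hX : IsAlgSpace X) (hY : IsAlgSpace Y)
    (f : X ⟶ Y) (hf : LocP @Smooth f) {W₀ U₀ : Over S} (j : W₀ ⟶ U₀)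
    (hj : MoreMor.IsThickening j.left) (a₀ : (yon S).obj W₀ ⟶ X) (b₀ : (yon S).obj U₀ ⟶ Y)
    (w : a₀ ≫ f = (yon S).map j ≫ b₀) (u₀ : U₀.left) :
    ∃ (V : Over S) (e₀ : V ⟶ U₀) (ℓ : (yon S).obj V ⟶ X), Etale e₀.left ∧
      u₀ ∈ Set.range e₀.left ∧ ℓ ≫ f = (yon S).map e₀ ≫ b₀ ∧
      ∀ (Q : Over S) (p₁ : Q ⟶ W₀) (p₂ : Q ⟶ V), p₁ ≫ j = p₂ ≫ e₀ →
        (yon S).map p₂ ≫ ℓ = (yon S).map p₁ ≫ a₀ := by
  -- B1: charts of `Y` and `X`
  obtain ⟨Y₁, q, hqe, hqs⟩ := hY.atlas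
  obtain ⟨X₁, aX, h, d, hde, hds, haXd, hhd, haXe, hcomm, -⟩ :=
    exists_chart hX hY.diag f q hqe
  have hsm : Smooth h.left := hf aX q h haXe hqe hcomm
  obtain ⟨U₁, b₁, s₁, sq₁, hs₁e⟩ := exists_pullback_chart @Etale hqe b₀
  have hs₁s : Surjective s₁.left := hqs.property b₀ ((yon S).map b₁) s₁ sq₁
  obtain ⟨u₁, hu₁⟩ := hs₁s.surj u₀
  -- B2: pull back the thickening
  have sqW₁ : IsPullback (pullback.fst j s₁) (pullback.snd j s₁) j s₁ :=
    IsPullback.of_hasPullback j s₁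
  set W₁ : Over S := pullback j s₁ with hW₁
  set r₁ : W₁ ⟶ W₀ := pullback.fst j s₁ with hr₁
  set j₁ : W₁ ⟶ U₁ := pullback.snd j s₁ with hj₁def
  have sqW₁l : IsPullback r₁.left j₁.left j.left s₁.left := sqW₁.map (Over.forget S)
  have hj₁ : MoreMor.IsThickening j₁.left :=
    Groth.Agent.Lib.Helper57.FlatThick.thickening_baseChange hj sqW₁l
  obtain ⟨w₁, hw₁⟩ := hj₁.2.surj u₁
  -- B3: the map to `X ×_Y Y₁`
  have hc₁ : ((yon S).map r₁ ≫ a₀) ≫ f = (yon S).map (j₁ ≫ b₁) ≫ q := by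
    rw [Category.assoc, w, ← Category.assoc, ← Functor.map_comp, sqW₁.w, Functor.map_comp,
      Functor.map_comp, Category.assoc, Category.assoc, sq₁.w]
  let c₁ : (yon S).obj W₁ ⟶ pullback f q :=
    pullback.lift ((yon S).map r₁ ≫ a₀) ((yon S).map (j₁ ≫ b₁)) hc₁
  have hc₁fst : c₁ ≫ pullback.fst f q = (yon S).map r₁ ≫ a₀ := pullback.lift_fst _ _ _
  have hc₁snd : c₁ ≫ pullback.snd f q = (yon S).map (j₁ ≫ b₁) := pullback.lift_snd _ _ _
  -- B4: etale cover of `W₁` mapping to `X₁`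
  obtain ⟨W₂, a₂, s₂, sq₂, hs₂e⟩ := exists_pullback_chart @Etale hde c₁
  have hs₂s : Surjective s₂.left := hds.property c₁ ((yon S).map a₂) s₂ sq₂
  obtain ⟨w₂, hw₂⟩ := hs₂s.surj w₁
  -- B5: lift the etale cover along the thickening
  obtain ⟨U₂, v, j₂, hve, sqO, hj₂⟩ := exists_etale_lift_over_thick j₁ hj₁ s₂ hs₂e
  -- B6: local lifting for schemes
  have hcomm₂ : a₂.left ≫ h.left = j₂.left ≫ (v ≫ b₁).left := by
    have h1 : (yon S).map (a₂ ≫ h) = (yon S).map (j₂ ≫ v ≫ b₁) := by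
      rw [Functor.map_comp, hhd, ← Category.assoc, sq₂.w, Category.assoc, hc₁snd,
        ← Functor.map_comp, ← Category.assoc, ← sqO.w, Category.assoc]
    have h2 := (yon S).map_injective h1
    exact congrArg (fun m => m.left) h2
  haveI := hsm
  obtain ⟨U₃, l, hU₃, hu₃, hl1, hl2⟩ :=
    exists_local_lift h.left j₂.left hj₂ a₂.left (v ≫ b₁).left hcomm₂ (j₂.left w₂)
  -- B7: assemble
  let V : Over S := Over.mk (U₃.ι ≫ U₂.hom)
  let ι₃ : V ⟶ U₂ := Over.homMk U₃.ι rfl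
  let lO : V ⟶ X₁ := Over.homMk l (by
    change l ≫ X₁.hom = U₃.ι ≫ U₂.hom
    rw [← Over.w h, ← Category.assoc, hl1, Category.assoc, Over.w (v ≫ b₁)])
  have hlO : lO ≫ h = ι₃ ≫ v ≫ b₁ := by
    apply Over.OverMorphism.ext
    exact hl1
  refine ⟨V, ι₃ ≫ v ≫ s₁, (yon S).map lO ≫ aX, ?_, ?_, ?_, ?_⟩
  · haveI := hve
    haveI := hs₁e
    change Etale (U₃.ι ≫ v.left ≫ s₁.left)
    infer_instance
  · refine ⟨⟨j₂.left w₂, hu₃⟩, ?_⟩
    have h1 := congrArg (fun m => m.left w₂) sqO.w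
    simp only [Over.comp_left, Scheme.Hom.comp_apply] at h1
    change s₁.left (v.left (U₃.ι ⟨j₂.left w₂, hu₃⟩)) = u₀
    have h2 : U₃.ι ⟨j₂.left w₂, hu₃⟩ = j₂.left w₂ := rfl
    rw [h2, h1, hw₂, hw₁, hu₁]
  · rw [Category.assoc, hcomm, ← Category.assoc, ← Functor.map_comp, hlO, Functor.map_comp,
      Functor.map_comp, Functor.map_comp, Functor.map_comp, Category.assoc, Category.assoc,
      Category.assoc, Category.assoc, sq₁.w]
  · intro Q p₁ p₂ hp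
    have hp' : p₁ ≫ j = (p₂ ≫ ι₃ ≫ v) ≫ s₁ := by
      rw [hp]; simp only [Category.assoc]
    let k₁ : Q ⟶ W₁ := sqW₁.lift p₁ (p₂ ≫ ι₃ ≫ v) hp'
    have hk₁1 : k₁ ≫ r₁ = p₁ := sqW₁.lift_fst _ _ _
    have hk₁2 : k₁ ≫ j₁ = p₂ ≫ ι₃ ≫ v := sqW₁.lift_snd _ _ _
    let k₂ : Q ⟶ W₂ := sqO.lift (p₂ ≫ ι₃) k₁ (by rw [Category.assoc, hk₁2])
    have hk₂1 : k₂ ≫ j₂ = p₂ ≫ ι₃ := sqO.lift_fst _ _ _
    have hk₂2 : k₂ ≫ s₂ = k₁ := sqO.lift_snd _ _ _
    have h3 : p₂.left ≫ l = k₂.left ≫ a₂.left :=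
      hl2 Q.left k₂.left p₂.left (congrArg (fun m => m.left) hk₂1)
    have h4 : p₂ ≫ lO = k₂ ≫ a₂ := by
      apply Over.OverMorphism.ext
      exact h3
    rw [← Category.assoc, ← Functor.map_comp, h4, Functor.map_comp, Category.assoc, haXd,
      ← Category.assoc ((yon S).map a₂), sq₂.w, Category.assoc, hc₁fst, ← Category.assoc,
      ← Category.assoc, ← Functor.map_comp, ← Functor.map_comp, hk₂2, hk₁1]

/-- **Etale-local lifting along a thickening for a smooth morphism of algebraic spaces.** -/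
theorem exists_lift {X Y T T' : Sp S} (hX : IsAlgSpace X) (hY : IsAlgSpace Y)
    (hT' : IsAlgSpace T') (f : X ⟶ Y) (hf : LocP @Smooth f) (i : T ⟶ T') (hi : IsThickMor i)
    (a : T ⟶ X) (b : T' ⟶ Y) (w : a ≫ f = i ≫ b) (t' : Points T') :
    ∃ (V : Over S) (e : (yon S).obj V ⟶ T') (ℓ : (yon S).obj V ⟶ X),
      RepWith @Etale e ∧ t' ∈ Set.range (Points.ofPt e) ∧ ℓ ≫ f = e ≫ b ∧
      ∀ (P : Sp S) (p₁ : P ⟶ T) (p₂ : P ⟶ (yon S).obj V),
        IsPullback p₁ p₂ i e → p₂ ≫ ℓ = p₁ ≫ a := by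
  obtain ⟨U₀, p₀, hp₀e, hp₀s⟩ := hT'.atlas
  obtain ⟨u₀, rfl⟩ := ofPt_surjective p₀ hp₀s t'
  obtain ⟨W₀, fst₀, j, pb₀, hjt⟩ := exists_pullback thick hi p₀
  have hj : MoreMor.IsThickening j.left := hjt
  obtain ⟨V, e₀, ℓ, he₀, ⟨v, hv⟩, hℓ, hres⟩ :=
    exists_lift_of_scheme_thickening hX hY f hf j hj (fst₀ ≫ a) (p₀ ≫ b)
      (by rw [Category.assoc, w, ← Category.assoc, pb₀.w, Category.assoc]) u₀
  refine ⟨V, (yon S).map e₀ ≫ p₀, ℓ, repWith_map_comp @Etale e₀ he₀ hp₀e,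
    ⟨v, by rw [ofPt_map_comp, hv]⟩, by rw [hℓ, Category.assoc], ?_⟩
  intro P p₁ p₂ hP
  let r : P ⟶ (yon S).obj W₀ := pb₀.lift p₁ (p₂ ≫ (yon S).map e₀) (by rw [hP.w, Category.assoc])
  have hr1 : r ≫ fst₀ = p₁ := pb₀.lift_fst _ _ _
  have hr2 : r ≫ (yon S).map j = p₂ ≫ (yon S).map e₀ := pb₀.lift_snd _ _ _
  have sqP : IsPullback r p₂ ((yon S).map j) ((yon S).map e₀) :=
    IsPullback.of_right (by rw [hr1]; exact hP) hr2 pb₀
  have sqQ : IsPullback ((yon S).map (pullback.fst j e₀)) ((yon S).map (pullback.snd j e₀))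
      ((yon S).map j) ((yon S).map e₀) := (IsPullback.of_hasPullback j e₀).map (yon S)
  have h1 := hres _ (pullback.fst j e₀) (pullback.snd j e₀) pullback.condition
  have h2 : (sqP.isoIsPullback _ _ sqQ).hom ≫ (yon S).map (pullback.fst j e₀) = r :=
    IsPullback.isoIsPullback_hom_fst _ _ sqP sqQ
  have h3 : (sqP.isoIsPullback _ _ sqQ).hom ≫ (yon S).map (pullback.snd j e₀) = p₂ :=
    IsPullback.isoIsPullback_hom_snd _ _ sqP sqQ
  rw [← h3, Category.assoc, h1, ← Category.assoc, h2, ← Category.assoc, hr1]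

end Groth.Agent.Lib.Helper79.AlgSpSmoothLift
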