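import Groth.Agent.Lib.Helper79.AlgSpFormalYon
import Groth.Agent.Lib.Helper30.AlgSpEtaleMor
import Groth.Agent.Lib.Helper79.IdealSheafLocal

/-!
# Universal first order thickenings of algebraic spaces: formal lemmas (helper79)
-/

set_option autoImplicit false
universe u
open CategoryTheory CategoryTheory.Limits AlgebraicGeometry Opposite

namespace Groth.Agent.Lib.Helper79.AlgSpUnivThick

open AlgSp Groth.Agent.Lib.Helper79.AlgSpFormalAffine Groth.Agent.Lib.Helper79.AlgSpChart
open Groth.Agent.Lib.Helper79.AlgSpFormalLift Groth.Agent.Lib.Helper79.AlgSpFormalEtale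
open Groth.Agent.Lib.Helper79.AlgSpFormalYon
open Groth.Agent.Lib.Helper37.AlgSpFormal

variable {S : Scheme.{u}}

/-- An etale morphism of algebraic spaces is formally etale. -/
theorem formallyEtaleMor_of_isEtaleMor {A B : Sp S} (hA : IsAlgSpace A) (hB : IsAlgSpace B)
    (k : A ⟶ B) (hk : IsEtaleMor k) : IsFormallyEtaleMor k := by
  refine formallyEtaleMor_of_locP k hA hB fun U V a b h ha hb comm => ?_
  exact ((Groth.Agent.Lib.Helper19.FEG.etale_iff h.left).1
    (Groth.Agent.Lib.Helper30.AlgSpEtaleMor.locP_etale_of_isEtaleMor k hk a b h ha hb comm)).2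

/-- The base change of a first order thickening along an etale morphism is a first order
thickening. -/
theorem isFOThickMor_of_isPullback_etale {Y Y' Z Z' : Sp S} {iY : Y ⟶ Y'} {e' : Z' ⟶ Y'}
    {e : Z ⟶ Y} {iZ : Z ⟶ Z'} (sq : IsPullback e iZ iY e') (he' : IsEtaleMor e')
    (hi : IsFOThickMor iY) : IsFOThickMor iZ := by
  refine ⟨MorphismProperty.of_isPullback (P := RepWith thick) sq hi.1, ?_⟩
  intro V W b fst snd hV hb pb
  exact hi.2 (b ≫ e') (fst ≫ e) snd hV (he' b hb) (pb.paste_horiz sq)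

/-- The pullback of a first order thickening of sheaves to an affine etale chart is a first order
thickening of schemes. -/
theorem isFirstOrderThickening_of_chart {T T' : Sp S} {j : T ⟶ T'} (hj : IsFOThickMor j)
    {V W : Over S} (hV : IsAffine V.left) {c : (yon S).obj V ⟶ T'} (hc : RepWith @Etale c)
    {fst : (yon S).obj W ⟶ T} {snd : W ⟶ V} (pb : IsPullback fst ((yon S).map snd) j c) :
    MoreMor.IsFirstOrderThickening snd.left :=
  ⟨hj.1.property c fst snd pb, hj.2 c fst snd hV hc pb⟩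

/-- **Affine test objects suffice** for universal first order thickenings. -/
theorem isUnivFOThick_of_affine_test {Z Z' X : Sp S} (h : Z ⟶ X) (i : Z ⟶ Z') (h' : Z' ⟶ X)
    (hi : IsFOThickMor i) (w : i ≫ h' = h)
    (H : ∀ (T T' : Over S) (j : T ⟶ T'), IsAffine T'.left → IsFOThickMor ((yon S).map j) →
        ∀ (a : (yon S).obj T ⟶ Z) (b : (yon S).obj T' ⟶ X),
          (yon S).map j ≫ b = a ≫ h →
          ∃! a' : (yon S).obj T' ⟶ Z', (yon S).map j ≫ a' = a ≫ i ∧ a' ≫ h' = b) :
    IsUnivFOThick h i h' := by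
  refine ⟨hi, w, ?_⟩
  intro T T' _ hT' j a b hj wj
  refine existsUnique_lift_of_affine h' j (a ≫ i) b hT' hj.1 ?_
  intro V hV c hc
  obtain ⟨W, fst, snd, pb, -⟩ := exists_pullback thick hj.1 c
  have hfo := isFirstOrderThickening_of_chart hj hV hc pb
  obtain ⟨a', ⟨h1, h2⟩, hu⟩ := H W V snd hV (isFOThickMor_yon_map snd hfo) (fst ≫ a) (c ≫ b) (by
    rw [← Category.assoc, ← pb.w, Category.assoc, wj, Category.assoc])
  refine ⟨a', (isSol_iff pb a').2 ⟨by rw [h1, Category.assoc], h2⟩, ?_⟩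
  intro l hl
  rw [isSol_iff pb] at hl
  exact hu l ⟨by rw [hl.1, Category.assoc], hl.2⟩

/-- Etale localization of universal first order thickenings. -/
theorem isUnivFOThick_of_etale {Z Y Y' Z' X : Sp S} (hZ' : IsAlgSpace Z') (hY' : IsAlgSpace Y')
    (e : Z ⟶ Y) (hY : Y ⟶ X) (iY : Y ⟶ Y') (hY'm : Y' ⟶ X)
    (HU : IsUnivFOThick hY iY hY'm) (iZ : Z ⟶ Z') (e' : Z' ⟶ Y') (he' : IsEtaleMor e')
    (sq : IsPullback e iZ iY e') : IsUnivFOThick (e ≫ hY) iZ (e' ≫ hY'm) := by
  obtain ⟨hi, hcomp, huniv⟩ := HU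
  have hfe' : IsFormallyEtaleMor e' := formallyEtaleMor_of_isEtaleMor hZ' hY' e' he'
  refine ⟨isFOThickMor_of_isPullback_etale sq he' hi, ?_, ?_⟩
  · rw [← Category.assoc, ← sq.w, Category.assoc, hcomp]
  · intro T T' hT hT' j a b hj w
    obtain ⟨c, ⟨hc1, hc2⟩, hcu⟩ := huniv hT hT' j (a ≫ e) b hj (by rw [Category.assoc]; exact w)
    obtain ⟨a', ⟨ha1, ha2⟩, hau⟩ := existsUnique_lift e' j (a ≫ iZ) c hfe' hT' hj (by
      rw [Category.assoc, ← sq.w, ← Category.assoc, hc1])
    refine ⟨a', ⟨ha1, by rw [← Category.assoc, ha2, hc2]⟩, ?_⟩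
    rintro a'' ⟨h1, h2⟩
    have hc'' : a'' ≫ e' = c := by
      apply hcu
      refine ⟨?_, by rw [Category.assoc]; exact h2⟩
      rw [← Category.assoc, h1, Category.assoc, ← sq.w, Category.assoc]
    exact hau a'' ⟨h1, hc''⟩

/-- The represented pullback of a first order thickening of algebraic spaces along ANY map from a
scheme has square-zero kernel. -/
theorem sqZero_of_isPullback {W W' : Sp S} {i : W ⟶ W'} (hi : IsFOThickMor i)
    (hW' : IsAlgSpace W') {V R : Over S} (c : (yon S).obj V ⟶ W') (fst : (yon S).obj R ⟶ W)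
    (snd : R ⟶ V) (pb : IsPullback fst ((yon S).map snd) i c) :
    snd.left.ker * snd.left.ker = ⊥ := by
  haveI : IsClosedImmersion snd.left := (hi.1.property c fst snd pb).1
  obtain ⟨U', p, hpe, hps⟩ := hW'.atlas
  obtain ⟨V₁, r, q₁, sq₁, hq₁e⟩ := exists_pullback_chart @Etale hpe c
  have hq₁s : Surjective q₁.left := hps.property c ((yon S).map r) q₁ sq₁
  apply Groth.Agent.Lib.Helper79.IdealSheafLocal.eq_bot_of_flat_cover
  intro x
  obtain ⟨y₁, hy₁⟩ := hq₁s.surj x
  obtain ⟨k, z, hz⟩ := U'.left.affineCover.exists_eq (r.left y₁)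
  let U'k : Over S := Over.mk (U'.left.affineCover.f k ≫ U'.hom)
  let gk : U'k ⟶ U' := Over.homMk (U'.left.affineCover.f k) rfl
  have hU'k : IsAffine U'k.left := by
    change IsAffine (U'.left.affineCover.X k)
    infer_instance
  have hgk : Etale gk.left := by
    change Etale (U'.left.affineCover.f k)
    infer_instance
  -- the open piece of `V₁` over `U'k`
  have pbV : IsPullback (pullback.fst r gk) (pullback.snd r gk) r gk := IsPullback.of_hasPullback r gk
  have pbVl : IsPullback (pullback.fst r gk).left (pullback.snd r gk).left r.left gk.left :=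
    pbV.map (Over.forget S)
  obtain ⟨yk, hyk1, -⟩ := Scheme.exists_preimage_of_isPullback pbVl y₁ z hz.symm
  have hfste : Etale (pullback.fst r gk).left :=
    MorphismProperty.of_isPullback (P := @Etale) pbVl.flip hgk
  set q : pullback r gk ⟶ V := pullback.fst r gk ≫ q₁ with hq
  have hqe : Etale q.left := by
    rw [hq, Over.comp_left]
    infer_instance
  have hqf : Flat q.left := inferInstance
  refine ⟨(pullback r gk).left, q.left, yk, hqf, ?_, ?_⟩
  · rw [hq, Over.comp_left, Scheme.Hom.comp_apply, hyk1, hy₁]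
  -- the chart `U'k` of `W'`
  have hck : RepWith @Etale ((yon S).map gk ≫ p) := repWith_map_comp @Etale gk hgk hpe
  obtain ⟨R', fst', snd', pb', -⟩ := exists_pullback thick hi.1 ((yon S).map gk ≫ p)
  have hfo' := isFirstOrderThickening_of_chart hi hU'k hck pb'
  have pbR : IsPullback (pullback.fst snd' (pullback.snd r gk)) (pullback.snd snd' (pullback.snd r gk))
      snd' (pullback.snd r gk) := IsPullback.of_hasPullback _ _
  have hfo'' : MoreMor.IsFirstOrderThickening (pullback.snd snd' (pullback.snd r gk)).left :=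
    Groth.Agent.Lib.Helper57.FOThick.baseChange hfo' (pbR.map (Over.forget S))
  have big := (pbR.map (yon S)).paste_horiz pb'
  have hcomp : (yon S).map (pullback.snd r gk) ≫ (yon S).map gk ≫ p = (yon S).map q ≫ c := by
    rw [← Category.assoc, ← Functor.map_comp, ← pbV.w, Functor.map_comp, Category.assoc, sq₁.w,
      ← Category.assoc, ← Functor.map_comp]
  rw [hcomp] at big
  obtain ⟨ψ₀, hψ₀⟩ := (yon S).map_surjective
    (pb.lift ((yon S).map (pullback.fst snd' (pullback.snd r gk)) ≫ fst')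
      ((yon S).map (pullback.snd snd' (pullback.snd r gk)) ≫ (yon S).map q)
      (by simpa only [Category.assoc] using big.w))
  have hψ1 : (yon S).map ψ₀ ≫ fst =
      (yon S).map (pullback.fst snd' (pullback.snd r gk)) ≫ fst' := by
    rw [hψ₀, pb.lift_fst]
  have hψ2 : (yon S).map ψ₀ ≫ (yon S).map snd =
      (yon S).map (pullback.snd snd' (pullback.snd r gk)) ≫ (yon S).map q := by
    rw [hψ₀, pb.lift_snd]
  rw [← hψ1] at big
  have left := IsPullback.of_right big hψ2 pb
  have leftl := isPullback_left_of_yon left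
  rw [Groth.Agent.Lib.Helper57.FOThick.comap_mul,
    ← Groth.Agent.Lib.Helper57.FOThick.ker_of_isPullback leftl]
  exact hfo''.2

/-- First order thickenings of algebraic spaces are stable under arbitrary base change. -/
theorem isFOThickMor_of_isPullback {W W' P Z : Sp S} (hW' : IsAlgSpace W') {i : W ⟶ W'}
    {g : P ⟶ W'} {f : Z ⟶ W} {iZ : Z ⟶ P} (sq : IsPullback f iZ i g) (hi : IsFOThickMor i) :
    IsFOThickMor iZ := by
  refine ⟨MorphismProperty.of_isPullback (P := RepWith thick) sq hi.1, ?_⟩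
  intro V R b fst snd _ _ pb
  exact sqZero_of_isPullback hi hW' (b ≫ g) (fst ≫ f) snd (pb.paste_horiz sq)

/-- Base change of universal first order thickenings. -/
theorem isUnivFOThick_of_isPullback {Z X W Y W' P : Sp S} (hW'a : IsAlgSpace W') (h : Z ⟶ X)
    (f : Z ⟶ W) (g : X ⟶ Y) (h' : W ⟶ Y) (sq : IsPullback h f g h')
    (iW : W ⟶ W') (hW' : W' ⟶ Y) (HU : IsUnivFOThick h' iW hW')
    (pX : P ⟶ X) (pW : P ⟶ W') (sq' : IsPullback pX pW g hW')
    (iZ : Z ⟶ P) (w1 : iZ ≫ pX = h) (w2 : iZ ≫ pW = f ≫ iW) : IsUnivFOThick h iZ pX := by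
  obtain ⟨hi, hcomp, huniv⟩ := HU
  -- `Z = P ×_{W'} W`
  have sqZ : IsPullback f iZ iW pW := by
    have hbig : IsPullback f (iZ ≫ pX) (iW ≫ hW') g := by
      rw [w1, hcomp]
      exact sq.flip
    exact IsPullback.of_bot hbig w2.symm sq'.flip
  refine ⟨isFOThickMor_of_isPullback hW'a sqZ hi, w1, ?_⟩
  intro T T' hT hT' j a b hj w
  obtain ⟨c, ⟨hc1, hc2⟩, hcu⟩ := huniv hT hT' j (a ≫ f) (b ≫ g) hj (by
    rw [← Category.assoc, w, Category.assoc, Category.assoc, sq.w])
  refine ⟨sq'.lift b c hc2.symm, ⟨?_, sq'.lift_fst _ _ _⟩, ?_⟩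
  · apply sq'.hom_ext
    · rw [Category.assoc, sq'.lift_fst, Category.assoc, w1, w]
    · rw [Category.assoc, sq'.lift_snd, Category.assoc, w2, hc1, Category.assoc]
  · rintro a'' ⟨h1, h2⟩
    apply sq'.hom_ext
    · rw [sq'.lift_fst, h2]
    · rw [sq'.lift_snd]
      apply hcu
      refine ⟨?_, ?_⟩
      · rw [← Category.assoc, h1, Category.assoc, w2, Category.assoc]
      · rw [Category.assoc, ← sq'.w, ← Category.assoc, h2]

/-- The structure morphism `Z' ⟶ X` of a universal first order thickening is formally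
unramified. -/
theorem formallyUnramifiedMor_of_isUnivFOThick {Z Z' X : Sp S} (hZ' : IsAlgSpace Z') (h : Z ⟶ X)
    (i : Z ⟶ Z') (h' : Z' ⟶ X) (HU : IsUnivFOThick h i h') : IsFormallyUnramifiedMor h' := by
  obtain ⟨hi, hcomp, huniv⟩ := HU
  intro sq l l' h1 h2 h3 h4
  obtain ⟨N, ν, n, pbN, hnthick⟩ := exists_pullback thick hi.1 l
  have hnfo : MoreMor.IsFirstOrderThickening n.left :=
    ⟨hnthick, sqZero_of_isPullback hi hZ' l ν n pbN⟩
  have pbM := IsPullback.of_hasPullback sq.j n
  have hMfo : MoreMor.IsFirstOrderThickening (pullback.snd sq.j n).left :=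
    Groth.Agent.Lib.Helper57.FOThick.baseChange (isFirstOrderThickening_j sq)
      (pbM.map (Over.forget S))
  have step1 : (yon S).map n ≫ l = (yon S).map n ≫ l' := by
    have key := huniv (IsAlgSpace.yon_obj _) (IsAlgSpace.yon_obj N)
      ((yon S).map (pullback.snd sq.j n)) ((yon S).map (pullback.snd sq.j n) ≫ ν)
      ((yon S).map n ≫ sq.bot) (isFOThickMor_yon_map _ hMfo) (by
        rw [Category.assoc, ← hcomp, ← Category.assoc ν, pbN.w, Category.assoc, h2])
    refine key.unique ⟨?_, by rw [Category.assoc, h2]⟩ ⟨?_, by rw [Category.assoc, h4]⟩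
    · rw [Category.assoc, pbN.w]
    · rw [Category.assoc, pbN.w, ← Category.assoc, ← Category.assoc, ← Functor.map_comp, ← pbM.w,
        Functor.map_comp, Category.assoc, Category.assoc, h1, h3]
  have key := huniv (IsAlgSpace.yon_obj N) (IsAlgSpace.yon_obj _) ((yon S).map n) ν sq.bot
    (isFOThickMor_yon_map n hnfo) (by rw [← hcomp, ← Category.assoc, pbN.w, Category.assoc, h2])
  exact key.unique ⟨pbN.w.symm, h2⟩ ⟨step1.symm.trans pbN.w.symm, h4⟩

end Groth.Agent.Lib.Helper79.AlgSpUnivThick
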