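import Groth.Agent.Lib.Helper79.AlgSpUnivThick
import Groth.Agent.Lib.Helper46.STLocal
import Groth.Agent.Lib.Helper23.AlgSpQc2

/-!
# Descent of universal first order thickenings along etale surjections (helper79)
-/

set_option autoImplicit false
universe u
open CategoryTheory CategoryTheory.Limits AlgebraicGeometry Opposite

namespace Groth.Agent.Lib.Helper79.AlgSpUnivThickDescent

open AlgSp Groth.Agent.Lib.Helper79.AlgSpFormalAffine Groth.Agent.Lib.Helper79.AlgSpChart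
open Groth.Agent.Lib.Helper79.AlgSpFormalLift Groth.Agent.Lib.Helper79.AlgSpFormalEtale
open Groth.Agent.Lib.Helper79.AlgSpFormalYon Groth.Agent.Lib.Helper79.AlgSpUnivThick
open Groth.Agent.Lib.Helper37.AlgSpFormal Groth.Agent.Lib.Helper23.AlgSpMor

variable {S : Scheme.{u}}

/-- Etale-local sections of an etale surjective morphism of algebraic spaces. -/
theorem exists_local_section {Z Y : Sp S} (hZ : IsAlgSpace Z) (hY : IsAlgSpace Y) (e : Z ⟶ Y)
    (he : IsEtaleMor e) (hes : IsSurjectiveMor e) {W : Over S} (α : (yon S).obj W ⟶ Y) :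
    ∃ (W₂ : Over S) (s : W₂ ⟶ W) (a₂ : (yon S).obj W₂ ⟶ Z), Etale s.left ∧ Surjective s.left ∧
      a₂ ≫ e = (yon S).map s ≫ α := by
  have hP : IsAlgSpace (pullback α e) :=
    isAlgSpace_of_isPullback (IsAlgSpace.yon_obj W) hZ hY.diag (IsPullback.of_hasPullback α e)
  obtain ⟨W₂, d, hde, hds⟩ := hP.atlas
  obtain ⟨s, hs⟩ := (yon S).map_surjective (d ≫ pullback.fst α e)
  have hfe : IsEtaleMor (pullback.fst α e) :=
    Groth.Agent.Lib.Helper46.STLocal.isEtaleMor_baseChange hZ hY hP (IsAlgSpace.yon_obj W)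
      (IsPullback.of_hasPullback α e).flip he
  have hfs : IsSurjectiveMor (pullback.fst α e) :=
    isSurjectiveMor_of_isPullback (IsPullback.of_hasPullback α e).flip hes
  refine ⟨W₂, s, d ≫ pullback.snd α e, ?_, ?_, ?_⟩
  · rw [← repWith_yon_map_iff @Etale s, hs]
    exact hfe d hde
  · rw [← repWith_yon_map_iff @Surjective s]
    refine repWith_surjective_of_isSurjectiveMor _ (representable_yon_map s) ?_
    rw [hs]
    exact isSurjectiveMor_comp _ _ (isSurjectiveMor_of_repWith_surjective d hds) hfs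
  · rw [Category.assoc, ← pullback.condition, ← Category.assoc, hs]

/-- Lifting an etale scheme along a first order thickening of schemes over `S`. -/
theorem exists_etale_lift_over {W V W₂ : Over S} (t : W ⟶ V)
    (hfo : MoreMor.IsFirstOrderThickening t.left) (s : W₂ ⟶ W) (hse : Etale s.left) :
    ∃ (V₂ : Over S) (v : V₂ ⟶ V) (t₂ : W₂ ⟶ V₂), Etale v.left ∧
      (Surjective s.left → Surjective v.left) ∧ IsPullback t₂ s v t ∧
      MoreMor.IsFirstOrderThickening t₂.left := by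
  haveI : IsClosedImmersion t.left := hfo.1.1
  haveI : Surjective t.left := hfo.1.2
  haveI : Etale s.left := hse
  obtain ⟨V₂₀, ι₀, v₀, hv₀e, -, pb₀⟩ :=
    Groth.Agent.Lib.Helper57.EtLift.exists_isPullback t.left s.left
  let V₂ : Over S := Over.mk (v₀ ≫ V.hom)
  let v : V₂ ⟶ V := Over.homMk v₀ rfl
  let t₂ : W₂ ⟶ V₂ := Over.homMk ι₀ (by
    have h1 := Over.w t
    have h2 := Over.w s
    change ι₀ ≫ v₀ ≫ V.hom = W₂.hom
    rw [← Category.assoc, pb₀.w, Category.assoc, h1, h2])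
  refine ⟨V₂, v, t₂, hv₀e, fun hss => ?_, ?_, ?_⟩
  · haveI : Surjective s.left := hss
    have : Surjective (ι₀ ≫ v₀) := by rw [pb₀.w]; infer_instance
    exact Surjective.of_comp ι₀ v₀
  · refine IsPullback.of_map (Over.forget S) ?_ pb₀
    apply Over.OverMorphism.ext
    exact pb₀.w
  · exact Groth.Agent.Lib.Helper57.FOThick.baseChange hfo pb₀.flip

section descent

variable {Z Y Z' Y' X : Sp S} (hZ : IsAlgSpace Z) (hY : IsAlgSpace Y) (hZ' : IsAlgSpace Z')
  (hY' : IsAlgSpace Y') (e : Z ⟶ Y) (he : IsEtaleMor e) (hes : IsSurjectiveMor e) (hYm : Y ⟶ X)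
  (iZ : Z ⟶ Z') (iY : Y ⟶ Y') (f' : Z' ⟶ Y') (hf' : IsEtaleMor f') (w : iZ ≫ f' = e ≫ iY)
  (hY'm : Y' ⟶ X) (w' : iY ≫ hY'm = hYm) (HU : IsUnivFOThick (e ≫ hYm) iZ (f' ≫ hY'm))

include hZ hY hZ' hY' he hes hf' w w' HU

omit w' in
/-- Etale-locally on `V`, the lifting problem for `Y'` has a solution coming from `Z'`, and any
global solution is determined. -/
theorem local_data {W V : Over S} (t : W ⟶ V) (hfo : MoreMor.IsFirstOrderThickening t.left)
    (α : (yon S).obj W ⟶ Y) (β : (yon S).obj V ⟶ X) (hαβ : (yon S).map t ≫ β = α ≫ hYm) :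
    ∃ (W₂ V₂ : Over S) (s : W₂ ⟶ W) (v : V₂ ⟶ V) (t₂ : W₂ ⟶ V₂) (l₂ : (yon S).obj V₂ ⟶ Y'),
      Etale v.left ∧ Surjective v.left ∧ IsPullback t₂ s v t ∧
      (yon S).map t₂ ≫ l₂ = (yon S).map s ≫ α ≫ iY ∧ l₂ ≫ hY'm = (yon S).map v ≫ β ∧
      ∀ l : (yon S).obj V ⟶ Y', (yon S).map t ≫ l = α ≫ iY → l ≫ hY'm = β →
        (yon S).map v ≫ l = l₂ := by
  obtain ⟨W₂, s, a₂, hse, hss, ha₂⟩ := exists_local_section hZ hY e he hes α
  obtain ⟨V₂, v, t₂, hve, hvs, pbO, hfo₂⟩ := exists_etale_lift_over t hfo s hse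
  have hj₂ : IsFOThickMor ((yon S).map t₂) := isFOThickMor_yon_map t₂ hfo₂
  have hfe' : IsFormallyEtaleMor f' := formallyEtaleMor_of_isEtaleMor hZ' hY' f' hf'
  have hcomm : (yon S).map t₂ ≫ (yon S).map v ≫ β = a₂ ≫ e ≫ hYm := by
    rw [← Category.assoc, ← Functor.map_comp, pbO.w, Functor.map_comp, Category.assoc, hαβ,
      ← Category.assoc, ← ha₂, Category.assoc]
  obtain ⟨a₂', ⟨h1, h2⟩, hu⟩ := HU.2.2 (IsAlgSpace.yon_obj W₂) (IsAlgSpace.yon_obj V₂)
    ((yon S).map t₂) a₂ ((yon S).map v ≫ β) hj₂ hcomm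
  refine ⟨W₂, V₂, s, v, t₂, a₂' ≫ f', hve, hvs hss, pbO, ?_, ?_, ?_⟩
  · rw [← Category.assoc, h1, Category.assoc, w, ← Category.assoc, ha₂, Category.assoc]
  · rw [Category.assoc]; exact h2
  · intro l hl1 hl2
    obtain ⟨m, ⟨hm1, hm2⟩, -⟩ := existsUnique_lift f' ((yon S).map t₂) (a₂ ≫ iZ)
      ((yon S).map v ≫ l) hfe' (IsAlgSpace.yon_obj V₂) hj₂ (by
        rw [Category.assoc, w, ← Category.assoc, ha₂, Category.assoc, ← hl1, ← Category.assoc,
          ← Functor.map_comp, ← pbO.w, Functor.map_comp, Category.assoc])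
    have : m = a₂' := hu m ⟨hm1, by rw [← Category.assoc, hm2, Category.assoc, hl2]⟩
    rw [← hm2, this]

/-- **Descent of universality** along an etale surjective morphism of first order thickenings. -/
theorem isUnivFOThick_descent (hiY : IsFOThickMor iY) : IsUnivFOThick hYm iY hY'm := by
  refine isUnivFOThick_of_affine_test hYm iY hY'm hiY w' ?_
  intro T T' j hT' hj a b wj
  have hfo : MoreMor.IsFirstOrderThickening j.left :=
    isFirstOrderThickening_of_isFOThickMor_yon_map hT' hj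
  -- uniqueness of local solutions on affine etale charts
  have huniq : ∀ {V : Over S}, IsAffine V.left → ∀ {c : (yon S).obj V ⟶ (yon S).obj T'},
      RepWith @Etale c → ∀ {l l' : (yon S).obj V ⟶ Y'},
      IsSol hY'm ((yon S).map j) (a ≫ iY) b c l → IsSol hY'm ((yon S).map j) (a ≫ iY) b c l' →
      l = l' := by
    intro V hV c hc l l' hl hl'
    obtain ⟨W, fst, snd, pb, -⟩ := exists_pullback thick hj.1 c
    have hfoV := isFirstOrderThickening_of_chart hj hV hc pb
    rw [isSol_iff pb] at hl hl'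
    have hαβ : (yon S).map snd ≫ c ≫ b = (fst ≫ a) ≫ hYm := by
      rw [← Category.assoc, ← pb.w, Category.assoc, wj, Category.assoc]
    obtain ⟨W₂, V₂, s, v, t₂, l₂, hve, hvs, -, -, -, hdet⟩ :=
      local_data hZ hY hZ' hY' e he hes hYm iZ iY f' hf' w hY'm HU snd hfoV (fst ≫ a) (c ≫ b) hαβ
    have hepi : Epi ((yon S).map v) :=
      epi_of_etale_surjective _ ((repWith_yon_map_iff @Etale v).2 hve)
        ((repWith_yon_map_iff @Surjective v).2 hvs)
    rw [← cancel_epi ((yon S).map v), hdet l (by rw [hl.1, Category.assoc]) hl.2,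
      hdet l' (by rw [hl'.1, Category.assoc]) hl'.2]
  -- a solution on an etale cover of `T'`
  obtain ⟨W₂, V₂, s, v, t₂, l₂, hve, hvs, pbO, h1, h2, -⟩ :=
    local_data hZ hY hZ' hY' e he hes hYm iZ iY f' hf' w hY'm HU j hfo a b wj
  have hsol : IsSol hY'm ((yon S).map j) (a ≫ iY) b ((yon S).map v) l₂ := by
    rw [isSol_iff (pbO.map (yon S)).flip]
    exact ⟨h1, h2⟩
  obtain ⟨l, hl1, hl2⟩ := exists_lift_of_local_of_affine hY'm ((yon S).map j) (a ≫ iY) b huniq
    (IsAlgSpace.yon_obj T') hj.1 ((yon S).map v) ((repWith_yon_map_iff @Etale v).2 hve)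
    ((repWith_yon_map_iff @Surjective v).2 hvs) fun i => ⟨_, hsol.restrict _⟩
  refine ⟨l, ⟨hl1, hl2⟩, fun l' hl' => ?_⟩
  exact uniq_lift_of_affine hY'm ((yon S).map j) (a ≫ iY) b huniq (IsAlgSpace.yon_obj T') l' l
    hl'.1 hl'.2 hl1 hl2

end descent

end Groth.Agent.Lib.Helper79.AlgSpUnivThickDescent
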