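import Groth.Prelude.Def_AlgSt3
import Groth.Agent.S12782
import Groth.Agent.S12982
import Groth.Agent.Lib.Helper17.FibProd
import Groth.Agent.Lib.Helper17.AlgStTransfer
import Groth.Agent.Lib.Helper17.AlgStDict
import Groth.Agent.Lib.Helper79.AlgSpChart

/-!
Equivalences over `(Sch/S)` are representable by algebraic spaces with every property `P` of morphisms of
sheaves that holds for the identities of representable sheaves.
-/

set_option autoImplicit false
universe u
open CategoryTheory CategoryTheory.Limits AlgebraicGeometry Opposite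

namespace Groth.Agent.Lib.Helper79.AlgStEquiv

open AlgSt Groth.Agent.Lib.Helper17 Groth.Agent.Lib.Helper17.FP Groth.Agent.Lib.Helper17.EO
  Groth.Agent.Lib.Helper17.AT

variable {S : Scheme.{u}}

set_option backward.isDefEq.respectTransparency false in
set_option backward.isDefEq.respectTransparency.types false in
/-- the comparison functor `(Sch/U) ⟶ (Sch/U) ×_𝒵 𝒵` -/
noncomputable def idLift {𝒵 : AlgSt.Cat S} {U : Over S} (y : FibCat.overCat U ⥤ᵇ 𝒵) :
    FibCat.overCat U ⥤ᵇ FibCat.fp y (BasedFunctor.id 𝒵) :=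
  FibCat.fpLift (BasedFunctor.id (FibCat.overCat U)) y
    (Iso.refl y : BasedFunctor.comp (BasedFunctor.id _) y ≅ BasedFunctor.comp y (BasedFunctor.id 𝒵))

set_option backward.isDefEq.respectTransparency false in
set_option backward.isDefEq.respectTransparency.types false in
theorem idLift_obj_iso_hom {𝒵 : AlgSt.Cat S} {U : Over S} (y : FibCat.overCat U ⥤ᵇ 𝒵)
    (g : (FibCat.overCat U).obj) : ((idLift y).obj g).obj.iso.hom = 𝟙 (y.obj g) := rfl

set_option backward.isDefEq.respectTransparency false in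
set_option backward.isDefEq.respectTransparency.types false in
theorem idLift_isEquivOver {𝒵 : AlgSt.Cat S} {U : Over S} (y : FibCat.overCat U ⥤ᵇ 𝒵) :
    FibCat.IsEquivOver (idLift y) := by
  rw [Groth.Agent.S5139.result]
  refine ⟨⟨⟨?_⟩, ⟨?_⟩⟩, ?_⟩
  · intro g g' θ
    refine ⟨θ.hom.fst, ?_⟩
    apply FP.hom_ext
    · rfl
    · have hw : y.map θ.hom.fst ≫ 𝟙 (y.obj g') = 𝟙 (y.obj g) ≫ θ.hom.snd := θ.hom.w
      exact ((Category.comp_id _).symm.trans hw).trans (Category.id_comp _)
  · intro g g' a b hab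
    exact congrArg (fun m => m.hom.fst) hab
  · intro q
    have hid : y.map (𝟙 q.obj.fst) = 𝟙 (y.obj q.obj.fst) := y.toFunctor.map_id _
    have w1 : y.map (𝟙 q.obj.fst) ≫ q.obj.iso.hom =
        ((idLift y).obj q.obj.fst).obj.iso.hom ≫ q.obj.iso.hom := by
      change y.map (𝟙 q.obj.fst) ≫ q.obj.iso.hom = 𝟙 (y.obj q.obj.fst) ≫ q.obj.iso.hom
      exact congrArg (· ≫ q.obj.iso.hom) hid
    have w2 : y.map (𝟙 q.obj.fst) ≫ ((idLift y).obj q.obj.fst).obj.iso.hom =
        q.obj.iso.hom ≫ q.obj.iso.inv := by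
      change y.map (𝟙 q.obj.fst) ≫ 𝟙 (y.obj q.obj.fst) = q.obj.iso.hom ≫ q.obj.iso.inv
      exact ((Category.comp_id _).trans hid).trans q.obj.iso.hom_inv_id.symm
    let h1 : (idLift y).obj q.obj.fst ⟶ q :=
      mkHom (z := (idLift y).obj q.obj.fst) (z' := q) (𝟙 q.obj.fst) q.obj.iso.hom w1
    let h2 : q ⟶ (idLift y).obj q.obj.fst :=
      mkHom (z := q) (z' := (idLift y).obj q.obj.fst) (𝟙 q.obj.fst) q.obj.iso.inv w2
    refine ⟨q.obj.fst, ⟨h1, h2, ?_, ?_⟩, ?_⟩
    · apply FP.hom_ext
      · exact Category.id_comp _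
      · exact q.obj.iso.hom_inv_id
    · apply FP.hom_ext
      · exact Category.id_comp _
      · exact q.obj.iso.inv_hom_id
    · rw [isHomLift_iff_fst]
      exact IsHomLift.id rfl

set_option backward.isDefEq.respectTransparency false in
set_option backward.isDefEq.respectTransparency.types false in
theorem spMapOfOver_toOverCat (U : Over S) :
    spMapOfOver (BasedFunctor.comp (toOverCat U) (BasedFunctor.id (FibCat.overCat U))) =
      𝟙 ((AlgSp.yon S).obj U) := by
  apply ObjectProperty.hom_ext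
  apply NatTrans.ext
  funext T
  ext x
  change (spMapOfOver _).hom.app (op T.unop) x = x
  rw [spMapOfOver_app]
  apply ULift.ext
  simp [secHom]
  rfl

/-- The identity of a category over `(Sch/S)` is representable by algebraic spaces with every property that
holds for the identities of the representable sheaves `h_U`. -/
theorem repByAlgSpWith_id (P : MorphismProperty (AlgSp.Sp S))
    (hP : ∀ U : Over S, P (𝟙 ((AlgSp.yon S).obj U))) (𝒵 : AlgSt.Cat S) :
    AlgSt.RepByAlgSpWith P (BasedFunctor.id 𝒵) := by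
  intro U y
  refine transfer_fwd P (idLift y) (idLift_isEquivOver y) (BasedFunctor.id (FibCat.overCat U))
    (FibCat.fpFst y (BasedFunctor.id 𝒵)) rfl ?_
  refine ⟨⟨(AlgSp.yon S).obj U, AlgSp.IsAlgSpace.yon_obj U⟩, toOverCat U,
    Groth.Agent.Lib.Helper17.AD.toOverCat_isEquivOver U, ?_⟩
  rw [spMapOfOver_toOverCat]
  exact hP U

/-- An equivalence over `(Sch/S)` is representable by algebraic spaces with every property that holds for the
identities of the representable sheaves `h_U`. -/
theorem repByAlgSpWith_of_isEquivOver (P : MorphismProperty (AlgSp.Sp S))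
    (hP : ∀ U : Over S, P (𝟙 ((AlgSp.yon S).obj U))) {𝒜 ℬ : AlgSt.Cat S} (e : 𝒜 ⥤ᵇ ℬ)
    (he : FibCat.IsEquivOver e) : AlgSt.RepByAlgSpWith P e :=
  Groth.Agent.S12782.fwd P (BasedFunctor.id ℬ) e e (BasedFunctor.id ℬ) he
    (Groth.Agent.S12982.isEquivOver_id ℬ) (Iso.refl _) (repByAlgSpWith_id P hP ℬ)

end Groth.Agent.Lib.Helper79.AlgStEquiv
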