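import Groth.Agent.Lib.Helper79.EtLocalF
import Groth.Agent.Lib.Helper46.LocPFpqc

/-!
# fpqc locality on the base for properties stable under flat base change only (helper79)

* `of_finite_flat_family'`, `locP_of_flat_family'`, `locP_of_affine_etale` : variants of helper46's
  lemmas for `EtLocalF Q`
* `exists_finite_flat_charts` : an fpqc covering `Yi ⟶ Y` and an affine etale chart `Z` of `Y` give a
  finite jointly surjective family of flat affine `E n ⟶ Z` which are ETALE charts of the `Yi`
* `isLocalOnBase_fpqc_locP'` : `LocP Q` is fpqc local on the base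
-/

set_option autoImplicit false
universe u
open CategoryTheory CategoryTheory.Limits AlgebraicGeometry Opposite

namespace Groth.Agent.Lib.Helper79.EtLocalF

open AlgSp Groth.Agent.Lib.Helper36.AlgSpCharts Groth.Agent.Lib.Helper23.AlgSpMor
open Groth.Agent.Lib.Helper46.LocPChart Groth.Agent.Lib.Helper46.FpqcBase

/-- fpqc descent along a finite jointly surjective family of flat morphisms from affine schemes to
an affine scheme (no stability under base change needed). -/
theorem of_finite_flat_family' (P : MorphismProperty Scheme.{u}) [P.RespectsIso]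
    [IsZariskiLocalAtTarget P] [P.DescendsAlong (@Surjective ⊓ @Flat ⊓ @QuasiCompact)]
    {U Z : Scheme.{u}} (q : U ⟶ Z) [IsAffine Z] {m : ℕ} (W : Fin m → Scheme.{u})
    (c : ∀ j, W j ⟶ Z) (hW : ∀ j, IsAffine (W j)) (hc : ∀ j, Flat (c j))
    (hs : ∀ z : Z, ∃ j, z ∈ Set.range (c j))
    (H : ∀ j, P (pullback.snd q (c j))) : P q := by
  let φ : (∐ W) ⟶ Z := Sigma.desc c
  have hφ : (@Surjective ⊓ @Flat ⊓ @QuasiCompact : MorphismProperty Scheme.{u}) φ := by
    refine ⟨⟨⟨fun y => ?_⟩, ?_⟩, ?_⟩
    · obtain ⟨j, x, rfl⟩ := hs y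
      refine ⟨Sigma.ι W j x, ?_⟩
      rw [← Scheme.Hom.comp_apply, Sigma.ι_desc]
    · rw [IsZariskiLocalAtSource.iff_of_openCover (P := @Flat) (sigmaOpenCover _)]
      intro i
      change Flat (Sigma.ι W i ≫ Sigma.desc c)
      rw [Sigma.ι_desc]
      exact hc i
    · change QuasiCompact φ
      infer_instance
  apply MorphismProperty.of_pullback_snd_of_descendsAlong (P := P) (f := q) (g := φ) hφ
  rw [IsZariskiLocalAtTarget.iff_of_openCover (P := P) (sigmaOpenCover W)]
  intro i
  change P (pullback.snd (pullback.snd q φ) (Sigma.ι W i))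
  have big : IsPullback (pullback.fst (pullback.snd q φ) (Sigma.ι W i) ≫ pullback.fst q φ)
      (pullback.snd (pullback.snd q φ) (Sigma.ι W i)) q (Sigma.ι W i ≫ φ) :=
    (IsPullback.of_hasPullback (pullback.snd q φ) (Sigma.ι W i)).flip.paste_vert
      (IsPullback.of_hasPullback q φ).flip |>.flip
  have e : Sigma.ι W i ≫ φ = c i := Sigma.ι_desc _ _
  rw [e] at big
  rw [← P.cancel_left_of_respectsIso big.isoPullback.inv, big.isoPullback_inv_snd]
  exact H i

variable {S : Scheme.{u}} {Q : MorphismProperty Scheme.{u}}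

theorem prop_pullback_snd_left' [Q.RespectsIso] {A B C : Over S} (h : A ⟶ C) (j : B ⟶ C)
    (H : Q (pullback.snd h j).left) : Q (pullback.snd h.left j.left) := by
  have sq : IsPullback (pullback.fst h j).left (pullback.snd h j).left h.left j.left :=
    (IsPullback.of_hasPullback h j).map (Over.forget S)
  have e : sq.isoPullback.hom ≫ pullback.snd h.left j.left = (pullback.snd h j).left :=
    sq.isoPullback_hom_snd
  exact (Q.cancel_left_of_respectsIso sq.isoPullback.hom (pullback.snd h.left j.left)).1
    (by rw [e]; exact H)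

/-- fpqc descent over an affine base (flat-base-change version). -/
theorem locP_of_flat_family' (hQ : EtLocalF Q) [IsZariskiLocalAtTarget Q]
    [Q.DescendsAlong (@Surjective ⊓ @Flat ⊓ @QuasiCompact)] {X : Sp S} (hX : IsAlgSpace X)
    {Z : Over S} (hZ : IsAffine Z.left) (f : X ⟶ (yon S).obj Z) {m : ℕ} (W : Fin m → Over S)
    (c : ∀ j, W j ⟶ Z) (hW : ∀ j, IsAffine (W j).left) (hc : ∀ j, Flat (c j).left)
    (hs : ∀ z : ↥Z.left, ∃ j, z ∈ Set.range (c j).left)
    (H : ∀ j, LocP Q (pullback.snd f ((yon S).map (c j)))) : LocP Q f := by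
  haveI := hQ.respectsIso
  obtain ⟨U, d, hde, hds⟩ := hX.atlas
  obtain ⟨h, hh⟩ := (yon S).map_surjective (d ≫ f)
  refine locP_of_chart hQ f d (𝟙 _) h hde hds (repWith_id _ Z) (by rw [hh, Category.comp_id]) ?_
  haveI := hZ
  refine of_finite_flat_family' Q h.left (fun j => (W j).left) (fun j => (c j).left) hW hc hs
    fun j => ?_
  apply prop_pullback_snd_left'
  exact prop_of_locP_baseChange f (c j) _ _ (IsPullback.of_hasPullback _ _) (H j) d hde h hh

/-- Reduction to affine ETALE charts of the base. -/
theorem locP_of_affine_etale (hQ : EtLocalF Q) [IsZariskiLocalAtTarget Q] {X Y : Sp S}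
    (hX : IsAlgSpace X) (hY : IsAlgSpace Y) (f : X ⟶ Y)
    (H : ∀ (Z : Over S), IsAffine Z.left → ∀ gz : (yon S).obj Z ⟶ Y, RepWith @Etale gz →
      LocP Q (pullback.snd f gz)) : LocP Q f := by
  haveI := hQ.respectsIso
  obtain ⟨V, c, hce, hcs⟩ := hY.atlas
  obtain ⟨U, a, h, d, hde, -, had, hh, hae, comm, has⟩ := exists_chart hX hY.diag f c hce
  refine locP_of_chart hQ f a c h hae (has hcs) hce comm ?_
  rw [IsZariskiLocalAtTarget.iff_of_openCover (P := Q) V.left.affineCover]
  intro i
  let Zo : Over S := Over.mk (V.left.affineCover.f i ≫ V.hom)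
  let jo : Zo ⟶ V := Over.homMk (V.left.affineCover.f i) rfl
  change Q (pullback.snd h.left jo.left)
  apply prop_pullback_snd_left'
  have hZo : IsAffine Zo.left := by
    change IsAffine (V.left.affineCover.X i)
    infer_instance
  have hjo : Etale jo.left := by
    change Etale (V.left.affineCover.f i)
    infer_instance
  set gz : (yon S).obj Zo ⟶ Y := (yon S).map jo ≫ c with hgz
  have hgze : RepWith @Etale gz :=
    (RepWith @Etale).comp_mem _ _ ((repWith_yon_map_iff _ _).2 hjo) hce
  set φ : pullback f gz ⟶ pullback f c :=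
    pullback.lift (pullback.fst f gz) (pullback.snd f gz ≫ (yon S).map jo) (by
      rw [pullback.condition, Category.assoc]) with hφ
  have sqφ : IsPullback φ (pullback.snd f gz) (pullback.snd f c) ((yon S).map jo) := by
    refine (IsPullback.of_bot ?_ (pullback.lift_snd _ _ _).symm
      (IsPullback.of_hasPullback f c).flip).flip
    rw [pullback.lift_fst]
    exact (IsPullback.of_hasPullback f gz).flip
  exact prop_of_locP_baseChange (pullback.snd f c) jo φ (pullback.snd f gz) sqφ
    (H Zo hZo gz hgze) d hde h hh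

end Groth.Agent.Lib.Helper79.EtLocalF
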