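import Groth.Agent.Lib.Helper79.EtLocalFFpqc

/-!
# fpqc locality on the base for `EtLocalF` properties: the covering argument (helper79)
-/

set_option autoImplicit false
universe u
open CategoryTheory CategoryTheory.Limits AlgebraicGeometry Opposite

namespace Groth.Agent.Lib.Helper79.EtLocalF

open AlgSp Groth.Agent.Lib.Helper36.AlgSpCharts Groth.Agent.Lib.Helper23.AlgSpMor
open Groth.Agent.Lib.Helper46.LocPChart Groth.Agent.Lib.Helper46.FpqcBase

variable {S : Scheme.{u}}

/-- local step of the covering argument -/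
theorem exists_local_chart {Yi Y : Sp S} (g : Yi ⟶ Y) {Z W T : Over S}
    (gz : (yon S).obj Z ⟶ Y) (cW : W ⟶ Z) (l : (yon S).obj W ⟶ Yi)
    (hl : l ≫ g = (yon S).map cW ≫ gz) (e : (yon S).obj T ⟶ pullback g gz)
    (hee : RepWith @Etale e) (hes : RepWith @Surjective e) (k : T ⟶ Z)
    (hk : (yon S).map k = e ≫ pullback.snd g gz) (w : ↥W.left) :
    ∃ (O : W.left.Opens) (A : Over S) (o : A ⟶ T), w ∈ O ∧ IsAffine A.left ∧
      IsOpenImmersion o.left ∧ ∀ w₂ ∈ O, cW.left w₂ ∈ Set.range (o ≫ k).left := by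
  let lam : (yon S).obj W ⟶ pullback g gz := pullback.lift l ((yon S).map cW) hl
  obtain ⟨W', r1, r2, sqW'⟩ := exists_isPullback_yon lam e hee.rep
  have hr1e : Etale r1.left := prop_fst_of_isPullback sqW' hee
  have hr1s : Surjective r1.left := prop_fst_of_isPullback sqW' hes
  have comm : r1 ≫ cW = r2 ≫ k := by
    apply (yon S).map_injective
    rw [Functor.map_comp, Functor.map_comp, hk, ← Category.assoc, ← sqW'.w, Category.assoc,
      pullback.lift_snd]
  have comm' : ∀ x, cW.left (r1.left x) = k.left (r2.left x) := fun x => by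
    have := congrArg (fun m => m.left x) comm
    simpa using this
  obtain ⟨w', hw'⟩ := hr1s.surj w
  let 𝒰 := T.left.affineCover
  let α := 𝒰.idx (r2.left w')
  let A : Over S := Over.mk (𝒰.f α ≫ T.hom)
  let o : A ⟶ T := Over.homMk (𝒰.f α) rfl
  have hopen : IsOpen (r1.left '' (r2.left ⁻¹' Set.range (𝒰.f α))) :=
    r1.left.isOpenMap _ ((𝒰.f α).isOpenEmbedding.isOpen_range.preimage r2.left.continuous)
  refine ⟨⟨_, hopen⟩, A, o, ⟨w', 𝒰.covers _, hw'⟩, ?_, ?_, ?_⟩
  · change IsAffine (𝒰.X α)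
    infer_instance
  · change IsOpenImmersion (𝒰.f α)
    infer_instance
  · rintro w₂ ⟨w₂', ⟨t, ht⟩, rfl⟩
    refine ⟨t, ?_⟩
    rw [comm', ← ht]
    rfl

/-- **Covering argument**: an fpqc covering `Yi ⟶ Y` and an affine etale chart `Z` of `Y` give a
finite jointly surjective family of flat affine `E n ⟶ Z` which are ETALE charts of the `Yi`. -/
theorem exists_finite_flat_charts {ι : Type u} {Y : Sp S} (hY : IsAlgSpace Y) (Yi : ι → Sp S)
    (hYi : ∀ i, IsAlgSpace (Yi i)) (g : ∀ i, Yi i ⟶ Y) (hcov : IsFpqcCover Yi g)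
    (Z : Over S) (hZ : IsAffine Z.left) (gz : (yon S).obj Z ⟶ Y) (hgz : RepWith @Etale gz) :
    ∃ (M : ℕ) (E : Fin M → Over S) (c : ∀ n, E n ⟶ Z) (i : Fin M → ι)
      (b : ∀ n, (yon S).obj (E n) ⟶ Yi (i n)),
      (∀ n, IsAffine (E n).left) ∧ (∀ n, Flat (c n).left) ∧
      (∀ z : ↥Z.left, ∃ n, z ∈ Set.range (c n).left) ∧
      (∀ n, RepWith @Etale (b n)) ∧ ∀ n, b n ≫ g (i n) = (yon S).map (c n) ≫ gz := by
  classical
  obtain ⟨m, W, cW, hWaff, hWflat, hWsurj, hlift⟩ := hcov.2 Z hZ gz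
  choose iW l hl using hlift
  have hQi : ∀ i, IsAlgSpace (pullback (g i) gz) := fun i =>
    isAlgSpace_of_isPullback (hYi i) (IsAlgSpace.yon_obj Z) hY.diag (IsPullback.of_hasPullback _ _)
  choose T e hee hes using fun i => (hQi i).atlas
  choose k hk using fun i => (yon S).map_surjective (e i ≫ pullback.snd (g i) gz)
  have hπ1 : ∀ i, RepWith @Etale (pullback.fst (g i) gz) := fun i =>
    MorphismProperty.pullback_fst (P := RepWith @Etale) (g i) gz hgz
  have hbe : ∀ i, RepWith @Etale (e i ≫ pullback.fst (g i) gz) := fun i =>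
    (RepWith @Etale).comp_mem _ _ (hee i) (hπ1 i)
  have hbcomm : ∀ i, (e i ≫ pullback.fst (g i) gz) ≫ g i = (yon S).map (k i) ≫ gz := fun i => by
    rw [hk, Category.assoc, Category.assoc, pullback.condition]
  have hkflat : ∀ i, Flat (k i).left := fun i =>
    hcov.1 i (e i ≫ pullback.fst (g i) gz) gz (k i) (hbe i) hgz (hbcomm i)
  choose O A o hwO hAaff hoopen hOrange using fun (j : Fin m) (w : ↥(W j).left) =>
    exists_local_chart (g (iW j)) gz (cW j) (l j) (hl j) (e (iW j)) (hee (iW j)) (hes (iW j))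
      (k (iW j)) (hk (iW j)) w
  -- finite subcovers
  have hfin : ∀ j : Fin m, ∃ s : Finset ↥(W j).left, ∀ w : ↥(W j).left, ∃ w₀ ∈ s, w ∈ O j w₀ := by
    intro j
    haveI : IsAffine (W j).left := hWaff j
    obtain ⟨s, hs⟩ := (isCompact_univ : IsCompact (Set.univ : Set ↥(W j).left)).elim_finite_subcover
      (fun w => (O j w : Set ↥(W j).left)) (fun w => (O j w).2)
      (fun w _ => Set.mem_iUnion.2 ⟨w, hwO j w⟩)
    refine ⟨s, fun w => ?_⟩
    obtain ⟨w₀, hw₀⟩ := Set.mem_iUnion.1 (hs (Set.mem_univ w))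
    obtain ⟨hw₀s, hw₀'⟩ := Set.mem_iUnion.1 hw₀
    exact ⟨w₀, hw₀s, hw₀'⟩
  choose s hs using hfin
  let J := Σ j : Fin m, {w : ↥(W j).left // w ∈ s j}
  let eqv : J ≃ Fin (Fintype.card J) := Fintype.equivFin J
  refine ⟨Fintype.card J, fun n => A (eqv.symm n).1 (eqv.symm n).2.1,
    fun n => o (eqv.symm n).1 (eqv.symm n).2.1 ≫ k (iW (eqv.symm n).1),
    fun n => iW (eqv.symm n).1,
    fun n => (yon S).map (o (eqv.symm n).1 (eqv.symm n).2.1) ≫
      (e (iW (eqv.symm n).1) ≫ pullback.fst (g (iW (eqv.symm n).1)) gz),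
    fun n => hAaff _ _, fun n => ?_, fun z => ?_, fun n => ?_, fun n => ?_⟩
  · haveI := hoopen (eqv.symm n).1 (eqv.symm n).2.1
    haveI := hkflat (iW (eqv.symm n).1)
    rw [Over.comp_left]
    infer_instance
  · obtain ⟨j, w, rfl⟩ := hWsurj z
    obtain ⟨w₀, hw₀s, hw₀⟩ := hs j w
    refine ⟨eqv ⟨j, ⟨w₀, hw₀s⟩⟩, ?_⟩
    beta_reduce
    rw [Equiv.symm_apply_apply]
    exact hOrange j w₀ w hw₀
  · haveI := hoopen (eqv.symm n).1 (eqv.symm n).2.1
    refine (RepWith @Etale).comp_mem _ _ ((repWith_yon_map_iff _ _).2 ?_) (hbe _)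
    infer_instance
  · rw [Category.assoc, hbcomm, Functor.map_comp, Category.assoc]

variable {Q : MorphismProperty Scheme.{u}}

/-- **`LocP Q` is fpqc local on the base** for `Q` etale local on the source-and-target, stable under
flat base change, Zariski local on the target and satisfying fpqc descent. -/
theorem isLocalOnBase_fpqc_locP' (hQ : EtLocalF Q) [IsZariskiLocalAtTarget Q]
    [Q.DescendsAlong (@Surjective ⊓ @Flat ⊓ @QuasiCompact)] :
    IsLocalOnBase (IsFpqcCover (S := S)) (LocP Q) := by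
  intro ι Y Yi g hY hYi hcov X f hX Xi p q hXi hsq
  constructor
  · intro hf i
    exact locP_flat_baseChange hQ hX hY (hXi i) (hYi i) (hsq i) (hcov.1 i) hf
  · intro hp
    refine locP_of_affine_etale hQ hX hY f fun Z hZ gz hgz => ?_
    have sqP := IsPullback.of_hasPullback f gz
    have hP : IsAlgSpace (pullback f gz) :=
      isAlgSpace_of_isPullback hX (IsAlgSpace.yon_obj Z) hY.diag sqP
    obtain ⟨M, E, c, i, b, hEaff, hcflat, hcsurj, hbe, hbcomm⟩ :=
      exists_finite_flat_charts hY Yi hYi g hcov Z hZ gz hgz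
    refine locP_of_flat_family' hQ hP hZ _ E c hEaff hcflat hcsurj fun n => ?_
    obtain ⟨u, hu, -⟩ := isPullback_lift (hsq (i n)) sqP (c n) (b n) (hbcomm n)
    refine locP_baseChange_yon hQ (hXi (i n)) (hYi (i n)) (p (i n)) (hp (i n)) (b n) ?_ u _ hu
    intro V V1 cc s1 s2 hcce sqV
    haveI : Etale s2.left := prop_snd_of_isPullback sqV (hbe n)
    infer_instance

end Groth.Agent.Lib.Helper79.EtLocalF
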