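import Groth.Agent.Lib.Helper79.FerrandLocal

/-!
# Ferrand pinching: base change criterion

Given a pushout `P` of `i : Z ⟶ X` (closed immersion) and `j : Z ⟶ Y` (under `Cond i j`), a
morphism `h : P' ⟶ P` and the base-changed square `(i', j', a', b')`, the latter is a pushout as
soon as `P'` is covered by affine charts `Spec D ⟶ P'` lying over charts `Spec C_τ ⟶ P` such that
`D → (R_Y ⊗_C D) × (R_X ⊗_C D)` identifies `D` with the fibre product over `R_Z ⊗_C D`.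
-/

set_option autoImplicit false
universe u

open AlgebraicGeometry CategoryTheory Limits TopologicalSpace Opposite

namespace Groth.Agent.Lib.Helper79.Ferrand

open Groth.Agent.Lib.Helper79.FerrandRing

variable {X Y Z P : Scheme.{u}} {i : Z ⟶ X} {j : Z ⟶ Y} [IsClosedImmersion i]
  (hF : Cond i j) {a : X ⟶ P} {b : Y ⟶ P} (hP : IsPushout i j a b)

/-- `ι τ` with its `Spec` type. -/
noncomputable def ιS (τ : GoodPair i j) : Spec (CommRingCat.of τ.C) ⟶ Ferrand.P i j := ι τ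

instance (τ : GoodPair i j) : IsOpenImmersion (ιS τ) :=
  inferInstanceAs (IsOpenImmersion (ι τ))

/-- `τ.α` with its `Spec` type. -/
noncomputable abbrev αS (τ : GoodPair i j) : Spec Γ(X, τ.U) ⟶ Spec (CommRingCat.of τ.C) :=
  Spec.map (CommRingCat.ofHom (fpSnd τ.qHom τ.pHom))

/-- `τ.β` with its `Spec` type. -/
noncomputable abbrev βS (τ : GoodPair i j) : Spec Γ(Y, τ.V) ⟶ Spec (CommRingCat.of τ.C) :=
  Spec.map (CommRingCat.ofHom (fpFst τ.qHom τ.pHom))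

theorem isPullback_ιS_a (τ : GoodPair i j) : IsPullback τ.hU.fromSpec (αS τ) (Ferrand.a hF) (ιS τ) :=
  (isPullback_a hF τ).flip

theorem isPullback_ιS_b (τ : GoodPair i j) : IsPullback τ.hV.fromSpec (βS τ) (Ferrand.b hF) (ιS τ) :=
  (isPullback_b hF τ).flip

/-- the chart of an arbitrary pushout. -/
noncomputable def χ (τ : GoodPair i j) : Spec (CommRingCat.of τ.C) ⟶ P :=
  ιS τ ≫ (isoP hF hP).hom

instance (τ : GoodPair i j) : IsOpenImmersion (χ hF hP τ) := by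
  unfold χ; infer_instance

theorem isPullback_χ_a (τ : GoodPair i j) : IsPullback τ.hU.fromSpec (αS τ) a (χ hF hP τ) :=
  (isPullback_ιS_a hF τ).of_iso (Iso.refl _) (Iso.refl _) (Iso.refl _) (isoP hF hP)
    (by simp) (by simp) (by simp) (by simp [χ])

theorem isPullback_χ_b (τ : GoodPair i j) : IsPullback τ.hV.fromSpec (βS τ) b (χ hF hP τ) :=
  (isPullback_ιS_b hF τ).of_iso (Iso.refl _) (Iso.refl _) (Iso.refl _) (isoP hF hP)
    (by simp) (by simp) (by simp) (by simp [χ])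

theorem fromSpec_a' (τ : GoodPair i j) : τ.hU.fromSpec ≫ a = αS τ ≫ χ hF hP τ :=
  (isPullback_χ_a hF hP τ).w

theorem fromSpec_b' (τ : GoodPair i j) : τ.hV.fromSpec ≫ b = βS τ ≫ χ hF hP τ :=
  (isPullback_χ_b hF hP τ).w

theorem exists_χ (p : P) : ∃ (τ : GoodPair i j), p ∈ Set.range (χ hF hP τ) := by
  obtain ⟨τ, x, hx⟩ := ι_jointly_surjective ((isoP hF hP).inv p)
  refine ⟨τ, x, ?_⟩
  have hx' : ιS τ x = (isoP hF hP).inv p := hx
  rw [χ, Scheme.Hom.comp_apply, hx', ← Scheme.Hom.comp_apply, Iso.inv_hom_id]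
  rfl

variable {X' Y' Z' P' : Scheme.{u}} (h : P' ⟶ P)

/-- a base change chart. -/
structure BCChart where
  /-- the good pair downstairs -/
  τ : GoodPair i j
  /-- ring of the chart upstairs -/
  D : Type u
  /-- `R_X ⊗ D` -/
  DX : Type u
  /-- `R_Y ⊗ D` -/
  DY : Type u
  /-- `R_Z ⊗ D` -/
  DZ : Type u
  [cD : CommRing D]
  [cDX : CommRing DX]
  [cDY : CommRing DY]
  [cDZ : CommRing DZ]
  /-- structure map -/
  ρ : τ.C →+* D
  /-- structure map -/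
  ρX : Γ(X, τ.U) →+* DX
  /-- structure map -/
  ρY : Γ(Y, τ.V) →+* DY
  /-- structure map -/
  ρZ : Γ(Z, τ.W) →+* DZ
  /-- `D → DX` -/
  sX : D →+* DX
  /-- `D → DY` -/
  sY : D →+* DY
  /-- `DX → DZ` -/
  pD : DX →+* DZ
  /-- `DY → DZ` -/
  qD : DY →+* DZ
  poX : IsPushout (CommRingCat.ofHom (fpSnd τ.qHom τ.pHom)) (CommRingCat.ofHom ρ)
    (CommRingCat.ofHom ρX) (CommRingCat.ofHom sX)
  poY : IsPushout (CommRingCat.ofHom (fpFst τ.qHom τ.pHom)) (CommRingCat.ofHom ρ)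
    (CommRingCat.ofHom ρY) (CommRingCat.ofHom sY)
  poZ : IsPushout (CommRingCat.ofHom τ.pHom) (CommRingCat.ofHom ρX)
    (CommRingCat.ofHom ρZ) (CommRingCat.ofHom pD)
  hq : qD.comp ρY = ρZ.comp τ.qHom
  hs : qD.comp sY = pD.comp sX
  hp : Function.Surjective pD
  hPB : ∀ y x, qD y = pD x → ∃ d, sY d = y ∧ sX d = x
  hINJ : ∀ d, sY d = 0 → sX d = 0 → d = 0
  /-- the chart map -/
  v : Spec (CommRingCat.of D) ⟶ P'
  hv : IsOpenImmersion v
  hvh : v ≫ h = Spec.map (CommRingCat.ofHom ρ) ≫ χ hF hP τ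

attribute [instance] BCChart.cD BCChart.cDX BCChart.cDY BCChart.cDZ BCChart.hv

section toLocal

variable {hF hP h}
variable {pX : X' ⟶ X} {a' : X' ⟶ P'} (hX : IsPullback pX a' a h)
  {pY : Y' ⟶ Y} {b' : Y' ⟶ P'} (hY : IsPullback pY b' b h)
  {pZ : Z' ⟶ Z} {i' : Z' ⟶ X'} (hZ : IsPullback pZ i' i pX)
  {j' : Z' ⟶ Y'} (hj1 : j' ≫ pY = pZ ≫ j) (hj2 : i' ≫ a' = j' ≫ b')
  (κ : BCChart hF hP h)

namespace BCChart

theorem compatX : (Spec.map (CommRingCat.ofHom κ.ρX) ≫ κ.τ.hU.fromSpec) ≫ a =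
    (Spec.map (CommRingCat.ofHom κ.sX) ≫ κ.v) ≫ h := by
  rw [Category.assoc, Category.assoc, κ.hvh, fromSpec_a' hF hP, αS, ← Spec.map_comp_assoc,
    ← Spec.map_comp_assoc, κ.poX.w]

/-- `Spec DX ⟶ X'` -/
noncomputable def u : Spec (CommRingCat.of κ.DX) ⟶ X' :=
  hX.lift (Spec.map (CommRingCat.ofHom κ.ρX) ≫ κ.τ.hU.fromSpec)
    (Spec.map (CommRingCat.ofHom κ.sX) ≫ κ.v) κ.compatX

@[reassoc]
theorem u_pX : κ.u hX ≫ pX = Spec.map (CommRingCat.ofHom κ.ρX) ≫ κ.τ.hU.fromSpec :=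
  hX.lift_fst _ _ _

@[reassoc]
theorem u_a' : κ.u hX ≫ a' = Spec.map (CommRingCat.ofHom κ.sX) ≫ κ.v :=
  hX.lift_snd _ _ _

theorem isPullback_u : IsPullback (κ.u hX) (Spec.map (CommRingCat.ofHom κ.sX)) a' κ.v := by
  have h1 : IsPullback (Spec.map (CommRingCat.ofHom κ.ρX)) (Spec.map (CommRingCat.ofHom κ.sX))
      (αS κ.τ) (Spec.map (CommRingCat.ofHom κ.ρ)) :=
    isPullback_SpecMap_of_isPushout _ _ _ _ κ.poX
  have h2 := h1.paste_horiz (isPullback_χ_a hF hP κ.τ)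
  rw [← κ.hvh, ← κ.u_pX hX] at h2
  exact h2.of_right (κ.u_a' hX) hX

theorem compatY : (Spec.map (CommRingCat.ofHom κ.ρY) ≫ κ.τ.hV.fromSpec) ≫ b =
    (Spec.map (CommRingCat.ofHom κ.sY) ≫ κ.v) ≫ h := by
  rw [Category.assoc, Category.assoc, κ.hvh, fromSpec_b' hF hP, βS, ← Spec.map_comp_assoc,
    ← Spec.map_comp_assoc, κ.poY.w]

/-- `Spec DY ⟶ Y'` -/
noncomputable def t : Spec (CommRingCat.of κ.DY) ⟶ Y' :=
  hY.lift (Spec.map (CommRingCat.ofHom κ.ρY) ≫ κ.τ.hV.fromSpec)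
    (Spec.map (CommRingCat.ofHom κ.sY) ≫ κ.v) κ.compatY

@[reassoc]
theorem t_pY : κ.t hY ≫ pY = Spec.map (CommRingCat.ofHom κ.ρY) ≫ κ.τ.hV.fromSpec :=
  hY.lift_fst _ _ _

@[reassoc]
theorem t_b' : κ.t hY ≫ b' = Spec.map (CommRingCat.ofHom κ.sY) ≫ κ.v :=
  hY.lift_snd _ _ _

theorem isPullback_t : IsPullback (κ.t hY) (Spec.map (CommRingCat.ofHom κ.sY)) b' κ.v := by
  have h1 : IsPullback (Spec.map (CommRingCat.ofHom κ.ρY)) (Spec.map (CommRingCat.ofHom κ.sY))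
      (βS κ.τ) (Spec.map (CommRingCat.ofHom κ.ρ)) :=
    isPullback_SpecMap_of_isPushout _ _ _ _ κ.poY
  have h2 := h1.paste_horiz (isPullback_χ_b hF hP κ.τ)
  rw [← κ.hvh, ← κ.t_pY hY] at h2
  exact h2.of_right (κ.t_b' hY) hY

theorem compatZ : (Spec.map (CommRingCat.ofHom κ.ρZ) ≫ κ.τ.hW.fromSpec) ≫ i =
    (Spec.map (CommRingCat.ofHom κ.pD) ≫ κ.u hX) ≫ pX := by
  rw [Category.assoc, Category.assoc, κ.u_pX hX, ← κ.τ.iSpec_fromSpec, GoodPair.iSpec,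
    ← Spec.map_comp_assoc, ← Spec.map_comp_assoc]
  congr 2
  exact κ.poZ.w

/-- `Spec DZ ⟶ Z'` -/
noncomputable def w : Spec (CommRingCat.of κ.DZ) ⟶ Z' :=
  hZ.lift (Spec.map (CommRingCat.ofHom κ.ρZ) ≫ κ.τ.hW.fromSpec)
    (Spec.map (CommRingCat.ofHom κ.pD) ≫ κ.u hX) (κ.compatZ hX)

@[reassoc]
theorem w_pZ : κ.w hX hZ ≫ pZ = Spec.map (CommRingCat.ofHom κ.ρZ) ≫ κ.τ.hW.fromSpec :=
  hZ.lift_fst _ _ _

@[reassoc]
theorem w_i' : κ.w hX hZ ≫ i' = Spec.map (CommRingCat.ofHom κ.pD) ≫ κ.u hX :=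
  hZ.lift_snd _ _ _

theorem isPullback_w :
    IsPullback (κ.w hX hZ) (Spec.map (CommRingCat.ofHom κ.pD)) i' (κ.u hX) := by
  have h1 : IsPullback (Spec.map (CommRingCat.ofHom κ.ρZ)) (Spec.map (CommRingCat.ofHom κ.pD))
      κ.τ.iSpec (Spec.map (CommRingCat.ofHom κ.ρX)) :=
    isPullback_SpecMap_of_isPushout _ _ _ _ κ.poZ
  have h2 := h1.paste_horiz (isPullback_W κ.τ).flip
  rw [← κ.u_pX hX, ← κ.w_pZ hX hZ] at h2
  exact h2.of_right (κ.w_i' hX hZ) hZ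

include hj1 hj2 in
theorem hj : Spec.map (CommRingCat.ofHom κ.qD) ≫ κ.t hY = κ.w hX hZ ≫ j' := by
  apply hY.hom_ext
  · rw [Category.assoc, Category.assoc, κ.t_pY hY, hj1, κ.w_pZ_assoc hX hZ,
      ← κ.τ.jSpec_fromSpec, GoodPair.jSpec, ← Spec.map_comp_assoc, ← Spec.map_comp_assoc]
    congr 2
    exact congrArg CommRingCat.ofHom κ.hq
  · rw [Category.assoc, Category.assoc, κ.t_b' hY, ← hj2, κ.w_i'_assoc hX hZ, κ.u_a' hX,
      ← Spec.map_comp_assoc, ← Spec.map_comp_assoc]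
    congr 2
    exact congrArg CommRingCat.ofHom κ.hs

/-- the local chart attached to a base change chart. -/
noncomputable def toLocalChart : LocalChart i' j' a' b' where
  V := Spec (CommRingCat.of κ.D)
  U := Spec (CommRingCat.of κ.DX)
  T := Spec (CommRingCat.of κ.DY)
  W := Spec (CommRingCat.of κ.DZ)
  hVaff := inferInstance
  hUaff := inferInstance
  hTaff := inferInstance
  v := κ.v
  hv := κ.hv
  u := κ.u hX
  t := κ.t hY
  w := κ.w hX hZ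
  α := Spec.map (CommRingCat.ofHom κ.sX)
  β := Spec.map (CommRingCat.ofHom κ.sY)
  iW := Spec.map (CommRingCat.ofHom κ.pD)
  jW := Spec.map (CommRingCat.ofHom κ.qD)
  hU := κ.isPullback_u hX
  hT := κ.isPullback_t hY
  hW := κ.isPullback_w hX hZ
  hj := κ.hj hX hY hZ hj1 hj2
  po := isPushout_Spec κ.pD κ.qD κ.sY κ.sX (fun d => RingHom.congr_fun κ.hs d) κ.hp κ.hPB κ.hINJ

end BCChart

end toLocal

section main

variable {hF hP h}
variable {pX : X' ⟶ X} {a' : X' ⟶ P'} (hX : IsPullback pX a' a h)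
  {pY : Y' ⟶ Y} {b' : Y' ⟶ P'} (hY : IsPullback pY b' b h)
  {pZ : Z' ⟶ Z} {i' : Z' ⟶ X'} (hZ : IsPullback pZ i' i pX)
  {j' : Z' ⟶ Y'} (hj1 : j' ≫ pY = pZ ≫ j) (hj2 : i' ≫ a' = j' ≫ b')
  {K : Type*} (κ : K → BCChart hF hP h) (hcov : ∀ p : P', ∃ k, p ∈ Set.range (κ k).v)

include hX hY hZ hj1 hj2 hcov in
/-- **base change criterion** for Ferrand pushouts. -/
theorem isPushout_of_bcCharts : IsPushout i' j' a' b' := by
  have : IsClosedImmersion i' :=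
    MorphismProperty.of_isPullback (P := @IsClosedImmersion) hZ inferInstance
  exact isPushout_of_localCharts hj2 (fun k => (κ k).toLocalChart hX hY hZ hj1 hj2) hcov

end main

end Groth.Agent.Lib.Helper79.Ferrand
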