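import Groth.Agent.Lib.Helper79.FerrandProps

/-!
# Ferrand pinching: the pushout square is cartesian
-/

set_option autoImplicit false
universe u

open AlgebraicGeometry CategoryTheory Limits TopologicalSpace Opposite

namespace Groth.Agent.Lib.Helper79.Ferrand

open Groth.Agent.Lib.Helper79.FerrandRing Groth.Agent.Lib.Helper6.PinchAlg

/-- the fibre product square of rings is a pushout square when `p` is surjective. -/
theorem isPushout_fp {B A' A : Type u} [CommRing B] [CommRing A'] [CommRing A] (q : B →+* A)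
    (p : A' →+* A) (hp : Function.Surjective p) :
    IsPushout (CommRingCat.ofHom (fpFst q p)) (CommRingCat.ofHom (fpSnd q p))
      (CommRingCat.ofHom q) (CommRingCat.ofHom p) := by
  have hker : ∀ (s : PushoutCocone (CommRingCat.ofHom (fpFst q p))
      (CommRingCat.ofHom (fpSnd q p))), RingHom.ker p ≤ RingHom.ker s.inr.hom := by
    intro s a' ha'
    rw [RingHom.mem_ker] at ha' ⊢
    have h0 : q 0 = p a' := by rw [map_zero, ha']
    have := ConcreteCategory.congr_hom s.condition (fpMk q p 0 a' h0)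
    change s.inl.hom 0 = s.inr.hom a' at this
    rw [← this, map_zero]
  have hinl : ∀ (s : PushoutCocone (CommRingCat.ofHom (fpFst q p))
      (CommRingCat.ofHom (fpSnd q p))) (b : B) (a' : A'), q b = p a' →
      s.inl.hom b = s.inr.hom a' := by
    intro s b a' h
    exact ConcreteCategory.congr_hom s.condition (fpMk q p b a' h)
  refine ⟨⟨by ext c; exact fp_comm q p c⟩, ⟨PushoutCocone.IsColimit.mk _
    (fun s => CommRingCat.ofHom (p.liftOfSurjective hp ⟨s.inr.hom, hker s⟩)) ?_ ?_ ?_⟩⟩
  · intro s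
    ext b
    obtain ⟨a', ha'⟩ := hp (q b)
    change (p.liftOfSurjective hp ⟨s.inr.hom, hker s⟩) (q b) = s.inl.hom b
    rw [← ha', RingHom.liftOfSurjective_comp_apply]
    exact (hinl s b a' ha'.symm).symm
  · intro s
    ext a'
    exact RingHom.liftOfSurjective_comp_apply p hp ⟨s.inr.hom, hker s⟩ a'
  · intro s m _ h₂
    ext a
    obtain ⟨a', rfl⟩ := hp a
    change m.hom (p a') = (p.liftOfSurjective hp ⟨s.inr.hom, hker s⟩) (p a')
    rw [RingHom.liftOfSurjective_comp_apply]
    exact ConcreteCategory.congr_hom h₂ a'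

variable {X Y Z : Scheme.{u}} {i : Z ⟶ X} {j : Z ⟶ Y} [IsClosedImmersion i] (hF : Cond i j)

theorem GoodPair.isPullback_chart (τ : GoodPair i j) : IsPullback τ.jSpec τ.iSpec τ.β τ.α :=
  isPullback_SpecMap_of_isPushout _ _ _ _ (isPushout_fp τ.qHom τ.pHom τ.pHom_surjective)

/-- the square of `Z`-charts. -/
theorem isPullback_W (τ : GoodPair i j) : IsPullback τ.iSpec τ.hW.fromSpec τ.hU.fromSpec i :=
  IsOpenImmersion.isPullback _ _ _ _ τ.iSpec_fromSpec.symm
    (by rw [τ.hW.opensRange_fromSpec, τ.hU.opensRange_fromSpec]; rfl)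

/-- **the Ferrand pushout square is cartesian.** -/
theorem isPullback : IsPullback i j (a hF) (b hF) := by
  apply Scheme.isPullback_of_openCover i j (a hF) (b hF) (coverX hF)
  intro (τ : GoodPair i j)
  -- the big rectangle
  have h1 : IsPullback (τ.jSpec ≫ τ.hV.fromSpec) τ.iSpec (b hF) (τ.α ≫ ι τ) :=
    τ.isPullback_chart.paste_horiz (isPullback_b hF τ).flip
  have hW := (isPullback_W τ).flip
  -- `hW : IsPullback τ.hW.fromSpec τ.iSpec i τ.hU.fromSpec`
  have e1 : hW.isoPullback.hom ≫ pullback.fst i τ.hU.fromSpec = τ.hW.fromSpec :=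
    hW.isoPullback_hom_fst
  have e2 : hW.isoPullback.hom ≫ pullback.snd i τ.hU.fromSpec = τ.iSpec :=
    hW.isoPullback_hom_snd
  change IsPullback (pullback.snd i τ.hU.fromSpec) (pullback.fst i τ.hU.fromSpec ≫ j)
    (τ.hU.fromSpec ≫ a hF) (b hF)
  rw [fromSpec_a]
  refine IsPullback.of_iso h1.flip hW.isoPullback (Iso.refl _) (Iso.refl _) (Iso.refl _)
    ?_ ?_ ?_ ?_
  · rw [Iso.refl_hom, Category.comp_id, e2]
  · rw [Iso.refl_hom, Category.comp_id, ← Category.assoc, e1, τ.jSpec_fromSpec]
  · rw [Iso.refl_hom, Iso.refl_hom, Category.comp_id, Category.id_comp]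
  · rw [Iso.refl_hom, Iso.refl_hom, Category.comp_id, Category.id_comp]

end Groth.Agent.Lib.Helper79.Ferrand
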