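import Groth.Agent.Lib.Helper79.FerrandRing
import Groth.Agent.Lib.Helper6.PinchAff

/-!
# Ferrand pinching: charts

Good pairs of affine opens for a closed immersion `i : Z ⟶ X` and a morphism `j : Z ⟶ Y`,
their rings `C τ = Γ(Y,V) ×_{Γ(Z,i⁻¹U)} Γ(X,U)` and the basic-open order.
-/

set_option autoImplicit false
universe u

open AlgebraicGeometry CategoryTheory Limits TopologicalSpace Opposite

namespace Groth.Agent.Lib.Helper79.Ferrand

open Groth.Agent.Lib.Helper79.FerrandRing Groth.Agent.Lib.Helper6.PinchAlg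

variable {X Y Z : Scheme.{u}} (i : Z ⟶ X) (j : Z ⟶ Y)

/-- a pair of affine opens of `X` and `Y` with the same trace on `Z`. -/
@[ext]
structure GoodPair where
  /-- the open of `X` -/
  U : X.Opens
  /-- the open of `Y` -/
  V : Y.Opens
  hU : IsAffineOpen U
  hV : IsAffineOpen V
  eq : i ⁻¹ᵁ U = j ⁻¹ᵁ V

variable {i j}

namespace GoodPair

variable (τ : GoodPair i j)

/-- the trace on `Z`. -/
def W : Z.Opens := i ⁻¹ᵁ τ.U

theorem W_eq : τ.W = j ⁻¹ᵁ τ.V := τ.eq

/-- `Γ(X,U) → Γ(Z, W)`. -/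
noncomputable def pHom : Γ(X, τ.U) →+* Γ(Z, τ.W) := (i.appLE τ.U τ.W le_rfl).hom

/-- `Γ(Y,V) → Γ(Z, W)`. -/
noncomputable def qHom : Γ(Y, τ.V) →+* Γ(Z, τ.W) := (j.appLE τ.V τ.W τ.eq.le).hom

/-- the ring of the chart. -/
noncomputable abbrev C : Subring (Γ(Y, τ.V) × Γ(X, τ.U)) := fp τ.qHom τ.pHom

theorem pHom_surjective [IsClosedImmersion i] : Function.Surjective τ.pHom := by
  have := i.app_surjective τ.U τ.hU
  rwa [Scheme.Hom.app_eq_appLE] at this

theorem hW [IsClosedImmersion i] : IsAffineOpen τ.W := τ.hU.preimage i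

theorem basicOpen_pHom (f : Γ(X, τ.U)) : Z.basicOpen (τ.pHom f) = i ⁻¹ᵁ (X.basicOpen f) := by
  change Z.basicOpen (i.appLE τ.U τ.W le_rfl f) = _
  rw [Scheme.basicOpen_appLE]
  exact inf_eq_right.mpr (fun z hz => X.basicOpen_le f hz)

theorem basicOpen_qHom (g : Γ(Y, τ.V)) : Z.basicOpen (τ.qHom g) = j ⁻¹ᵁ (Y.basicOpen g) := by
  change Z.basicOpen (j.appLE τ.V τ.W τ.eq.le g) = _
  rw [Scheme.basicOpen_appLE]
  refine inf_eq_right.mpr (fun z hz => ?_)
  rw [W_eq]
  exact Y.basicOpen_le g hz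

/-- the basic open good pair attached to an element of the chart ring. -/
noncomputable def basic (c : τ.C) : GoodPair i j where
  U := X.basicOpen (fpSnd τ.qHom τ.pHom c)
  V := Y.basicOpen (fpFst τ.qHom τ.pHom c)
  hU := τ.hU.basicOpen _
  hV := τ.hV.basicOpen _
  eq := by rw [← basicOpen_pHom, ← basicOpen_qHom, fp_comm]

theorem basic_U_le (c : τ.C) : (τ.basic c).U ≤ τ.U := X.basicOpen_le _
theorem basic_V_le (c : τ.C) : (τ.basic c).V ≤ τ.V := Y.basicOpen_le _

theorem W_mono {τ τ' : GoodPair i j} (h : τ.U ≤ τ'.U) : τ.W ≤ τ'.W :=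
  fun _ hz => h hz

section res

variable {τ} {τ' : GoodPair i j} (hU : τ.U ≤ τ'.U) (hV : τ.V ≤ τ'.V)

/-- restriction of chart rings. -/
noncomputable def resHom : τ'.C →+* τ.C :=
  fpMap τ'.qHom τ'.pHom τ.qHom τ.pHom (Y.presheaf.map (homOfLE hV).op).hom
    (X.presheaf.map (homOfLE hU).op).hom (Z.presheaf.map (homOfLE (W_mono hU)).op).hom
    (fun b => by
      change (Y.presheaf.map (homOfLE hV).op ≫ j.appLE τ.V τ.W τ.eq.le) b =
        (j.appLE τ'.V τ'.W τ'.eq.le ≫ Z.presheaf.map (homOfLE (W_mono hU)).op) b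
      rw [Scheme.Hom.map_appLE, Scheme.Hom.appLE_map])
    (fun a' => by
      change (X.presheaf.map (homOfLE hU).op ≫ i.appLE τ.U τ.W le_rfl) a' =
        (i.appLE τ'.U τ'.W le_rfl ≫ Z.presheaf.map (homOfLE (W_mono hU)).op) a'
      rw [Scheme.Hom.map_appLE, Scheme.Hom.appLE_map])

@[simp] theorem fpFst_resHom (c : τ'.C) :
    fpFst τ.qHom τ.pHom (resHom hU hV c) =
      Y.presheaf.map (homOfLE hV).op (fpFst τ'.qHom τ'.pHom c) := rfl

@[simp] theorem fpSnd_resHom (c : τ'.C) :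
    fpSnd τ.qHom τ.pHom (resHom hU hV c) =
      X.presheaf.map (homOfLE hU).op (fpSnd τ'.qHom τ'.pHom c) := rfl

end res

theorem resHom_self (c : τ.C) : resHom (le_refl τ.U) (le_refl τ.V) c = c := by
  apply fp_ext
  · rw [fpFst_resHom]
    change Y.presheaf.map (𝟙 _) _ = _
    rw [Y.presheaf.map_id]; rfl
  · rw [fpSnd_resHom]
    change X.presheaf.map (𝟙 _) _ = _
    rw [X.presheaf.map_id]; rfl

theorem resHom_comp {τ₁ τ₂ τ₃ : GoodPair i j} (hU : τ₁.U ≤ τ₂.U) (hV : τ₁.V ≤ τ₂.V)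
    (hU' : τ₂.U ≤ τ₃.U) (hV' : τ₂.V ≤ τ₃.V) (c : τ₃.C) :
    resHom hU hV (resHom hU' hV' c) = resHom (hU.trans hU') (hV.trans hV') c := by
  apply fp_ext
  · rw [fpFst_resHom, fpFst_resHom, fpFst_resHom, ← CommRingCat.comp_apply,
      ← Functor.map_comp]
    rfl
  · rw [fpSnd_resHom, fpSnd_resHom, fpSnd_resHom, ← CommRingCat.comp_apply,
      ← Functor.map_comp]
    rfl

/-- restriction to a basic open chart is a localization. -/
theorem isAwayHom_resHom_basic [IsClosedImmersion i] (c : τ.C) :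
    IsAwayHom (resHom (τ := τ.basic c) (τ' := τ) (τ.basic_U_le c) (τ.basic_V_le c)) c := by
  apply isAwayHom_fpMap
  · letI := (Y.presheaf.map (homOfLE (τ.basic_V_le c)).op).hom.toAlgebra
    have := τ.hV.isLocalization_of_eq_basicOpen (fpFst τ.qHom τ.pHom c)
      (homOfLE (τ.basic_V_le c)) rfl
    exact IsAwayHom.of_isLocalization _
  · letI := (X.presheaf.map (homOfLE (τ.basic_U_le c)).op).hom.toAlgebra
    have := τ.hU.isLocalization_of_eq_basicOpen (fpSnd τ.qHom τ.pHom c)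
      (homOfLE (τ.basic_U_le c)) rfl
    exact IsAwayHom.of_isLocalization _
  · letI := (Z.presheaf.map (homOfLE (W_mono (τ.basic_U_le c))).op).hom.toAlgebra
    have := τ.hW.isLocalization_of_eq_basicOpen (τ.qHom (fpFst τ.qHom τ.pHom c))
      (homOfLE (W_mono (τ.basic_U_le c))) (by
        rw [fp_comm, basicOpen_pHom]; rfl)
    exact IsAwayHom.of_isLocalization _

end GoodPair

end Groth.Agent.Lib.Helper79.Ferrand
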