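import Groth.Agent.Lib.Helper79.FerrandTorBC

/-!
# Base change of Ferrand pinchings when the cokernel of `O_Y → j_* O_Z` is flat over the base
-/

set_option autoImplicit false
universe u

open AlgebraicGeometry CategoryTheory Limits TopologicalSpace Opposite TensorProduct

namespace Groth.Agent.Lib.Helper79.Ferrand

open Groth.Agent.Lib.Helper79.FerrandRing

/-- a flat surjective morphism is injective on sections. -/
theorem app_injective_of_flat_of_surjective {X Y : Scheme.{u}} (f : X ⟶ Y) [Flat f] [Surjective f]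
    (U : Y.Opens) : Function.Injective (f.app U).hom := by
  rw [injective_iff_map_eq_zero]
  intro s hs
  refine TopCat.Presheaf.section_ext Y.sheaf U s 0 ?_
  intro y hy
  obtain ⟨x, rfl⟩ := f.surjective y
  have hinj : Function.Injective (f.stalkMap x).hom := by
    algebraize [(f.stalkMap x).hom]
    have : Module.FaithfullyFlat (Y.presheaf.stalk (f x)) (X.presheaf.stalk x) :=
      @Module.FaithfullyFlat.of_flat_of_isLocalHom _ _ _ _ _ _ _
        (Flat.stalkMap f x) (f.toLRSHom.prop x)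
    exact ‹RingHom.FaithfullyFlat _›.injective
  apply hinj
  have h1 := Scheme.Hom.germ_stalkMap_apply f U x hy s
  have hs' : (f.app U) s = 0 := hs
  rw [hs', map_zero] at h1
  refine h1.trans (Eq.symm ?_)
  rw [map_zero]
  exact map_zero (f.stalkMap x).hom

section modules

variable {R : Type*} [CommRing R] {C Bt Bx A N : Type*}
  [AddCommGroup C] [AddCommGroup Bt] [AddCommGroup Bx] [AddCommGroup A] [AddCommGroup N]
  [Module R C] [Module R Bt] [Module R Bx] [Module R A] [Module R N]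

/-- base change of a fibre square `C = Bt ×_A Bx` with `Bx → A` surjective, `Bt → A` injective
with flat cokernel. -/
theorem sq_baseChange_of_flat_coker
    (fst : C →ₗ[R] Bt) (snd : C →ₗ[R] Bx) (q : Bt →ₗ[R] A) (p : Bx →ₗ[R] A) (θ : A →ₗ[R] N)
    (hfib : ∀ (b : Bt) (a' : Bx), q b = p a' → ∃! c : C, fst c = b ∧ snd c = a')
    (hcomm : ∀ c, q (fst c) = p (snd c)) (hp : Function.Surjective p)
    (hq : Function.Injective q) (hθ : Function.Surjective θ) (hex : Function.Exact q θ)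
    [Module.Flat R N] (M : Type*) [AddCommGroup M] [Module R M]
    (y : M ⊗[R] Bt) (x : M ⊗[R] Bx) (hyx : q.lTensor M y = p.lTensor M x) :
    ∃! z : M ⊗[R] C, fst.lTensor M z = y ∧ snd.lTensor M z = x := by
  have hsnd : Function.Injective snd := by
    rw [injective_iff_map_eq_zero]
    intro c hc
    have h1 : q (fst c) = 0 := by rw [hcomm, hc, map_zero]
    have h2 : fst c = 0 := hq (by rw [h1, map_zero])
    obtain ⟨c₀, -, huniq⟩ := hfib 0 0 (by rw [map_zero, map_zero])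
    rw [huniq c ⟨h2, hc⟩, huniq 0 ⟨map_zero _, map_zero _⟩]
  have hsurj2 : Function.Surjective (θ ∘ₗ p) := hθ.comp hp
  have hex2 : Function.Exact snd (θ ∘ₗ p) := by
    intro b
    constructor
    · intro hb
      have hb' : θ (p b) = 0 := hb
      obtain ⟨bt, hbt⟩ := (hex (p b)).mp hb'
      obtain ⟨c, ⟨-, hc⟩, -⟩ := hfib bt b hbt
      exact ⟨c, hc⟩
    · rintro ⟨c, rfl⟩
      change θ (p (snd c)) = 0
      rw [← hcomm]
      exact (hex _).mpr ⟨_, rfl⟩
  have hinjM : Function.Injective (snd.lTensor M) :=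
    LinearMap.lTensor_injective_of_exact_of_flat (θ ∘ₗ p) hsurj2 snd hsnd hex2 M
  have hqM : Function.Injective (q.lTensor M) :=
    LinearMap.lTensor_injective_of_exact_of_flat θ hθ q hq hex M
  have hexM : Function.Exact (snd.lTensor M) ((θ ∘ₗ p).lTensor M) :=
    lTensor_exact M hex2 hsurj2
  have hθq : θ ∘ₗ q = 0 := by
    ext b
    exact (hex _).mpr ⟨b, rfl⟩
  have hx0 : (θ ∘ₗ p).lTensor M x = 0 := by
    rw [LinearMap.lTensor_comp, LinearMap.comp_apply, ← hyx, ← LinearMap.comp_apply,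
      ← LinearMap.lTensor_comp, hθq, LinearMap.lTensor_zero, LinearMap.zero_apply]
  obtain ⟨z, hz⟩ := (hexM x).mp hx0
  have hqp : q ∘ₗ fst = p ∘ₗ snd := by
    ext c
    exact hcomm c
  have hzy : fst.lTensor M z = y := by
    apply hqM
    rw [← LinearMap.comp_apply, ← LinearMap.lTensor_comp, hqp, LinearMap.lTensor_comp,
      LinearMap.comp_apply, hz, hyx]
  refine ⟨z, ⟨hzy, hz⟩, ?_⟩
  rintro z' ⟨-, hz'⟩
  exact hinjM (hz'.trans hz.symm)

end modules

variable {X Y Z : Scheme.{u}} {i : Z ⟶ X} {j : Z ⟶ Y}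

attribute [local instance] GoodPair.algRX GoodPair.algRY GoodPair.algRZ

/-- base change of a chart when `Γ(Y,V) → Γ(Z,W)` is injective with flat cokernel. -/
theorem GoodPair.baseChangeOK_of_flat_coker [IsClosedImmersion i] (τ : GoodPair i j)
    (R : Type u) [CommRing R] [Algebra R τ.C] (hq : Function.Injective τ.qHom)
    {N : Type*} [AddCommGroup N] [Module R N] [Module.Flat R N]
    (θ : Γ(Z, τ.W) →ₗ[R] N) (hθ : Function.Surjective θ) (hex : Function.Exact τ.qHom θ) :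
    BaseChangeOK τ R := by
  intro R' _ _ y x hyx
  exact sq_baseChange_of_flat_coker (τ.fstₐ R).toLinearMap (τ.sndₐ R).toLinearMap
    (τ.qₐ R).toLinearMap (τ.pₐ R).toLinearMap θ
    (fun b a' hba => ⟨fpMk τ.qHom τ.pHom b a' hba, ⟨rfl, rfl⟩,
      fun c hc => fp_ext τ.qHom τ.pHom hc.1 hc.2⟩)
    (fun c => fp_comm τ.qHom τ.pHom c) τ.pHom_surjective hq hθ hex R' y x hyx

/-- base change of a chart not meeting `Z`. -/
theorem GoodPair.baseChangeOK_of_W_eq_bot [IsClosedImmersion i] (τ : GoodPair i j)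
    (R : Type u) [CommRing R] [Algebra R τ.C] (hW : τ.W = ⊥) : BaseChangeOK τ R := by
  have : Subsingleton Γ(Z, τ.W) := by rw [hW]; infer_instance
  intro R' _ _ y x hyx
  exact τ.baseChange_of_flat R R' y x hyx

section charts

variable [IsClosedImmersion i] (hF : Cond i j) {P S : Scheme.{u}} {a : X ⟶ P} {b : Y ⟶ P}
  (hP : IsPushout i j a b) (sP : P ⟶ S)

theorem a_mem_range_χ (τ : GoodPair i j) {x : X} (hx : x ∈ τ.U) :
    a x ∈ Set.range (χ hF hP τ) := by
  have hx' : x ∈ Set.range τ.hU.fromSpec := by rw [τ.hU.range_fromSpec]; exact hx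
  obtain ⟨𝔮, rfl⟩ := hx'
  refine ⟨αS τ 𝔮, ?_⟩
  rw [← Scheme.Hom.comp_apply, ← Scheme.Hom.comp_apply, fromSpec_a' hF hP]

theorem b_mem_range_χ (τ : GoodPair i j) {y : Y} (hy : y ∈ τ.V) :
    b y ∈ Set.range (χ hF hP τ) := by
  have hy' : y ∈ Set.range τ.hV.fromSpec := by rw [τ.hV.range_fromSpec]; exact hy
  obtain ⟨𝔮, rfl⟩ := hy'
  refine ⟨βS τ 𝔮, ?_⟩
  rw [← Scheme.Hom.comp_apply, ← Scheme.Hom.comp_apply, fromSpec_b' hF hP]

theorem range_χ_comp_subset (τ : GoodPair i j) (S₀ : S.Opens)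
    (hU : τ.U ≤ (a ≫ sP) ⁻¹ᵁ S₀) (hV : τ.V ≤ (b ≫ sP) ⁻¹ᵁ S₀) :
    Set.range (χ hF hP τ ≫ sP) ⊆ (S₀ : Set S) := by
  rintro _ ⟨c, rfl⟩
  rcases chart_jointlySurj τ c with ⟨𝔮, rfl⟩ | ⟨𝔮, rfl⟩
  · have h1 : (βS τ ≫ χ hF hP τ ≫ sP) 𝔮 ∈ S₀ := by
      rw [← Category.assoc, ← fromSpec_b' hF hP, Category.assoc, Scheme.Hom.comp_apply]
      apply hV
      have : τ.hV.fromSpec 𝔮 ∈ Set.range τ.hV.fromSpec := ⟨𝔮, rfl⟩
      rw [τ.hV.range_fromSpec] at this
      exact this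
    exact h1
  · have h1 : (αS τ ≫ χ hF hP τ ≫ sP) 𝔮 ∈ S₀ := by
      rw [← Category.assoc, ← fromSpec_a' hF hP, Category.assoc, Scheme.Hom.comp_apply]
      apply hU
      have : τ.hU.fromSpec 𝔮 ∈ Set.range τ.hU.fromSpec := ⟨𝔮, rfl⟩
      rw [τ.hU.range_fromSpec] at this
      exact this
    exact h1

/-- the structure map `Γ(S,S₀) → C → Γ(X,U) → Γ(Z,W)` is the map induced by `Z ⟶ S`. -/
theorem pHom_fpSnd_φ (τ : GoodPair i j) {S₀ : S.Opens} (hS₀ : IsAffineOpen S₀)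
    (hτ : Set.range (χ hF hP τ ≫ sP) ⊆ (S₀ : Set S)) (m : Z ⟶ S) (hm : m = (i ≫ a) ≫ sP)
    (hle : τ.W ≤ m ⁻¹ᵁ S₀) :
    (τ.pHom.comp (fpSnd τ.qHom τ.pHom)).comp (φ hF hP sP τ hS₀ hτ) =
      (m.appLE S₀ τ.W hle).hom := by
  subst hm
  have e1 : Spec.map (CommRingCat.ofHom
      ((τ.pHom.comp (fpSnd τ.qHom τ.pHom)).comp (φ hF hP sP τ hS₀ hτ))) =
      τ.iSpec ≫ αS τ ≫ Spec.map (CommRingCat.ofHom (φ hF hP sP τ hS₀ hτ)) := by
    rw [← Spec.map_comp, GoodPair.iSpec, ← Spec.map_comp]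
    rfl
  have e2 : Spec.map (CommRingCat.ofHom
      ((τ.pHom.comp (fpSnd τ.qHom τ.pHom)).comp (φ hF hP sP τ hS₀ hτ))) ≫ hS₀.fromSpec =
      τ.hW.fromSpec ≫ (i ≫ a) ≫ sP := by
    rw [e1, Category.assoc, Category.assoc, hφ, ← Category.assoc (αS τ),
      ← fromSpec_a' hF hP, Category.assoc, reassoc_of% τ.iSpec_fromSpec, Category.assoc]
  have e3 : Spec.map (((i ≫ a) ≫ sP).appLE S₀ τ.W hle) ≫ hS₀.fromSpec =
      τ.hW.fromSpec ≫ (i ≫ a) ≫ sP :=
    IsAffineOpen.SpecMap_appLE_fromSpec ((i ≫ a) ≫ sP) hS₀ τ.hW hle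
  have e4 : Spec.map (CommRingCat.ofHom
      ((τ.pHom.comp (fpSnd τ.qHom τ.pHom)).comp (φ hF hP sP τ hS₀ hτ))) =
      Spec.map (((i ≫ a) ≫ sP).appLE S₀ τ.W hle) := by
    rw [← cancel_mono hS₀.fromSpec, e2, e3]
  have e5 := Spec.map_injective e4
  rw [← e5]
  rfl

end charts

end Groth.Agent.Lib.Helper79.Ferrand
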