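import Groth.Agent.Lib.Helper79.FerrandProps2
import Groth.Agent.Lib.Helper79.FerrandCart
import Mathlib.AlgebraicGeometry.Morphisms.Finite
import Mathlib.AlgebraicGeometry.Morphisms.Integral

/-!
# Ferrand pinching: finiteness / integrality of `X ⟶ P`, and transport to an arbitrary pushout
-/

set_option autoImplicit false
universe u

open AlgebraicGeometry CategoryTheory Limits TopologicalSpace Opposite

namespace Groth.Agent.Lib.Helper79.FerrandRing

variable {B A' A : Type*} [CommRing B] [CommRing A'] [CommRing A] (q : B →+* A) (p : A' →+* A)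

/-- if `q : B → A` is integral and `p : A' → A` is surjective, then `B ×_A A' → A'` is integral. -/
theorem fpSnd_isIntegral (hp : Function.Surjective p) (hq : q.IsIntegral) :
    (fpSnd q p).IsIntegral := by
  intro a'
  by_cases hA : (1 : A) = 0
  · -- `A` is trivial, `fpSnd` is surjective
    have h0 : ∀ x : A, x = 0 := fun x => by rw [← mul_one x, hA, mul_zero]
    have : a' = fpSnd q p (fpMk q p 0 a' (by rw [h0 (q 0), h0 (p a')])) := rfl
    rw [this]
    exact RingHom.isIntegralElem_map _
  obtain ⟨f, hf, hfa⟩ := hq (p a')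
  have hsurj : Function.Surjective (fpFst q p) := fpFst_surjective q p hp
  obtain ⟨g, hg, hgdeg, hgmonic⟩ :=
    Polynomial.lifts_and_natDegree_eq_and_monic (p := f)
      (Polynomial.mem_lifts_of_surjective hsurj f) hf
  have h1 : p (Polynomial.eval₂ (fpSnd q p) a' g) = 0 := by
    rw [Polynomial.hom_eval₂]
    have h2 : p.comp (fpSnd q p) = q.comp (fpFst q p) := by
      ext c
      exact (fp_comm q p c).symm
    rw [h2, ← Polynomial.eval₂_map, hg]
    exact hfa
  set y := Polynomial.eval₂ (fpSnd q p) a' g with hy
  let c₀ : fp q p := fpMk q p 0 y (by rw [map_zero, h1])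
  have hd : g.natDegree ≠ 0 := by
    intro hd
    have hg1 : g = 1 := hgmonic.natDegree_eq_zero.mp hd
    have hy1 : y = 1 := by rw [hy, hg1, Polynomial.eval₂_one]
    exact hA (by rw [← map_one p, ← hy1, h1])
  refine ⟨g - Polynomial.C c₀, ?_, ?_⟩
  · apply Polynomial.Monic.sub_of_left hgmonic
    exact lt_of_le_of_lt Polynomial.degree_C_le
      (Polynomial.natDegree_pos_iff_degree_pos.mp (Nat.pos_of_ne_zero hd))
  · rw [Polynomial.eval₂_sub, Polynomial.eval₂_C, ← hy]
    change y - y = 0
    exact sub_self y

/-- if `q : B → A` is finite and `p : A' → A` is surjective, then `B ×_A A' → A'` is finite. -/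
theorem fpSnd_finite (hp : Function.Surjective p) (hq : q.Finite) :
    (fpSnd q p).Finite := by
  classical
  letI := q.toAlgebra
  letI := (fpSnd q p).toAlgebra
  have hfin : Module.Finite B A := hq
  obtain ⟨s, hs⟩ := hfin.fg_top
  -- lift the generators
  choose l hl using hp
  change Module.Finite (fp q p) A'
  refine ⟨⟨insert 1 (s.image l), ?_⟩⟩
  rw [eq_top_iff]
  rintro a' -
  -- write `p a'` as a combination of the generators
  have h1 : p a' ∈ Submodule.span B (s : Set A) := by rw [hs]; trivial
  -- the set of `x : A` such that any lift lies in the span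
  have key : ∀ x ∈ Submodule.span B (s : Set A), ∀ a' : A', p a' = x →
      a' ∈ Submodule.span (fp q p) (↑(insert 1 (s.image l)) : Set A') := by
    intro x hx
    induction hx using Submodule.span_induction with
    | mem x hx =>
      intro a' ha'
      -- `a' - l x ∈ ker p`
      have h2 : p (a' - l x) = 0 := by rw [map_sub, ha', hl, sub_self]
      have h3 : a' = (fpMk q p 0 (a' - l x) (by rw [map_zero, h2])) • (1 : A') + l x := by
        change a' = (a' - l x) * 1 + l x
        ring
      rw [h3]
      refine Submodule.add_mem _ (Submodule.smul_mem _ _ (Submodule.subset_span ?_))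
        (Submodule.subset_span ?_)
      · simp
      · simp only [Finset.coe_insert, Finset.coe_image, Set.mem_insert_iff, Set.mem_image,
          Finset.mem_coe]
        exact Or.inr ⟨x, hx, rfl⟩
    | zero =>
      intro a' ha'
      have h3 : a' = (fpMk q p 0 a' (by rw [map_zero, ha'])) • (1 : A') := by
        change a' = a' * 1
        ring
      rw [h3]
      refine Submodule.smul_mem _ _ (Submodule.subset_span ?_)
      simp
    | add x y _ _ ihx ihy =>
      intro a' ha'
      have h3 : a' = l x + (a' - l x) := by ring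
      rw [h3]
      refine Submodule.add_mem _ (ihx _ (hl x)) (ihy _ ?_)
      rw [map_sub, ha', hl]; ring
    | smul b x _ ihx =>
      intro a' ha'
      -- `a' - (b, l (q b)) • l x ∈ ker p`
      have h2 : p (a' - l (q b) * l x) = 0 := by
        rw [map_sub, map_mul, ha', hl, hl]
        change b • x - q b * x = 0
        rw [Algebra.smul_def]
        exact sub_self _
      have h3 : a' = (fpMk q p 0 (a' - l (q b) * l x) (by rw [map_zero, h2])) • (1 : A') +
          (fpMk q p b (l (q b)) (hl _).symm) • l x := by
        change a' = (a' - l (q b) * l x) * 1 + l (q b) * l x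
        ring
      rw [h3]
      refine Submodule.add_mem _ (Submodule.smul_mem _ _ (Submodule.subset_span ?_))
        (Submodule.smul_mem _ _ (ihx _ (hl x)))
      simp
  exact key _ h1 a' rfl

end Groth.Agent.Lib.Helper79.FerrandRing

namespace Groth.Agent.Lib.Helper79.Ferrand

open Groth.Agent.Lib.Helper79.FerrandRing

variable {X Y Z : Scheme.{u}} {i : Z ⟶ X} {j : Z ⟶ Y} [IsClosedImmersion i]

theorem GoodPair.qHom_eq (τ : GoodPair i j) :
    τ.qHom = (Z.presheaf.map (eqToHom τ.eq).op).hom.comp (j.app τ.V).hom := rfl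

theorem GoodPair.qHom_finite [IsFinite j] (τ : GoodPair i j) : τ.qHom.Finite := by
  rw [τ.qHom_eq]
  refine RingHom.Finite.comp (RingHom.Finite.of_surjective _ ?_) (j.finite_app τ.V τ.hV)
  exact (ConcreteCategory.bijective_of_isIso (Z.presheaf.map (eqToHom τ.eq).op)).2

theorem GoodPair.qHom_isIntegral [IsIntegralHom j] (τ : GoodPair i j) : τ.qHom.IsIntegral := by
  rw [τ.qHom_eq]
  refine RingHom.IsIntegral.trans _ _ (j.isIntegral_app τ.V τ.hV)
    (RingHom.isIntegral_of_surjective _ ?_)
  exact (ConcreteCategory.bijective_of_isIso (Z.presheaf.map (eqToHom τ.eq).op)).2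

variable (hF : Cond i j)

/-- if `j` is finite, so is `X ⟶ P`. -/
theorem isFinite_a [IsFinite j] : IsFinite (a hF) := by
  rw [IsZariskiLocalAtTarget.iff_of_openCover (P := @IsFinite) (coverP (i := i) (j := j))]
  intro (τ : GoodPair i j)
  have h := (isPullback_a hF τ).flip
  have e : pullback.snd (a hF) (ι τ) = h.isoPullback.inv ≫ τ.α := by
    rw [Iso.eq_inv_comp]
    exact h.isoPullback_hom_snd
  change IsFinite (pullback.snd (a hF) (ι τ))
  rw [e]
  have : IsFinite τ.α :=
    (IsFinite.SpecMap_iff _).mpr (fpSnd_finite _ _ τ.pHom_surjective τ.qHom_finite)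
  infer_instance

/-- if `j` is integral, so is `X ⟶ P`. -/
theorem isIntegralHom_a [IsIntegralHom j] : IsIntegralHom (a hF) := by
  rw [IsZariskiLocalAtTarget.iff_of_openCover (P := @IsIntegralHom) (coverP (i := i) (j := j))]
  intro (τ : GoodPair i j)
  have h := (isPullback_a hF τ).flip
  have e : pullback.snd (a hF) (ι τ) = h.isoPullback.inv ≫ τ.α := by
    rw [Iso.eq_inv_comp]
    exact h.isoPullback_hom_snd
  change IsIntegralHom (pullback.snd (a hF) (ι τ))
  rw [e]
  have : IsIntegralHom τ.α :=
    IsIntegralHom.SpecMap_iff.mpr (fpSnd_isIntegral _ _ τ.pHom_surjective τ.qHom_isIntegral)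
  infer_instance

section transport

variable {P' : Scheme.{u}} {a' : X ⟶ P'} {b' : Y ⟶ P'} (hP : IsPushout i j a' b')

/-- the comparison with an arbitrary pushout. -/
noncomputable def isoP : P i j ≅ P' := (isPushout hF).isoIsPushout _ _ hP

@[reassoc (attr := simp)]
theorem a_isoP : a hF ≫ (isoP hF hP).hom = a' := IsPushout.inl_isoIsPushout_hom _ _ (isPushout hF) hP

@[reassoc (attr := simp)]
theorem b_isoP : b hF ≫ (isoP hF hP).hom = b' := IsPushout.inr_isoIsPushout_hom _ _ (isPushout hF) hP

include hF hP

theorem isPullback_of_isPushout : IsPullback i j a' b' :=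
  (isPullback hF).of_iso (Iso.refl _) (Iso.refl _) (Iso.refl _) (isoP hF hP)
    (by simp) (by simp) (by simp) (by simp)

theorem isClosedImmersion_of_isPushout : IsClosedImmersion b' := by
  rw [← b_isoP hF hP]
  infer_instance

theorem isClosedImmersion_inl_of_isPushout [IsClosedImmersion j] : IsClosedImmersion a' := by
  rw [← a_isoP hF hP]
  have := isClosedImmersion_a hF
  infer_instance

theorem isFinite_of_isPushout [IsFinite j] : IsFinite a' := by
  rw [← a_isoP hF hP]
  have := isFinite_a hF
  infer_instance

theorem isIntegralHom_of_isPushout [IsIntegralHom j] : IsIntegralHom a' := by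
  rw [← a_isoP hF hP]
  have := isIntegralHom_a hF
  infer_instance

theorem jointlySurj_of_isPushout (p : P') : (∃ y : Y, b' y = p) ∨ (∃ x : X, a' x = p) := by
  rcases jointlySurj hF ((isoP hF hP).inv p) with ⟨y, hy⟩ | ⟨x, hx⟩
  · left
    refine ⟨y, ?_⟩
    rw [← b_isoP hF hP, Scheme.Hom.comp_apply, hy, ← Scheme.Hom.comp_apply, Iso.inv_hom_id]
    rfl
  · right
    refine ⟨x, ?_⟩
    rw [← a_isoP hF hP, Scheme.Hom.comp_apply, hx, ← Scheme.Hom.comp_apply, Iso.inv_hom_id]
    rfl

end transport

end Groth.Agent.Lib.Helper79.Ferrand
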