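import Groth.Agent.Lib.Helper79.FerrandFinite
import Groth.Agent.S15706

/-!
# Ferrand pinching along two closed immersions: finite sets of points lie in affine charts
-/

set_option autoImplicit false
universe u

open AlgebraicGeometry CategoryTheory Limits TopologicalSpace Opposite

namespace Groth.Agent.Lib.Helper79.Ferrand

/-- coset prime avoidance (Davis), no incomparability hypothesis -/
theorem coset_avoid {R : Type u} [CommRing R] (s : Finset (Ideal R))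
    (hprime : ∀ P ∈ s, P.IsPrime) (I : Ideal R) (x : R) (hx : ∀ P ∈ s, I ≤ P → x ∉ P) :
    ∃ i ∈ I, ∀ P ∈ s, x + i ∉ P := by
  classical
  let s' : Finset (Ideal R) := s.filter (fun P => Maximal (· ∈ s) P)
  have hs' : ∀ P, P ∈ s' ↔ P ∈ s ∧ Maximal (· ∈ s) P := fun P => Finset.mem_filter
  obtain ⟨i, hiI, hi⟩ := Groth.Agent.S15706.coset_avoid s'
    (fun P hP => hprime P ((hs' P).mp hP).1)
    (fun P hP Q hQ hPQ => le_antisymm hPQ (((hs' P).mp hP).2.2 ((hs' Q).mp hQ).1 hPQ))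
    I x (fun P hP => hx P ((hs' P).mp hP).1)
  refine ⟨i, hiI, fun P hP hmem => ?_⟩
  obtain ⟨Q, hPQ, hQ⟩ := s.exists_le_maximal hP
  exact hi Q ((hs' Q).mpr ⟨hQ.1, hQ⟩) (hPQ hmem)

section affineOpen

variable {S : Scheme.{u}} {U : S.Opens} (hU : IsAffineOpen U)

theorem mem_basicOpen_iff_primeIdealOf (x : S) (hx : x ∈ U) (s : Γ(S, U)) :
    x ∈ S.basicOpen s ↔ s ∉ (hU.primeIdealOf ⟨x, hx⟩).asIdeal := by
  rw [← mem_basicOpen_fromSpec hU, hU.fromSpec_primeIdealOf]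

include hU in
/-- geometric coset avoidance on an affine open. -/
theorem exists_add_mem_basicOpen (E : Set S) (hE : E.Finite) (hEU : E ⊆ (U : Set S))
    (K : Ideal Γ(S, U)) (h₀ : Γ(S, U))
    (hK : ∀ x ∈ E, (∀ k ∈ K, x ∉ S.basicOpen k) → x ∈ S.basicOpen h₀) :
    ∃ k ∈ K, E ⊆ (S.basicOpen (h₀ + k) : Set S) := by
  classical
  let pr : S → Ideal Γ(S, U) := fun x =>
    if hx : x ∈ U then (hU.primeIdealOf ⟨x, hx⟩).asIdeal else ⊥
  have hpr : ∀ x (hx : x ∈ U), pr x = (hU.primeIdealOf ⟨x, hx⟩).asIdeal := fun x hx => dif_pos hx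
  obtain ⟨k, hk, hk'⟩ := coset_avoid (hE.toFinset.image pr) (by
      intro Q hQ
      obtain ⟨x, hx, rfl⟩ := Finset.mem_image.mp hQ
      rw [hpr x (hEU (hE.mem_toFinset.mp hx))]
      exact (hU.primeIdealOf _).isPrime) K h₀ (by
      intro Q hQ hKQ
      obtain ⟨x, hx, rfl⟩ := Finset.mem_image.mp hQ
      have hxE := hE.mem_toFinset.mp hx
      rw [hpr x (hEU hxE)] at hKQ ⊢
      rw [← mem_basicOpen_iff_primeIdealOf hU x (hEU hxE)]
      apply hK x hxE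
      intro k hk
      rw [mem_basicOpen_iff_primeIdealOf hU x (hEU hxE), not_not]
      exact hKQ hk)
  refine ⟨k, hk, fun x hxE => ?_⟩
  rw [SetLike.mem_coe, mem_basicOpen_iff_primeIdealOf hU x (hEU hxE), ← hpr x (hEU hxE)]
  exact hk' _ (Finset.mem_image.mpr ⟨x, hE.mem_toFinset.mpr hxE, rfl⟩)

include hU in
/-- a finite set of points of an affine open has a basic open neighbourhood inside any given
open neighbourhood. -/
theorem exists_basicOpen_le (E : Set S) (hE : E.Finite) (hEU : E ⊆ (U : Set S)) (O : S.Opens)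
    (hEO : E ⊆ (O : Set S)) :
    ∃ f : Γ(S, U), E ⊆ (S.basicOpen f : Set S) ∧ S.basicOpen f ≤ O := by
  let T : Set (PrimeSpectrum Γ(S, U)) := hU.fromSpec ⁻¹' (O : Set S)ᶜ
  have hT : IsClosed T := (O.isOpen.isClosed_compl).preimage hU.fromSpec.continuous
  let K : Ideal Γ(S, U) := PrimeSpectrum.vanishingIdeal T
  obtain ⟨k, hk, hkE⟩ := exists_add_mem_basicOpen hU E hE hEU K 0 (by
    intro x hxE hx
    exfalso
    have h1 : hU.primeIdealOf ⟨x, hEU hxE⟩ ∈ PrimeSpectrum.zeroLocus (K : Set Γ(S, U)) := by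
      intro k hk
      have := hx k hk
      rw [mem_basicOpen_iff_primeIdealOf hU x (hEU hxE), not_not] at this
      exact this
    rw [PrimeSpectrum.zeroLocus_vanishingIdeal_eq_closure, hT.closure_eq] at h1
    have h2 : hU.fromSpec (hU.primeIdealOf ⟨x, hEU hxE⟩) ∉ (O : Set S) := h1
    rw [hU.fromSpec_primeIdealOf] at h2
    exact h2 (hEO hxE))
  rw [zero_add] at hkE
  refine ⟨k, hkE, fun s hs => ?_⟩
  have hsU : s ∈ U := S.basicOpen_le k hs
  by_contra hsO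
  rw [mem_basicOpen_iff_primeIdealOf hU s hsU] at hs
  apply hs
  have : hU.primeIdealOf ⟨s, hsU⟩ ∈ T := by
    change hU.fromSpec (hU.primeIdealOf ⟨s, hsU⟩) ∉ (O : Set S)
    rw [hU.fromSpec_primeIdealOf]
    exact hsO
  exact (PrimeSpectrum.mem_vanishingIdeal T k).mp hk _ this

end affineOpen

variable {X Y Z : Scheme.{u}} {i : Z ⟶ X} {j : Z ⟶ Y}

/-- shrink an affine neighbourhood of a finite set so that its trace on `Z` lies in `W`. -/
theorem exists_basicOpen_preimage_le [IsClosedImmersion i] (EX : Set X) (hEX : EX.Finite)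
    (U₁ : X.Opens) (hU₁ : IsAffineOpen U₁) (h₁ : EX ⊆ (U₁ : Set X))
    (W : Z.Opens) (hW : ∀ z, i z ∈ EX → z ∈ W) :
    ∃ f : Γ(X, U₁), EX ⊆ (X.basicOpen f : Set X) ∧ i ⁻¹ᵁ X.basicOpen f ≤ W := by
  let O : X.Opens := ⟨(i '' (W : Set Z)ᶜ)ᶜ,
    (i.isClosedEmbedding.isClosedMap _ W.isOpen.isClosed_compl).isOpen_compl⟩
  have hEO : EX ⊆ (O : Set X) := by
    rintro x hx ⟨z, hz, rfl⟩
    exact hz (hW z hx)
  obtain ⟨f, hf1, hf2⟩ := exists_basicOpen_le hU₁ EX hEX h₁ O hEO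
  refine ⟨f, hf1, fun z hz => ?_⟩
  by_contra hzW
  exact hf2 hz ⟨z, hzW, rfl⟩

/-- for two closed immersions, compatible finite sets of points contained in affine opens are
contained in a good pair. -/
theorem exists_goodPair_of_finite [IsClosedImmersion i] [IsClosedImmersion j] (EX : Set X)
    (EY : Set Y) (hEX : EX.Finite) (hEY : EY.Finite) (hc : ∀ z : Z, i z ∈ EX ↔ j z ∈ EY)
    (U₁ : X.Opens) (hU₁ : IsAffineOpen U₁) (h₁ : EX ⊆ (U₁ : Set X))
    (U₂ : Y.Opens) (hU₂ : IsAffineOpen U₂) (h₂ : EY ⊆ (U₂ : Set Y)) :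
    ∃ τ : GoodPair i j, EX ⊆ (τ.U : Set X) ∧ EY ⊆ (τ.V : Set Y) := by
  -- Step A
  obtain ⟨f, hf1, hf2⟩ := exists_basicOpen_preimage_le (i := i) EX hEX U₁ hU₁ h₁ (j ⁻¹ᵁ U₂)
    (fun z hz => h₂ ((hc z).mp hz))
  have hU₁' : IsAffineOpen (X.basicOpen f) := hU₁.basicOpen f
  -- Step B
  obtain ⟨g, hg1, hg2⟩ := exists_basicOpen_preimage_le (i := j) EY hEY U₂ hU₂ h₂
    (i ⁻¹ᵁ X.basicOpen f) (fun z hz => hf1 ((hc z).mpr hz))
  have hU₂' : IsAffineOpen (Y.basicOpen g) := hU₂.basicOpen g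
  -- Step C
  have hW₁' : IsAffineOpen (i ⁻¹ᵁ X.basicOpen f) := hU₁'.preimage i
  let g' : Γ(Z, i ⁻¹ᵁ X.basicOpen f) := j.appLE U₂ (i ⁻¹ᵁ X.basicOpen f) hf2 g
  have hg' : Z.basicOpen g' = j ⁻¹ᵁ Y.basicOpen g := by
    rw [Scheme.basicOpen_appLE]
    exact inf_eq_right.mpr hg2
  obtain ⟨h₀, hh₀⟩ := i.app_surjective (X.basicOpen f) hU₁' g'
  let K := RingHom.ker (i.app (X.basicOpen f)).hom
  obtain ⟨k, hk, hkE⟩ := exists_add_mem_basicOpen hU₁' EX hEX hf1 K h₀ (by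
    intro x hxE hx
    have hxr : x ∈ Set.range i := by
      by_contra hxr
      let O : X.Opens := ⟨(Set.range i)ᶜ, i.isClosedEmbedding.isClosed_range.isOpen_compl⟩
      obtain ⟨k', hk'1, hk'2⟩ := exists_basicOpen_le hU₁' {x} (Set.finite_singleton x)
        (by simpa using hf1 hxE) O (by simpa [O] using hxr)
      have h3 : Z.basicOpen (i.app (X.basicOpen f) k') = ⊥ := by
        rw [← Scheme.preimage_basicOpen, eq_bot_iff]
        intro z hz
        exact (hk'2 hz ⟨z, rfl⟩).elim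
      obtain ⟨n, hn⟩ := isNilpotent_of_basicOpen_eq_bot hW₁' _ h3
      have hkn : k' ^ n ∈ K := by
        rw [RingHom.mem_ker, map_pow]
        exact hn
      apply hx _ hkn
      rw [mem_basicOpen_iff_primeIdealOf hU₁' x (hf1 hxE)]
      intro hmem
      have := (hU₁'.primeIdealOf ⟨x, hf1 hxE⟩).isPrime.mem_of_pow_mem n hmem
      have hx' : x ∈ X.basicOpen k' := hk'1 (Set.mem_singleton x)
      rw [mem_basicOpen_iff_primeIdealOf hU₁' x (hf1 hxE)] at hx'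
      exact hx' this
    obtain ⟨z, rfl⟩ := hxr
    have hz : z ∈ j ⁻¹ᵁ Y.basicOpen g := hg1 ((hc z).mp hxE)
    rw [← hg', ← hh₀, ← Scheme.preimage_basicOpen] at hz
    exact hz)
  have hik : i.app (X.basicOpen f) (h₀ + k) = g' := by
    rw [map_add, hh₀, show (i.app (X.basicOpen f)) k = 0 from hk, add_zero]
  refine ⟨⟨X.basicOpen (h₀ + k), Y.basicOpen g, hU₁'.basicOpen _, hU₂', ?_⟩, hkE, hg1⟩
  rw [Scheme.preimage_basicOpen, hik, hg']

/-- two closed immersions always satisfy the gluing condition. -/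
theorem cond_of_isClosedImmersion [IsClosedImmersion i] [IsClosedImmersion j] : Cond i j := by
  intro y
  by_cases hy : y ∈ Set.range j
  · obtain ⟨z, rfl⟩ := hy
    obtain ⟨_, ⟨U₀, hU₀, rfl⟩, hzU₀, -⟩ :=
      X.isBasis_affineOpens.exists_subset_of_mem_open (Set.mem_univ (i z)) isOpen_univ
    obtain ⟨_, ⟨V₀, hV₀, rfl⟩, hzV₀, -⟩ :=
      Y.isBasis_affineOpens.exists_subset_of_mem_open (Set.mem_univ (j z)) isOpen_univ
    have hW₀ : IsAffineOpen (i ⁻¹ᵁ U₀) := IsAffineOpen.preimage hU₀ i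
    have hW₁ : IsAffineOpen (j ⁻¹ᵁ V₀) := IsAffineOpen.preimage hV₀ j
    obtain ⟨f₀, f₁, hff, hzf⟩ := exists_basicOpen_le_affine_inter hW₀ hW₁ z ⟨hzU₀, hzV₀⟩
    obtain ⟨h₀, hh₀⟩ := i.app_surjective U₀ hU₀ f₀
    obtain ⟨g₁, hg₁⟩ := j.app_surjective V₀ hV₀ f₁
    refine ⟨⟨X.basicOpen h₀, Y.basicOpen g₁, IsAffineOpen.basicOpen hU₀ _,
      IsAffineOpen.basicOpen hV₀ _, ?_⟩, ?_⟩
    · rw [Scheme.preimage_basicOpen, Scheme.preimage_basicOpen, hh₀, hg₁, hff]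
    · change z ∈ j ⁻¹ᵁ (Y.basicOpen g₁)
      rw [Scheme.preimage_basicOpen, hg₁, ← hff]
      exact hzf
  · let O : Y.Opens := ⟨(Set.range j)ᶜ, j.isClosedEmbedding.isClosed_range.isOpen_compl⟩
    obtain ⟨_, ⟨V, hV, rfl⟩, hyV, hVO⟩ :=
      Y.isBasis_affineOpens.exists_subset_of_mem_open (show y ∈ (O : Set Y) from hy) O.isOpen
    refine ⟨⟨⊥, V, isAffineOpen_bot X, hV, ?_⟩, hyV⟩
    have h1 : i ⁻¹ᵁ (⊥ : X.Opens) = ⊥ := rfl
    rw [h1, eq_comm, eq_bot_iff]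
    intro z hz
    exact (hVO hz ⟨z, rfl⟩).elim

section main

variable [IsClosedImmersion i] [IsClosedImmersion j] (hF : Cond i j)
  {P' : Scheme.{u}} {a' : X ⟶ P'} {b' : Y ⟶ P'} (hP : IsPushout i j a' b')

include hF hP in
/-- in a pushout along two closed immersions, a finite set of points whose traces lie in
affine opens lies in an affine open. -/
theorem exists_isAffineOpen_of_finite (E : Set P') (hE : E.Finite)
    (U₁ : X.Opens) (hU₁ : IsAffineOpen U₁) (h₁ : a' ⁻¹' E ⊆ (U₁ : Set X))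
    (U₂ : Y.Opens) (hU₂ : IsAffineOpen U₂) (h₂ : b' ⁻¹' E ⊆ (U₂ : Set Y)) :
    ∃ U : P'.Opens, IsAffineOpen U ∧ E ⊆ (U : Set P') := by
  have ha' : IsClosedImmersion a' := isClosedImmersion_inl_of_isPushout hF hP
  have hb' : IsClosedImmersion b' := isClosedImmersion_of_isPushout hF hP
  have hEX : (a' ⁻¹' E).Finite := hE.preimage a'.isClosedEmbedding.injective.injOn
  have hEY : (b' ⁻¹' E).Finite := hE.preimage b'.isClosedEmbedding.injective.injOn
  obtain ⟨τ, hτ1, hτ2⟩ := exists_goodPair_of_finite (i := i) (j := j) (a' ⁻¹' E) (b' ⁻¹' E)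
    hEX hEY (by
      intro z
      change a' (i z) ∈ E ↔ b' (j z) ∈ E
      rw [← Scheme.Hom.comp_apply, ← Scheme.Hom.comp_apply, hP.w]) U₁ hU₁ h₁ U₂ hU₂ h₂
  have : IsAffine ((F i j).obj τ) := inferInstanceAs (IsAffine (Spec (CommRingCat.of τ.C)))
  refine ⟨(ι τ ≫ (isoP hF hP).hom).opensRange, isAffineOpen_opensRange _, ?_⟩
  intro e he
  rcases jointlySurj_of_isPushout hF hP e with ⟨y, rfl⟩ | ⟨x, rfl⟩
  · have hy : y ∈ b hF ⁻¹ᵁ (ι τ).opensRange := by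
      rw [b_preimage]
      exact hτ2 he
    obtain ⟨w, hw⟩ := hy
    refine ⟨w, ?_⟩
    rw [Scheme.Hom.comp_apply, hw, ← Scheme.Hom.comp_apply, b_isoP]
  · have hx : x ∈ a hF ⁻¹ᵁ (ι τ).opensRange := by
      rw [a_preimage]
      exact hτ1 he
    obtain ⟨w, hw⟩ := hx
    refine ⟨w, ?_⟩
    rw [Scheme.Hom.comp_apply, hw, ← Scheme.Hom.comp_apply, a_isoP]

end main

end Groth.Agent.Lib.Helper79.Ferrand
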