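import Groth.Agent.Lib.Helper79.FerrandTorBC

/-!
# Ferrand pinching: flatness of the pushout over a base
-/

set_option autoImplicit false
universe u

open AlgebraicGeometry CategoryTheory Limits TopologicalSpace Opposite TensorProduct

namespace Groth.Agent.Lib.Helper79.Ferrand

open Groth.Agent.Lib.Helper79.FerrandRing

variable {X Y Z : Scheme.{u}} {i : Z ⟶ X} {j : Z ⟶ Y} [IsClosedImmersion i] (hF : Cond i j)
  {P S : Scheme.{u}} {a : X ⟶ P} {b : Y ⟶ P} (hP : IsPushout i j a b) (sP : P ⟶ S)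

include hF hP in
/-- a property local at the source can be checked on small charts. -/
theorem of_small_χ (Q : MorphismProperty Scheme.{u}) [IsZariskiLocalAtSource Q]
    (H : ∀ (τ : GoodPair i j) (S₀ : S.Opens) (_ : IsAffineOpen S₀)
      (_ : Set.range (χ hF hP τ ≫ sP) ⊆ (S₀ : Set S)), Q (χ hF hP τ ≫ sP)) : Q sP := by
  let I := {τ : GoodPair i j // ∃ S₀ : S.Opens, IsAffineOpen S₀ ∧
    Set.range (χ hF hP τ ≫ sP) ⊆ (S₀ : Set S)}
  apply IsZariskiLocalAtSource.of_iSup_eq_top (P := Q)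
    (fun τ : I => (χ hF hP τ.1).opensRange)
  · rw [eq_top_iff]
    rintro x -
    obtain ⟨τ, S₀, hS₀, hx, hτ⟩ := exists_small_χ hF hP sP x
    exact Opens.mem_iSup.mpr ⟨⟨τ, S₀, hS₀, hτ⟩, hx⟩
  · rintro ⟨τ, S₀, hS₀, hτ⟩
    have := H τ S₀ hS₀ hτ
    change Q ((χ hF hP τ).opensRange.ι ≫ sP)
    rw [← IsOpenImmersion.isoOfRangeEq_inv_fac (χ hF hP τ) (Scheme.Opens.ι _)
      (congr_arg Opens.carrier (χ hF hP τ).opensRange.opensRange_ι.symm), Category.assoc,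
      MorphismProperty.cancel_left_of_respectsIso (P := Q)]
    exact this

section flat

attribute [local instance] GoodPair.algRX GoodPair.algRY GoodPair.algRZ

variable (τ : GoodPair i j) {S₀ : S.Opens} (hS₀ : IsAffineOpen S₀)
  (hτ : Set.range (χ hF hP τ ≫ sP) ⊆ (S₀ : Set S))

theorem flat_RX [Flat (a ≫ sP)] :
    ((fpSnd τ.qHom τ.pHom).comp (φ hF hP sP τ hS₀ hτ)).Flat := by
  have e2 : Spec.map (CommRingCat.ofHom
      ((fpSnd τ.qHom τ.pHom).comp (φ hF hP sP τ hS₀ hτ))) ≫ hS₀.fromSpec =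
      τ.hU.fromSpec ≫ a ≫ sP := by
    have e1 : Spec.map (CommRingCat.ofHom
        ((fpSnd τ.qHom τ.pHom).comp (φ hF hP sP τ hS₀ hτ))) =
        αS τ ≫ Spec.map (CommRingCat.ofHom (φ hF hP sP τ hS₀ hτ)) := by
      rw [← Spec.map_comp]
      rfl
    rw [e1, Category.assoc, hφ, ← Category.assoc (αS τ), ← fromSpec_a' hF hP, Category.assoc]
  have h1 : Flat (Spec.map (CommRingCat.ofHom
      ((fpSnd τ.qHom τ.pHom).comp (φ hF hP sP τ hS₀ hτ))) ≫ hS₀.fromSpec) := by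
    rw [e2]; infer_instance
  have h2 := MorphismProperty.of_postcomp (W := @Flat)
    (W' := MorphismProperty.monomorphisms Scheme) _ hS₀.fromSpec
    (inferInstanceAs (Mono hS₀.fromSpec)) h1
  rw [Flat.SpecMap_iff] at h2
  exact h2

theorem flat_RY [Flat (b ≫ sP)] :
    ((fpFst τ.qHom τ.pHom).comp (φ hF hP sP τ hS₀ hτ)).Flat := by
  have e2 : Spec.map (CommRingCat.ofHom
      ((fpFst τ.qHom τ.pHom).comp (φ hF hP sP τ hS₀ hτ))) ≫ hS₀.fromSpec =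
      τ.hV.fromSpec ≫ b ≫ sP := by
    have e1 : Spec.map (CommRingCat.ofHom
        ((fpFst τ.qHom τ.pHom).comp (φ hF hP sP τ hS₀ hτ))) =
        βS τ ≫ Spec.map (CommRingCat.ofHom (φ hF hP sP τ hS₀ hτ)) := by
      rw [← Spec.map_comp]
      rfl
    rw [e1, Category.assoc, hφ, ← Category.assoc (βS τ), ← fromSpec_b' hF hP, Category.assoc]
  have h1 : Flat (Spec.map (CommRingCat.ofHom
      ((fpFst τ.qHom τ.pHom).comp (φ hF hP sP τ hS₀ hτ))) ≫ hS₀.fromSpec) := by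
    rw [e2]; infer_instance
  have h2 := MorphismProperty.of_postcomp (W := @Flat)
    (W' := MorphismProperty.monomorphisms Scheme) _ hS₀.fromSpec
    (inferInstanceAs (Mono hS₀.fromSpec)) h1
  rw [Flat.SpecMap_iff] at h2
  exact h2

theorem flat_RZ [Flat ((i ≫ a) ≫ sP)] :
    ((τ.pHom.comp (fpSnd τ.qHom τ.pHom)).comp (φ hF hP sP τ hS₀ hτ)).Flat := by
  have e1 : Spec.map (CommRingCat.ofHom
      ((τ.pHom.comp (fpSnd τ.qHom τ.pHom)).comp (φ hF hP sP τ hS₀ hτ))) =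
      τ.iSpec ≫ αS τ ≫ Spec.map (CommRingCat.ofHom (φ hF hP sP τ hS₀ hτ)) := by
    rw [← Spec.map_comp, GoodPair.iSpec, ← Spec.map_comp]
    rfl
  have e2 : Spec.map (CommRingCat.ofHom
      ((τ.pHom.comp (fpSnd τ.qHom τ.pHom)).comp (φ hF hP sP τ hS₀ hτ))) ≫ hS₀.fromSpec =
      τ.hW.fromSpec ≫ (i ≫ a) ≫ sP := by
    rw [e1, Category.assoc, Category.assoc, hφ, ← Category.assoc (αS τ),
      ← fromSpec_a' hF hP, Category.assoc, reassoc_of% τ.iSpec_fromSpec, Category.assoc]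
  have h1 : Flat (Spec.map (CommRingCat.ofHom
      ((τ.pHom.comp (fpSnd τ.qHom τ.pHom)).comp (φ hF hP sP τ hS₀ hτ))) ≫ hS₀.fromSpec) := by
    rw [e2]; infer_instance
  have h2 := MorphismProperty.of_postcomp (W := @Flat)
    (W' := MorphismProperty.monomorphisms Scheme) _ hS₀.fromSpec
    (inferInstanceAs (Mono hS₀.fromSpec)) h1
  rw [Flat.SpecMap_iff] at h2
  exact h2

theorem flat_φ [Flat (a ≫ sP)] [Flat (b ≫ sP)] [Flat ((i ≫ a) ≫ sP)] :
    (φ hF hP sP τ hS₀ hτ).Flat := by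
  letI : Algebra Γ(S, S₀) τ.C := (φ hF hP sP τ hS₀ hτ).toAlgebra
  have h1 : Module.Flat Γ(S, S₀) Γ(X, τ.U) := flat_RX hF hP sP τ hS₀ hτ
  have h2 : Module.Flat Γ(S, S₀) Γ(Y, τ.V) := flat_RY hF hP sP τ hS₀ hτ
  have h3 : Module.Flat Γ(S, S₀) Γ(Z, τ.W) := flat_RZ hF hP sP τ hS₀ hτ
  exact Groth.Agent.Lib.Helper74.FibreSq.sq_flat (τ.fstₐ Γ(S, S₀)).toLinearMap
    (τ.sndₐ Γ(S, S₀)).toLinearMap (τ.qₐ Γ(S, S₀)).toLinearMap (τ.pₐ Γ(S, S₀)).toLinearMap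
    (fun b a' hba => ⟨fpMk τ.qHom τ.pHom b a' hba, ⟨rfl, rfl⟩,
      fun c hc => fp_ext τ.qHom τ.pHom hc.1 hc.2⟩)
    (fun c => fp_comm τ.qHom τ.pHom c) τ.pHom_surjective

include hF hP in
/-- the pinching of flat schemes along a flat scheme is flat. -/
theorem flat_of_isPushout [Flat (a ≫ sP)] [Flat (b ≫ sP)] [Flat ((i ≫ a) ≫ sP)] : Flat sP := by
  apply of_small_χ hF hP sP @Flat
  intro τ S₀ hS₀ hτ
  rw [← hφ hF hP sP τ hS₀ hτ]
  have : Flat (Spec.map (CommRingCat.ofHom (φ hF hP sP τ hS₀ hτ))) :=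
    Flat.SpecMap_iff.mpr (flat_φ hF hP sP τ hS₀ hτ)
  infer_instance

end flat

end Groth.Agent.Lib.Helper79.Ferrand
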