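import Groth.Agent.Lib.Helper79.FerrandRefine

/-!
# Ferrand pinching: the diagram of charts and its colimit
-/

set_option autoImplicit false
universe u

open AlgebraicGeometry CategoryTheory Limits TopologicalSpace Opposite

namespace Groth.Agent.Lib.Helper79.Ferrand

open Groth.Agent.Lib.Helper79.FerrandRing Groth.Agent.Lib.Helper6.PinchAlg

variable {X Y Z : Scheme.{u}} (i : Z ⟶ X) (j : Z ⟶ Y) [IsClosedImmersion i]

instance : Preorder (GoodPair i j) where
  le := (· ≤ ·)
  le_refl := GoodPair.le_refl'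
  le_trans _ _ _ := GoodPair.le_trans'

/-- the diagram of affine charts `Spec (C τ)`. -/
noncomputable def F : GoodPair i j ⥤ Scheme.{u} where
  obj τ := Spec (CommRingCat.of τ.C)
  map {τ τ'} h := Spec.map (CommRingCat.ofHom
    (GoodPair.resHom (GoodPair.le_U (leOfHom h)) (GoodPair.le_V (leOfHom h))))
  map_id τ := by
    have : GoodPair.resHom (GoodPair.le_U (leOfHom (𝟙 τ))) (GoodPair.le_V (leOfHom (𝟙 τ))) =
        RingHom.id _ := RingHom.ext (GoodPair.resHom_self τ)
    rw [this]
    exact Spec.map_id _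
  map_comp {τ₁ τ₂ τ₃} f g := by
    rw [← Spec.map_comp, ← CommRingCat.ofHom_comp]
    congr 2
    ext c : 1
    exact (GoodPair.resHom_comp _ _ _ _ c).symm

variable {i j}

theorem F_map_basic (τ : GoodPair i j) (c : τ.C) (h : τ.basic c ⟶ τ) :
    (F i j).map h = Spec.map (CommRingCat.ofHom
      (GoodPair.resHom (τ.basic_U_le c) (τ.basic_V_le c))) := rfl

theorem isOpenImmersion_basic (τ : GoodPair i j) (c : τ.C) :
    IsOpenImmersion (Spec.map (CommRingCat.ofHom
      (GoodPair.resHom (τ := τ.basic c) (τ' := τ) (τ.basic_U_le c) (τ.basic_V_le c)))) := by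
  letI := (GoodPair.resHom (τ := τ.basic c) (τ' := τ) (τ.basic_U_le c) (τ.basic_V_le c)).toAlgebra
  have := IsAwayHom.isLocalization _ c (τ.isAwayHom_resHom_basic c)
  exact IsOpenImmersion.of_isLocalization c

theorem range_basic (τ : GoodPair i j) (c : τ.C) :
    Set.range (Spec.map (CommRingCat.ofHom
      (GoodPair.resHom (τ := τ.basic c) (τ' := τ) (τ.basic_U_le c) (τ.basic_V_le c)))) =
      (PrimeSpectrum.basicOpen c : Set (PrimeSpectrum τ.C)) := by
  letI := (GoodPair.resHom (τ := τ.basic c) (τ' := τ) (τ.basic_U_le c) (τ.basic_V_le c)).toAlgebra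
  have := IsAwayHom.isLocalization _ c (τ.isAwayHom_resHom_basic c)
  exact PrimeSpectrum.localization_away_comap_range _ c

instance {τ τ' : GoodPair i j} (h : τ ⟶ τ') : IsOpenImmersion ((F i j).map h) := by
  obtain ⟨c, rfl⟩ := leOfHom h
  rw [F_map_basic]
  exact isOpenImmersion_basic τ' c

instance : ((F i j) ⋙ Scheme.forget).IsLocallyDirected where
  cond {τi τj τk} fi fj xi xj hx := by
    obtain ⟨ci, rfl⟩ := leOfHom fi
    obtain ⟨cj, rfl⟩ := leOfHom fj
    change (F i j).map fi xi = (F i j).map fj xj at hx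
    have hi : (F i j).map fi xi ∈ (PrimeSpectrum.basicOpen ci : Set (PrimeSpectrum τk.C)) := by
      rw [← range_basic]; exact ⟨xi, rfl⟩
    have hj : (F i j).map fi xi ∈ (PrimeSpectrum.basicOpen cj : Set (PrimeSpectrum τk.C)) := by
      rw [hx, ← range_basic]; exact ⟨xj, rfl⟩
    have hij : (F i j).map fi xi ∈
        (PrimeSpectrum.basicOpen (ci * cj) : Set (PrimeSpectrum τk.C)) := by
      rw [PrimeSpectrum.basicOpen_mul]; exact ⟨hi, hj⟩
    rw [← range_basic] at hij
    obtain ⟨x, hxl⟩ := hij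
    let fli : τk.basic (ci * cj) ⟶ τk.basic ci := homOfLE (τk.basic_mul_le_left ci cj)
    let flj : τk.basic (ci * cj) ⟶ τk.basic cj := homOfLE (τk.basic_mul_le_right ci cj)
    have hlk : ∀ (f : τk.basic (ci * cj) ⟶ τk), (F i j).map f x = (F i j).map fi xi := fun f => hxl
    refine ⟨τk.basic (ci * cj), fli, flj, x, ?_, ?_⟩
    · apply ((F i j).map fi).isOpenEmbedding.injective
      change ((F i j).map fli ≫ (F i j).map fi) x = _
      rw [← Functor.map_comp]
      exact hlk _
    · apply ((F i j).map fj).isOpenEmbedding.injective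
      change ((F i j).map flj ≫ (F i j).map fj) x = _
      rw [← Functor.map_comp, ← hx]
      exact hlk _

end Groth.Agent.Lib.Helper79.Ferrand
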