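import Groth.Agent.Lib.Helper79.FerrandFinite

/-!
# Ferrand pinching: a local criterion for a commutative square to be a pushout

A commutative square `i' : Z ⟶ X`, `j' : Z ⟶ Y`, `a' : X ⟶ P'`, `b' : Y ⟶ P'` with `i'` a closed
immersion is a pushout of schemes as soon as `P'` is covered by affine open charts `v : V ⟶ P'`
over which the (pulled back) square is a pushout of affine schemes.
-/

set_option autoImplicit false
universe u

open AlgebraicGeometry CategoryTheory Limits TopologicalSpace Opposite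

namespace Groth.Agent.Lib.Helper79.Ferrand

theorem range_fst_of_isPullback {P X Y S : Scheme.{u}} {fst : P ⟶ X} {snd : P ⟶ Y} {f : X ⟶ S}
    {g : Y ⟶ S} (h : IsPullback fst snd f g) : Set.range fst = f ⁻¹' Set.range g := by
  have e : ∀ p, fst p = pullback.fst f g (h.isoPullback.hom p) := fun p => by
    rw [← Scheme.Hom.comp_apply, h.isoPullback_hom_fst]
  have e' : ∀ p, fst (h.isoPullback.inv p) = pullback.fst f g p := fun p => by
    rw [← Scheme.Hom.comp_apply, h.isoPullback_inv_fst]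
  ext x
  rw [← Scheme.Pullback.range_fst]
  constructor
  · rintro ⟨p, rfl⟩
    exact ⟨_, (e p).symm⟩
  · rintro ⟨p, rfl⟩
    exact ⟨h.isoPullback.inv p, e' p⟩

variable {X Y Z P' : Scheme.{u}}

/-- a local pinching chart of a commutative square. -/
structure LocalChart (i : Z ⟶ X) (j : Z ⟶ Y) (a' : X ⟶ P') (b' : Y ⟶ P') where
  /-- the chart -/
  V : Scheme.{u}
  /-- its trace on `X` -/
  U : Scheme.{u}
  /-- its trace on `Y` -/
  T : Scheme.{u}
  /-- its trace on `Z` -/
  W : Scheme.{u}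
  hVaff : IsAffine V
  hUaff : IsAffine U
  hTaff : IsAffine T
  /-- the chart map -/
  v : V ⟶ P'
  hv : IsOpenImmersion v
  /-- the inclusion -/
  u : U ⟶ X
  /-- the inclusion -/
  t : T ⟶ Y
  /-- the inclusion -/
  w : W ⟶ Z
  /-- restriction of `a'` -/
  α : U ⟶ V
  /-- restriction of `b'` -/
  β : T ⟶ V
  /-- restriction of `i` -/
  iW : W ⟶ U
  /-- restriction of `j` -/
  jW : W ⟶ T
  hU : IsPullback u α a' v
  hT : IsPullback t β b' v
  hW : IsPullback w iW i u
  hj : jW ≫ t = w ≫ j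
  po : IsPushout iW jW α β

namespace LocalChart

variable {i : Z ⟶ X} {j : Z ⟶ Y} {a' : X ⟶ P'} {b' : Y ⟶ P'} (k : LocalChart i j a' b')

instance : IsAffine k.V := k.hVaff
instance : IsAffine k.U := k.hUaff
instance : IsAffine k.T := k.hTaff
instance : IsOpenImmersion k.v := k.hv

instance : IsOpenImmersion k.u :=
  MorphismProperty.of_isPullback (P := @IsOpenImmersion) k.hU.flip inferInstance

instance : IsOpenImmersion k.t :=
  MorphismProperty.of_isPullback (P := @IsOpenImmersion) k.hT.flip inferInstance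

instance : IsOpenImmersion k.w :=
  MorphismProperty.of_isPullback (P := @IsOpenImmersion) k.hW.flip inferInstance

instance [IsClosedImmersion i] : IsClosedImmersion k.iW :=
  MorphismProperty.of_isPullback (P := @IsClosedImmersion) k.hW inferInstance

instance [IsClosedImmersion i] : IsAffine k.W := isAffine_of_isAffineHom k.iW

theorem range_u : Set.range k.u = a' ⁻¹' Set.range k.v := range_fst_of_isPullback k.hU

theorem range_t : Set.range k.t = b' ⁻¹' Set.range k.v := range_fst_of_isPullback k.hT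

theorem range_w : Set.range k.w = i ⁻¹' Set.range k.u := range_fst_of_isPullback k.hW

variable (comm : i ≫ a' = j ≫ b')

include comm in
theorem range_w' : Set.range k.w = j ⁻¹' Set.range k.t := by
  rw [k.range_w, k.range_u, k.range_t]
  ext z
  change a' (i z) ∈ Set.range k.v ↔ b' (j z) ∈ Set.range k.v
  rw [← Scheme.Hom.comp_apply, ← Scheme.Hom.comp_apply, comm]

/-- the good pair of a local chart. -/
noncomputable def goodPair : GoodPair i j where
  U := k.u.opensRange
  V := k.t.opensRange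
  hU := isAffineOpen_opensRange k.u
  hV := isAffineOpen_opensRange k.t
  eq := by
    ext z
    change i z ∈ Set.range k.u ↔ j z ∈ Set.range k.t
    have h1 : z ∈ i ⁻¹' Set.range k.u ↔ z ∈ j ⁻¹' Set.range k.t := by
      rw [← k.range_w, k.range_w' comm]
    exact h1

variable [IsClosedImmersion i]

/-- `Spec Γ(X, U) ≅ U` -/
noncomputable def eU : Spec Γ(X, (k.goodPair comm).U) ≅ k.U :=
  IsOpenImmersion.isoOfRangeEq (k.goodPair comm).hU.fromSpec k.u
    (by rw [(k.goodPair comm).hU.range_fromSpec]; rfl)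

/-- `Spec Γ(Y, V) ≅ T` -/
noncomputable def eT : Spec Γ(Y, (k.goodPair comm).V) ≅ k.T :=
  IsOpenImmersion.isoOfRangeEq (k.goodPair comm).hV.fromSpec k.t
    (by rw [(k.goodPair comm).hV.range_fromSpec]; rfl)

/-- `Spec Γ(Z, W) ≅ W` -/
noncomputable def eW : Spec Γ(Z, (k.goodPair comm).W) ≅ k.W :=
  IsOpenImmersion.isoOfRangeEq (k.goodPair comm).hW.fromSpec k.w
    (by rw [(k.goodPair comm).hW.range_fromSpec, k.range_w]; rfl)

@[reassoc]
theorem eU_u : (k.eU comm).hom ≫ k.u = (k.goodPair comm).hU.fromSpec :=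
  IsOpenImmersion.isoOfRangeEq_hom_fac _ _ _

@[reassoc]
theorem eT_t : (k.eT comm).hom ≫ k.t = (k.goodPair comm).hV.fromSpec :=
  IsOpenImmersion.isoOfRangeEq_hom_fac _ _ _

@[reassoc]
theorem eW_w : (k.eW comm).hom ≫ k.w = (k.goodPair comm).hW.fromSpec :=
  IsOpenImmersion.isoOfRangeEq_hom_fac _ _ _

theorem eW_iW : (k.eW comm).hom ≫ k.iW = (k.goodPair comm).iSpec ≫ (k.eU comm).hom := by
  rw [← cancel_mono k.u, Category.assoc, Category.assoc, ← k.hW.w, eW_w_assoc, eU_u,
    GoodPair.iSpec_fromSpec]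

theorem eW_jW : (k.eW comm).hom ≫ k.jW = (k.goodPair comm).jSpec ≫ (k.eT comm).hom := by
  rw [← cancel_mono k.t, Category.assoc, Category.assoc, k.hj, eW_w_assoc, eT_t,
    GoodPair.jSpec_fromSpec]

theorem isPushout' : IsPushout (k.goodPair comm).iSpec (k.goodPair comm).jSpec
    ((k.eU comm).hom ≫ k.α) ((k.eT comm).hom ≫ k.β) :=
  k.po.of_iso (k.eW comm).symm (k.eU comm).symm (k.eT comm).symm (Iso.refl _)
    (by rw [Iso.symm_hom, Iso.symm_hom, Iso.eq_inv_comp, ← Category.assoc, eW_iW,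
      Category.assoc, Iso.hom_inv_id, Category.comp_id])
    (by rw [Iso.symm_hom, Iso.symm_hom, Iso.eq_inv_comp, ← Category.assoc, eW_jW,
      Category.assoc, Iso.hom_inv_id, Category.comp_id])
    (by rw [Iso.symm_hom, Iso.refl_hom, Category.comp_id, Iso.inv_hom_id_assoc])
    (by rw [Iso.symm_hom, Iso.refl_hom, Category.comp_id, Iso.inv_hom_id_assoc])

/-- the chart of `P i j` is isomorphic to the local chart. -/
noncomputable def eV : (F i j).obj (k.goodPair comm) ≅ k.V :=
  (k.goodPair comm).isPushout_chart.isoIsPushout _ _ (k.isPushout' comm)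

@[reassoc]
theorem α_eV : (k.goodPair comm).α ≫ (k.eV comm).hom = (k.eU comm).hom ≫ k.α :=
  IsPushout.inl_isoIsPushout_hom _ _ (k.goodPair comm).isPushout_chart (k.isPushout' comm)

@[reassoc]
theorem β_eV : (k.goodPair comm).β ≫ (k.eV comm).hom = (k.eT comm).hom ≫ k.β :=
  IsPushout.inr_isoIsPushout_hom _ _ (k.goodPair comm).isPushout_chart (k.isPushout' comm)

end LocalChart

section main

variable {i : Z ⟶ X} {j : Z ⟶ Y} {a' : X ⟶ P'} {b' : Y ⟶ P'} [IsClosedImmersion i]
  (hc : i ≫ a' = j ≫ b') {K : Type*} (k : K → LocalChart i j a' b')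
  (hcov : ∀ p : P', ∃ κ, p ∈ Set.range (k κ).v)

include hc hcov in
theorem cond_of_localCharts : Cond i j := by
  intro y
  obtain ⟨κ, hκ⟩ := hcov (b' y)
  refine ⟨(k κ).goodPair hc, ?_⟩
  change y ∈ Set.range (k κ).t
  rw [(k κ).range_t]
  exact hκ

/-- the comparison map from the Ferrand pushout. -/
noncomputable def cmp : P i j ⟶ P' := desc a' b' hc

theorem a_cmp (hF : Cond i j) : a hF ≫ cmp hc = a' := a_desc hF _ _ _

theorem b_cmp (hF : Cond i j) : b hF ≫ cmp hc = b' := b_desc hF _ _ _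

theorem ι_cmp (κ : K) :
    ι ((k κ).goodPair hc) ≫ cmp hc = ((k κ).eV hc).hom ≫ (k κ).v := by
  apply ((k κ).goodPair hc).isPushout_chart.hom_ext
  · rw [cmp, ι_desc, α_descChart, LocalChart.α_eV_assoc, ← (k κ).hU.w, LocalChart.eU_u_assoc]
  · rw [cmp, ι_desc, β_descChart, LocalChart.β_eV_assoc, ← (k κ).hT.w, LocalChart.eT_t_assoc]

instance (κ : K) : IsOpenImmersion (ι ((k κ).goodPair hc) ≫ cmp hc) := by
  rw [ι_cmp]
  infer_instance

theorem range_ι_cmp (κ : K) :
    Set.range (ι ((k κ).goodPair hc) ≫ cmp hc) = Set.range (k κ).v := by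
  rw [ι_cmp]
  ext x
  constructor
  · rintro ⟨p, rfl⟩
    exact ⟨_, rfl⟩
  · rintro ⟨p, rfl⟩
    refine ⟨((k κ).eV hc).inv p, ?_⟩
    rw [← Scheme.Hom.comp_apply, Iso.inv_hom_id_assoc]

/-- a point of `P i j` over a chart lies in the corresponding Ferrand chart. -/
theorem mem_range_ι_of_cmp_mem (hF : Cond i j) (κ : K) (x : P i j)
    (hx : cmp hc x ∈ Set.range (k κ).v) : x ∈ Set.range (ι ((k κ).goodPair hc)) := by
  rcases jointlySurj hF x with ⟨y, rfl⟩ | ⟨x₀, rfl⟩
  · rw [← Scheme.Hom.comp_apply, b_cmp] at hx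
    have hy : y ∈ ((k κ).goodPair hc).V := by
      change y ∈ Set.range (k κ).t
      rw [(k κ).range_t]
      exact hx
    rw [← b_preimage hF] at hy
    exact hy
  · rw [← Scheme.Hom.comp_apply, a_cmp] at hx
    have hy : x₀ ∈ ((k κ).goodPair hc).U := by
      change x₀ ∈ Set.range (k κ).u
      rw [(k κ).range_u]
      exact hx
    rw [← a_preimage hF] at hy
    exact hy

include hcov in
theorem cmp_injective (hF : Cond i j) : Function.Injective (cmp (P' := P') hc) := by
  intro x x' h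
  obtain ⟨κ, hκ⟩ := hcov (cmp hc x)
  obtain ⟨w, rfl⟩ := mem_range_ι_of_cmp_mem hc k hF κ x hκ
  obtain ⟨w', rfl⟩ := mem_range_ι_of_cmp_mem hc k hF κ x' (h ▸ hκ)
  rw [← Scheme.Hom.comp_apply, ← Scheme.Hom.comp_apply] at h
  rw [(ι ((k κ).goodPair hc) ≫ cmp hc).isOpenEmbedding.injective h]

include hcov in
theorem cmp_surjective : Function.Surjective (cmp (P' := P') hc) := by
  intro p
  obtain ⟨κ, hκ⟩ := hcov p
  rw [← range_ι_cmp hc k κ] at hκ
  obtain ⟨w, rfl⟩ := hκ
  exact ⟨_, (Scheme.Hom.comp_apply _ _ _).symm⟩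

include hcov in
theorem cmp_isOpenMap (hF : Cond i j) : IsOpenMap (cmp (P' := P') hc) := by
  intro O hO
  have : cmp hc '' O = ⋃ κ, (ι ((k κ).goodPair hc) ≫ cmp hc) ''
      (ι ((k κ).goodPair hc) ⁻¹' O) := by
    ext p
    constructor
    · rintro ⟨x, hx, rfl⟩
      obtain ⟨κ, hκ⟩ := hcov (cmp hc x)
      obtain ⟨w, rfl⟩ := mem_range_ι_of_cmp_mem hc k hF κ x hκ
      exact Set.mem_iUnion.mpr ⟨κ, w, hx, Scheme.Hom.comp_apply _ _ _⟩
    · intro hp
      obtain ⟨κ, w, hw, rfl⟩ := Set.mem_iUnion.mp hp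
      exact ⟨_, hw, (Scheme.Hom.comp_apply _ _ _).symm⟩
  rw [this]
  exact isOpen_iUnion fun κ => (ι ((k κ).goodPair hc) ≫ cmp hc).isOpenEmbedding.isOpenMap _
    (hO.preimage (ι ((k κ).goodPair hc)).continuous)

include hcov in
theorem isIso_cmp : IsIso (cmp (P' := P') hc) := by
  have hF : Cond i j := cond_of_localCharts hc k hcov
  have hemb : Topology.IsOpenEmbedding (cmp (P' := P') hc) :=
    Topology.IsOpenEmbedding.of_continuous_injective_isOpenMap (cmp hc).continuous
      (cmp_injective hc k hcov hF) (cmp_isOpenMap hc k hcov hF)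
  have hstalk : ∀ x, IsIso ((cmp (P' := P') hc).stalkMap x) := by
    intro x
    obtain ⟨κ, hκ⟩ := hcov (cmp hc x)
    obtain ⟨w, rfl⟩ := mem_range_ι_of_cmp_mem hc k hF κ x hκ
    have h1 : IsIso ((ι ((k κ).goodPair hc) ≫ cmp hc).stalkMap w) := inferInstance
    rw [Scheme.Hom.stalkMap_comp] at h1
    have h2 : IsIso ((ι ((k κ).goodPair hc)).stalkMap w) := inferInstance
    exact @IsIso.of_isIso_comp_right _ _ _ _ _ _ _ h2 h1
  have : IsOpenImmersion (cmp (P' := P') hc) := IsOpenImmersion.of_isIso_stalkMap _ hemb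
  apply isIso_of_isOpenImmersion_of_opensRange_eq_top
  rw [eq_top_iff]
  rintro p -
  exact cmp_surjective hc k hcov p

include hc hcov in
/-- **local criterion**: a commutative square covered by local pinching charts is a pushout. -/
theorem isPushout_of_localCharts : IsPushout i j a' b' := by
  have hF : Cond i j := cond_of_localCharts hc k hcov
  have := isIso_cmp hc k hcov
  exact (isPushout hF).of_iso (Iso.refl _) (Iso.refl _) (Iso.refl _) (asIso (cmp hc))
    (by simp) (by simp) (by simp [a_cmp]) (by simp [b_cmp])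

end main

end Groth.Agent.Lib.Helper79.Ferrand
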