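import Groth.Agent.Lib.Helper79.FerrandAffine

/-!
# Ferrand pinching: existence of the pushout
-/

set_option autoImplicit false
universe u

open AlgebraicGeometry CategoryTheory Limits TopologicalSpace Opposite

namespace Groth.Agent.Lib.Helper79.Ferrand

open Groth.Agent.Lib.Helper79.FerrandRing Groth.Agent.Lib.Helper6.PinchAlg

variable {X Y Z : Scheme.{u}} (i : Z ⟶ X) (j : Z ⟶ Y) [IsClosedImmersion i]

/-- Ferrand's condition: `Y` is covered by the `V`-parts of good pairs. -/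
def Cond : Prop := ∀ y : Y, ∃ τ : GoodPair i j, y ∈ τ.V

variable {i j}

theorem Cond.exists_mem_W (hF : Cond i j) (z : Z) : ∃ τ : GoodPair i j, z ∈ τ.W := by
  obtain ⟨τ, hτ⟩ := hF (j z)
  exact ⟨τ, (τ.mem_W').mpr hτ⟩

theorem Cond.exists_mem_U (hF : Cond i j) (x : X) : ∃ τ : GoodPair i j, x ∈ τ.U := by
  by_cases hx : x ∈ Set.range i
  · obtain ⟨z, rfl⟩ := hx
    obtain ⟨τ, hτ⟩ := hF.exists_mem_W z
    exact ⟨τ, hτ⟩
  · let O : X.Opens := ⟨(Set.range i)ᶜ, i.isClosedEmbedding.isClosed_range.isOpen_compl⟩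
    obtain ⟨_, ⟨U, hU, rfl⟩, hxU, hUO⟩ :=
      X.isBasis_affineOpens.exists_subset_of_mem_open (show x ∈ (O : Set X) from hx) O.isOpen
    refine ⟨⟨U, ⊥, hU, isAffineOpen_bot Y, ?_⟩, hxU⟩
    have h1 : j ⁻¹ᵁ (⊥ : Y.Opens) = ⊥ := rfl
    rw [h1, eq_bot_iff]
    intro z hz
    exact (hUO hz ⟨z, rfl⟩).elim

variable (hF : Cond i j)

/-- the cover of `X` by the `U`-charts. -/
noncomputable def coverX : X.OpenCover :=
  Scheme.Cover.mkOfCovers (GoodPair i j) (fun τ => Spec Γ(X, τ.U)) (fun τ => τ.hU.fromSpec)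
    (fun x => by
      obtain ⟨τ, hτ⟩ := hF.exists_mem_U x
      obtain ⟨𝔮, h𝔮⟩ := exists_fromSpec_eq τ.hU x hτ
      exact ⟨τ, 𝔮, h𝔮⟩)

/-- the cover of `Y` by the `V`-charts. -/
noncomputable def coverY : Y.OpenCover :=
  Scheme.Cover.mkOfCovers (GoodPair i j) (fun τ => Spec Γ(Y, τ.V)) (fun τ => τ.hV.fromSpec)
    (fun y => by
      obtain ⟨τ, hτ⟩ := hF y
      obtain ⟨𝔮, h𝔮⟩ := exists_fromSpec_eq τ.hV y hτ
      exact ⟨τ, 𝔮, h𝔮⟩)

/-- the cover of `Z` by the `W`-charts. -/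
noncomputable def coverZ : Z.OpenCover :=
  Scheme.Cover.mkOfCovers (GoodPair i j) (fun τ => Spec Γ(Z, τ.W)) (fun τ => τ.hW.fromSpec)
    (fun z => by
      obtain ⟨τ, hτ⟩ := hF.exists_mem_W z
      obtain ⟨𝔮, h𝔮⟩ := exists_fromSpec_eq τ.hW z hτ
      exact ⟨τ, 𝔮, h𝔮⟩)

instance : Preorder (coverX hF).I₀ := inferInstanceAs <| Preorder (GoodPair i j)
instance : Preorder (coverY hF).I₀ := inferInstanceAs <| Preorder (GoodPair i j)

/-- transition maps of the `U`-charts. -/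
noncomputable def transX {τ τ' : GoodPair i j} (h : τ ≤ τ') :
    Spec Γ(X, τ.U) ⟶ Spec Γ(X, τ'.U) :=
  Spec.map (X.presheaf.map (homOfLE (GoodPair.le_U h)).op)

/-- transition maps of the `V`-charts. -/
noncomputable def transY {τ τ' : GoodPair i j} (h : τ ≤ τ') :
    Spec Γ(Y, τ.V) ⟶ Spec Γ(Y, τ'.V) :=
  Spec.map (Y.presheaf.map (homOfLE (GoodPair.le_V h)).op)

theorem transX_fromSpec {τ τ' : GoodPair i j} (h : τ ≤ τ') :
    transX h ≫ τ'.hU.fromSpec = τ.hU.fromSpec :=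
  τ'.hU.map_fromSpec τ.hU (homOfLE (GoodPair.le_U h)).op

theorem transY_fromSpec {τ τ' : GoodPair i j} (h : τ ≤ τ') :
    transY h ≫ τ'.hV.fromSpec = τ.hV.fromSpec :=
  τ'.hV.map_fromSpec τ.hV (homOfLE (GoodPair.le_V h)).op

instance {τ τ' : GoodPair i j} (h : τ ≤ τ') : IsOpenImmersion (transX h) := by
  have : IsOpenImmersion (transX h ≫ τ'.hU.fromSpec) := by
    rw [transX_fromSpec]; infer_instance
  exact IsOpenImmersion.of_comp _ τ'.hU.fromSpec

instance {τ τ' : GoodPair i j} (h : τ ≤ τ') : IsOpenImmersion (transY h) := by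
  have : IsOpenImmersion (transY h ≫ τ'.hV.fromSpec) := by
    rw [transY_fromSpec]; infer_instance
  exact IsOpenImmersion.of_comp _ τ'.hV.fromSpec

theorem transX_α {τ τ' : GoodPair i j} (h : τ ⟶ τ') :
    transX (leOfHom h) ≫ τ'.α = τ.α ≫ (F i j).map h := by
  change Spec.map _ ≫ Spec.map _ = Spec.map _ ≫ Spec.map _
  rw [← Spec.map_comp, ← Spec.map_comp]
  congr 1

theorem transY_β {τ τ' : GoodPair i j} (h : τ ⟶ τ') :
    transY (leOfHom h) ≫ τ'.β = τ.β ≫ (F i j).map h := by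
  change Spec.map _ ≫ Spec.map _ = Spec.map _ ≫ Spec.map _
  rw [← Spec.map_comp, ← Spec.map_comp]
  congr 1

end Groth.Agent.Lib.Helper79.Ferrand
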