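import Groth.Agent.Lib.Helper79.FerrandChart

/-!
# Ferrand pinching: the basic-open order on good pairs and refinement lemmas
-/

set_option autoImplicit false
universe u

open AlgebraicGeometry CategoryTheory Limits TopologicalSpace Opposite

namespace Groth.Agent.Lib.Helper79.Ferrand

open Groth.Agent.Lib.Helper79.FerrandRing Groth.Agent.Lib.Helper6.PinchAlg

variable {X Y Z : Scheme.{u}} {i : Z ⟶ X} {j : Z ⟶ Y}

section affineOpen

variable {S : Scheme.{u}} {U : S.Opens} (hU : IsAffineOpen U)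

theorem mem_basicOpen_fromSpec (𝔮 : PrimeSpectrum Γ(S, U)) (s : Γ(S, U)) :
    hU.fromSpec 𝔮 ∈ S.basicOpen s ↔ s ∉ 𝔮.asIdeal := by
  change 𝔮 ∈ hU.fromSpec ⁻¹ᵁ S.basicOpen s ↔ _
  rw [hU.fromSpec_preimage_basicOpen]
  rfl

theorem fromSpec_mem (𝔮 : PrimeSpectrum Γ(S, U)) : hU.fromSpec 𝔮 ∈ U := by
  have : hU.fromSpec 𝔮 ∈ Set.range hU.fromSpec := ⟨𝔮, rfl⟩
  rw [hU.range_fromSpec] at this
  exact this

theorem exists_fromSpec_eq (x : S) (hx : x ∈ U) : ∃ 𝔮 : PrimeSpectrum Γ(S, U), hU.fromSpec 𝔮 = x := by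
  have : x ∈ Set.range hU.fromSpec := by rw [hU.range_fromSpec]; exact hx
  exact this

include hU in
theorem isNilpotent_of_basicOpen_eq_bot (s : Γ(S, U)) (h : S.basicOpen s = ⊥) : IsNilpotent s := by
  rw [← PrimeSpectrum.basicOpen_eq_bot_iff, ← hU.fromSpec_preimage_basicOpen, h]
  rfl

end affineOpen

namespace GoodPair

variable (τ : GoodPair i j)

instance : LE (GoodPair i j) := ⟨fun τ τ' => ∃ c : τ'.C, τ = τ'.basic c⟩

theorem le_def {τ τ' : GoodPair i j} : τ ≤ τ' ↔ ∃ c : τ'.C, τ = τ'.basic c := Iff.rfl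

theorem basic_le (c : τ.C) : τ.basic c ≤ τ := ⟨c, rfl⟩

theorem le_U {τ τ' : GoodPair i j} (h : τ ≤ τ') : τ.U ≤ τ'.U := by
  obtain ⟨c, rfl⟩ := h
  exact τ'.basic_U_le c

theorem le_V {τ τ' : GoodPair i j} (h : τ ≤ τ') : τ.V ≤ τ'.V := by
  obtain ⟨c, rfl⟩ := h
  exact τ'.basic_V_le c

theorem le_refl' : τ ≤ τ := by
  refine ⟨1, ?_⟩
  ext1
  · change τ.U = X.basicOpen (fpSnd τ.qHom τ.pHom 1)
    rw [map_one, Scheme.basicOpen_one]
  · change τ.V = Y.basicOpen (fpFst τ.qHom τ.pHom 1)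
    rw [map_one, Scheme.basicOpen_one]

/-- a basic open of `τ` contained in a sub-pair `l` is a basic open of `l`. -/
theorem basic_eq_basic_resHom {l : GoodPair i j} (hU : l.U ≤ τ.U) (hV : l.V ≤ τ.V) (c : τ.C)
    (hcU : (τ.basic c).U ≤ l.U) (hcV : (τ.basic c).V ≤ l.V) :
    τ.basic c = l.basic (resHom hU hV c) := by
  ext1
  · change _ = X.basicOpen (fpSnd l.qHom l.pHom (resHom hU hV c))
    rw [fpSnd_resHom, Scheme.basicOpen_res]
    exact (inf_eq_right.mpr hcU).symm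
  · change _ = Y.basicOpen (fpFst l.qHom l.pHom (resHom hU hV c))
    rw [fpFst_resHom, Scheme.basicOpen_res]
    exact (inf_eq_right.mpr hcV).symm

theorem basic_mul (c c' : τ.C) :
    τ.basic (c * c') = (τ.basic c).basic (resHom (τ.basic_U_le c) (τ.basic_V_le c) c') := by
  ext1
  · change X.basicOpen (fpSnd τ.qHom τ.pHom (c * c')) =
      X.basicOpen (fpSnd (τ.basic c).qHom (τ.basic c).pHom (resHom _ _ c'))
    rw [map_mul, Scheme.basicOpen_mul, fpSnd_resHom, Scheme.basicOpen_res]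
    rfl
  · change Y.basicOpen (fpFst τ.qHom τ.pHom (c * c')) =
      Y.basicOpen (fpFst (τ.basic c).qHom (τ.basic c).pHom (resHom _ _ c'))
    rw [map_mul, Scheme.basicOpen_mul, fpFst_resHom, Scheme.basicOpen_res]
    rfl

theorem basicOpen_mul_unit_pow {S : Scheme.{u}} {U : S.Opens} (a u : Γ(S, U)) (hu : IsUnit u)
    (n : ℕ) : S.basicOpen (a * u ^ n) = S.basicOpen a := by
  rw [Scheme.basicOpen_mul, Scheme.basicOpen_of_isUnit _ (hu.pow n)]
  exact inf_eq_left.mpr (S.basicOpen_le a)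

theorem le_trans' [IsClosedImmersion i] {τ₁ τ₂ τ₃ : GoodPair i j} (h₁ : τ₁ ≤ τ₂) (h₂ : τ₂ ≤ τ₃) :
    τ₁ ≤ τ₃ := by
  obtain ⟨c, rfl⟩ := h₂
  obtain ⟨c', rfl⟩ := h₁
  have hA := τ₃.isAwayHom_resHom_basic c
  obtain ⟨c₃, n, hc₃⟩ := hA.surj c'
  refine ⟨c * c₃, ?_⟩
  rw [basic_mul]
  have hu := hA.unit
  ext1
  · change X.basicOpen (fpSnd _ _ c') = X.basicOpen (fpSnd _ _ (resHom _ _ c₃))
    rw [← hc₃, map_mul, map_pow]
    exact (basicOpen_mul_unit_pow _ _ (hu.map (fpSnd _ _)) n).symm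
  · change Y.basicOpen (fpFst _ _ c') = Y.basicOpen (fpFst _ _ (resHom _ _ c₃))
    rw [← hc₃, map_mul, map_pow]
    exact (basicOpen_mul_unit_pow _ _ (hu.map (fpFst _ _)) n).symm

/-- the meet of two basic opens. -/
theorem basic_mul_le_left (c c' : τ.C) : τ.basic (c * c') ≤ τ.basic c :=
  ⟨_, τ.basic_mul c c'⟩

theorem basic_mul_le_right (c c' : τ.C) : τ.basic (c * c') ≤ τ.basic c' := by
  rw [mul_comm]
  exact τ.basic_mul_le_left c' c

end GoodPair

end Groth.Agent.Lib.Helper79.Ferrand
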