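import Groth.Agent.Lib.Helper79.FerrandPushout

/-!
# Ferrand pinching: properties of the pushout square
-/

set_option autoImplicit false
universe u

open AlgebraicGeometry CategoryTheory Limits TopologicalSpace Opposite

namespace Groth.Agent.Lib.Helper79.Ferrand

open Groth.Agent.Lib.Helper79.FerrandRing Groth.Agent.Lib.Helper6.PinchAlg

variable {X Y Z : Scheme.{u}} {i : Z ⟶ X} {j : Z ⟶ Y} [IsClosedImmersion i] (hF : Cond i j)

theorem ι_eq_ι_iff {τ τ' : GoodPair i j} {x : (F i j).obj τ} {x' : (F i j).obj τ'} :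
    ι τ x = ι τ' x' ↔ ∃ (k : GoodPair i j) (fi : k ⟶ τ) (fj : k ⟶ τ') (y : (F i j).obj k),
      (F i j).map fi y = x ∧ (F i j).map fj y = x' :=
  Scheme.IsLocallyDirected.ι_eq_ι_iff (F i j)

theorem ι_jointly_surjective (p : P i j) : ∃ (τ : GoodPair i j) (x : (F i j).obj τ), ι τ x = p :=
  Scheme.IsLocallyDirected.ι_jointly_surjective (F i j) p

theorem mem_basicOpen_of_map {τ k : GoodPair i j} (fi : k ⟶ τ) (y : (F i j).obj k) :
    ∃ c : τ.C, k = τ.basic c ∧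
      (F i j).map fi y ∈ (PrimeSpectrum.basicOpen c : Set (PrimeSpectrum τ.C)) := by
  obtain ⟨c, rfl⟩ := leOfHom fi
  refine ⟨c, rfl, ?_⟩
  rw [← range_basic]
  exact ⟨y, rfl⟩

theorem β_apply (τ : GoodPair i j) (𝔮 : PrimeSpectrum Γ(Y, τ.V)) :
    τ.β 𝔮 = PrimeSpectrum.comap (fpFst τ.qHom τ.pHom) 𝔮 := rfl

theorem α_apply (τ : GoodPair i j) (𝔮 : PrimeSpectrum Γ(X, τ.U)) :
    τ.α 𝔮 = PrimeSpectrum.comap (fpSnd τ.qHom τ.pHom) 𝔮 := rfl

/-- the preimage of a chart of `P` in `Y`. -/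
theorem b_preimage (τ : GoodPair i j) : b hF ⁻¹ᵁ (ι τ).opensRange = τ.V := by
  ext y
  constructor
  · rintro ⟨p, hp⟩
    obtain ⟨τ₂, hτ₂⟩ := hF y
    obtain ⟨𝔮, rfl⟩ := exists_fromSpec_eq τ₂.hV y hτ₂
    have h1 : b hF (τ₂.hV.fromSpec 𝔮) = ι τ₂ (τ₂.β 𝔮) := by
      rw [← Scheme.Hom.comp_apply, fromSpec_b, Scheme.Hom.comp_apply]
    rw [h1] at hp
    obtain ⟨k, fi, fj, x, hx1, hx2⟩ := ι_eq_ι_iff.mp hp
    obtain ⟨c, rfl, hc⟩ := mem_basicOpen_of_map fj x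
    rw [hx2, β_apply] at hc
    have h2 : τ₂.hV.fromSpec 𝔮 ∈ Y.basicOpen (fpFst τ₂.qHom τ₂.pHom c) :=
      (mem_basicOpen_fromSpec τ₂.hV 𝔮 _).mpr hc
    exact GoodPair.le_V (leOfHom fi) h2
  · intro hy
    obtain ⟨𝔮, rfl⟩ := exists_fromSpec_eq τ.hV y hy
    refine ⟨τ.β 𝔮, ?_⟩
    rw [← Scheme.Hom.comp_apply, ← Scheme.Hom.comp_apply, fromSpec_b]

/-- the preimage of a chart of `P` in `X`. -/
theorem a_preimage (τ : GoodPair i j) : a hF ⁻¹ᵁ (ι τ).opensRange = τ.U := by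
  ext x
  constructor
  · rintro ⟨p, hp⟩
    obtain ⟨τ₂, hτ₂⟩ := hF.exists_mem_U x
    obtain ⟨𝔮, rfl⟩ := exists_fromSpec_eq τ₂.hU x hτ₂
    have h1 : a hF (τ₂.hU.fromSpec 𝔮) = ι τ₂ (τ₂.α 𝔮) := by
      rw [← Scheme.Hom.comp_apply, fromSpec_a, Scheme.Hom.comp_apply]
    rw [h1] at hp
    obtain ⟨k, fi, fj, x, hx1, hx2⟩ := ι_eq_ι_iff.mp hp
    obtain ⟨c, rfl, hc⟩ := mem_basicOpen_of_map fj x
    rw [hx2, α_apply] at hc
    have h2 : τ₂.hU.fromSpec 𝔮 ∈ X.basicOpen (fpSnd τ₂.qHom τ₂.pHom c) :=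
      (mem_basicOpen_fromSpec τ₂.hU 𝔮 _).mpr hc
    exact GoodPair.le_U (leOfHom fi) h2
  · intro hx
    obtain ⟨𝔮, rfl⟩ := exists_fromSpec_eq τ.hU x hx
    refine ⟨τ.α 𝔮, ?_⟩
    rw [← Scheme.Hom.comp_apply, ← Scheme.Hom.comp_apply, fromSpec_a]

theorem isPullback_b (τ : GoodPair i j) : IsPullback τ.β τ.hV.fromSpec (ι τ) (b hF) :=
  IsOpenImmersion.isPullback _ _ _ _ (fromSpec_b hF τ)
    (by rw [b_preimage, τ.hV.opensRange_fromSpec])

theorem isPullback_a (τ : GoodPair i j) : IsPullback τ.α τ.hU.fromSpec (ι τ) (a hF) :=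
  IsOpenImmersion.isPullback _ _ _ _ (fromSpec_a hF τ)
    (by rw [a_preimage, τ.hU.opensRange_fromSpec])

instance (τ : GoodPair i j) : IsClosedImmersion τ.β :=
  IsClosedImmersion.spec_of_surjective _ (fpFst_surjective τ.qHom τ.pHom τ.pHom_surjective)

/-- the open cover of `P` by the charts. -/
noncomputable def coverP : (P i j).OpenCover := Scheme.IsLocallyDirected.openCover (F i j)

/-- `Y ⟶ P` is a closed immersion. -/
instance isClosedImmersion_b : IsClosedImmersion (b hF) := by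
  rw [IsZariskiLocalAtTarget.iff_of_openCover (P := @IsClosedImmersion) (coverP (i := i) (j := j))]
  intro (τ : GoodPair i j)
  have h := (isPullback_b hF τ).flip
  have e : pullback.snd (b hF) (ι τ) = h.isoPullback.inv ≫ τ.β := by
    rw [Iso.eq_inv_comp]
    exact h.isoPullback_hom_snd
  change IsClosedImmersion (pullback.snd (b hF) (ι τ))
  rw [e]
  infer_instance

end Groth.Agent.Lib.Helper79.Ferrand
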