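import Groth.Agent.Lib.Helper79.FerrandCart

/-!
# Ferrand pinching: more properties (surjectivity, `a` closed immersion)
-/

set_option autoImplicit false
universe u

open AlgebraicGeometry CategoryTheory Limits TopologicalSpace Opposite

namespace Groth.Agent.Lib.Helper79.Ferrand

open Groth.Agent.Lib.Helper79.FerrandRing Groth.Agent.Lib.Helper6.PinchAlg

theorem fpSnd_surjective {B A' A : Type*} [CommRing B] [CommRing A'] [CommRing A] (q : B →+* A)
    (p : A' →+* A) (hq : Function.Surjective q) : Function.Surjective (fpSnd q p) := by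
  intro a'
  obtain ⟨b, hb⟩ := hq (p a')
  exact ⟨fpMk q p b a' hb, rfl⟩

variable {X Y Z : Scheme.{u}} {i : Z ⟶ X} {j : Z ⟶ Y} [IsClosedImmersion i] (hF : Cond i j)

omit [IsClosedImmersion i] in
theorem GoodPair.qHom_surjective [IsClosedImmersion j] (τ : GoodPair i j) :
    Function.Surjective τ.qHom := by
  have h := j.app_surjective τ.V τ.hV
  rw [Scheme.Hom.app_eq_appLE] at h
  exact (Scheme.Hom.appLE_congr j τ.eq.le rfl τ.eq
    (fun f => Function.Surjective f)).mpr h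

/-- every point of a chart comes from `X` or `Y`. -/
theorem chart_jointlySurj (τ : GoodPair i j) (x : (F i j).obj τ) :
    (∃ 𝔮 : PrimeSpectrum Γ(Y, τ.V), τ.β 𝔮 = x) ∨ (∃ 𝔮 : PrimeSpectrum Γ(X, τ.U), τ.α 𝔮 = x) := by
  have hx : (x : PrimeSpectrum τ.C).asIdeal.IsPrime := (x : PrimeSpectrum τ.C).isPrime
  rcases prime_dichotomy (fpFst τ.qHom τ.pHom) (fpSnd τ.qHom τ.pHom) τ.qHom τ.pHom
    (fp_comm τ.qHom τ.pHom) (fp_hPB τ.qHom τ.pHom) (fp_hINJ τ.qHom τ.pHom) τ.pHom_surjective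
    (x : PrimeSpectrum τ.C).asIdeal with ⟨Q, hQ, hQP⟩ | ⟨e, -, -, Q', hQ', hQP⟩
  · left
    exact ⟨⟨Q, hQ⟩, PrimeSpectrum.ext hQP⟩
  · right
    exact ⟨⟨Q', hQ'⟩, PrimeSpectrum.ext hQP⟩

/-- `X` and `Y` jointly cover `P`. -/
theorem jointlySurj (p : P i j) : (∃ y : Y, b hF y = p) ∨ (∃ x : X, a hF x = p) := by
  obtain ⟨τ, x₀, rfl⟩ := ι_jointly_surjective p
  rcases chart_jointlySurj τ x₀ with ⟨𝔮, rfl⟩ | ⟨𝔮, rfl⟩
  · left
    refine ⟨τ.hV.fromSpec 𝔮, ?_⟩
    rw [← Scheme.Hom.comp_apply, fromSpec_b, Scheme.Hom.comp_apply]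
  · right
    refine ⟨τ.hU.fromSpec 𝔮, ?_⟩
    rw [← Scheme.Hom.comp_apply, fromSpec_a, Scheme.Hom.comp_apply]

/-- if `i` is surjective (a thickening), so is `Y ⟶ P`. -/
theorem b_surjective (hi : Function.Surjective i) : Function.Surjective (b hF) := by
  intro p
  rcases jointlySurj hF p with ⟨y, hy⟩ | ⟨x, rfl⟩
  · exact ⟨y, hy⟩
  · obtain ⟨z, rfl⟩ := hi x
    refine ⟨j z, ?_⟩
    rw [← Scheme.Hom.comp_apply, ← Scheme.Hom.comp_apply, comm hF]

instance (τ : GoodPair i j) [IsClosedImmersion j] : IsClosedImmersion τ.α :=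
  IsClosedImmersion.spec_of_surjective _ (fpSnd_surjective τ.qHom τ.pHom τ.qHom_surjective)

/-- if `j` is a closed immersion, so is `X ⟶ P`. -/
theorem isClosedImmersion_a [IsClosedImmersion j] : IsClosedImmersion (a hF) := by
  rw [IsZariskiLocalAtTarget.iff_of_openCover (P := @IsClosedImmersion) (coverP (i := i) (j := j))]
  intro (τ : GoodPair i j)
  have h := (isPullback_a hF τ).flip
  have e : pullback.snd (a hF) (ι τ) = h.isoPullback.inv ≫ τ.α := by
    rw [Iso.eq_inv_comp]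
    exact h.isoPullback_hom_snd
  change IsClosedImmersion (pullback.snd (a hF) (ι τ))
  rw [e]
  infer_instance

end Groth.Agent.Lib.Helper79.Ferrand
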