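import Groth.Agent.Lib.Helper79.FerrandMain

/-!
# Ferrand pinching: the pushout
-/

set_option autoImplicit false
universe u

open AlgebraicGeometry CategoryTheory Limits TopologicalSpace Opposite

namespace Groth.Agent.Lib.Helper79.Ferrand

open Groth.Agent.Lib.Helper79.FerrandRing Groth.Agent.Lib.Helper6.PinchAlg

variable {X Y Z : Scheme.{u}} {i : Z ⟶ X} {j : Z ⟶ Y} [IsClosedImmersion i] (hF : Cond i j)

theorem transX_id (τ : GoodPair i j) (h : τ ≤ τ) : transX h = 𝟙 _ := by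
  change Spec.map (X.presheaf.map (𝟙 _)) = _
  rw [X.presheaf.map_id, Spec.map_id]

theorem transX_comp {τ₁ τ₂ τ₃ : GoodPair i j} (h : τ₁ ≤ τ₂) (h' : τ₂ ≤ τ₃) :
    transX (h.trans h') = transX h ≫ transX h' := by
  change Spec.map _ = Spec.map _ ≫ Spec.map _
  rw [← Spec.map_comp, ← Functor.map_comp]
  rfl

theorem transY_id (τ : GoodPair i j) (h : τ ≤ τ) : transY h = 𝟙 _ := by
  change Spec.map (Y.presheaf.map (𝟙 _)) = _
  rw [Y.presheaf.map_id, Spec.map_id]

theorem transY_comp {τ₁ τ₂ τ₃ : GoodPair i j} (h : τ₁ ≤ τ₂) (h' : τ₂ ≤ τ₃) :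
    transY (h.trans h') = transY h ≫ transY h' := by
  change Spec.map _ = Spec.map _ ≫ Spec.map _
  rw [← Spec.map_comp, ← Functor.map_comp]
  rfl

noncomputable instance : (coverX hF).LocallyDirected where
  trans {τ τ'} h := transX (leOfHom h)
  trans_id τ := transX_id τ _
  trans_comp h h' := transX_comp _ _
  w h := transX_fromSpec _
  directed {τ₁ τ₂} x := by
    have h12 : τ₁.hU.fromSpec ((pullback.fst ((coverX hF).f τ₁) ((coverX hF).f τ₂)) x) =
        τ₂.hU.fromSpec ((pullback.snd ((coverX hF).f τ₁) ((coverX hF).f τ₂)) x) := by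
      have := congrArg (fun f => f x) (congrArg (fun f => f.base.hom)
        (pullback.condition (f := (coverX hF).f τ₁) (g := (coverX hF).f τ₂)))
      exact this
    obtain ⟨l, hl₁, hl₂, hl⟩ := GoodPair.exists_le_of_mem_U τ₁ τ₂ _
      (fromSpec_mem τ₁.hU _) (h12 ▸ fromSpec_mem τ₂.hU _)
    obtain ⟨y, hy⟩ := exists_fromSpec_eq l.hU _ hl
    refine ⟨l, homOfLE hl₁, homOfLE hl₂, y, ?_⟩
    apply (pullback.fst ((coverX hF).f τ₁) ((coverX hF).f τ₂) ≫
      (coverX hF).f τ₁).isOpenEmbedding.injective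
    rw [← Scheme.Hom.comp_apply, pullback.lift_fst_assoc]
    change (transX hl₁ ≫ τ₁.hU.fromSpec) y = τ₁.hU.fromSpec _
    rw [transX_fromSpec]
    exact hy
  property_trans h := inferInstanceAs (IsOpenImmersion (transX _))

noncomputable instance : (coverY hF).LocallyDirected where
  trans {τ τ'} h := transY (leOfHom h)
  trans_id τ := transY_id τ _
  trans_comp h h' := transY_comp _ _
  w h := transY_fromSpec _
  directed {τ₁ τ₂} x := by
    have h12 : τ₁.hV.fromSpec ((pullback.fst ((coverY hF).f τ₁) ((coverY hF).f τ₂)) x) =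
        τ₂.hV.fromSpec ((pullback.snd ((coverY hF).f τ₁) ((coverY hF).f τ₂)) x) := by
      have := congrArg (fun f => f x) (congrArg (fun f => f.base.hom)
        (pullback.condition (f := (coverY hF).f τ₁) (g := (coverY hF).f τ₂)))
      exact this
    obtain ⟨l, hl₁, hl₂, hl⟩ := GoodPair.exists_le_of_mem_V τ₁ τ₂ _
      (fromSpec_mem τ₁.hV _) (h12 ▸ fromSpec_mem τ₂.hV _)
    obtain ⟨y, hy⟩ := exists_fromSpec_eq l.hV _ hl
    refine ⟨l, homOfLE hl₁, homOfLE hl₂, y, ?_⟩
    apply (pullback.fst ((coverY hF).f τ₁) ((coverY hF).f τ₂) ≫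
      (coverY hF).f τ₁).isOpenEmbedding.injective
    rw [← Scheme.Hom.comp_apply, pullback.lift_fst_assoc]
    change (transY hl₁ ≫ τ₁.hV.fromSpec) y = τ₁.hV.fromSpec _
    rw [transY_fromSpec]
    exact hy
  property_trans h := inferInstanceAs (IsOpenImmersion (transY _))

variable (i j) in
/-- the Ferrand pushout. -/
noncomputable def P : Scheme.{u} := colimit (F i j)

/-- the chart inclusions. -/
noncomputable def ι (τ : GoodPair i j) : (F i j).obj τ ⟶ P i j := colimit.ι (F i j) τ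

instance (τ : GoodPair i j) : IsOpenImmersion (ι τ) :=
  inferInstanceAs (IsOpenImmersion (colimit.ι (F i j) τ))

theorem F_map_ι {τ τ' : GoodPair i j} (h : τ ⟶ τ') : (F i j).map h ≫ ι τ' = ι τ :=
  colimit.w (F i j) h

theorem a_compat {τ τ' : (coverX hF).I₀} (h : τ ⟶ τ') :
    (coverX hF).trans h ≫ (fun τ : GoodPair i j => τ.α ≫ ι τ) τ' =
      (fun τ : GoodPair i j => τ.α ≫ ι τ) τ := by
  change transX (leOfHom h) ≫ GoodPair.α _ ≫ ι _ = GoodPair.α _ ≫ ι _
  rw [reassoc_of% transX_α h, F_map_ι]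

theorem b_compat {τ τ' : (coverY hF).I₀} (h : τ ⟶ τ') :
    (coverY hF).trans h ≫ (fun τ : GoodPair i j => τ.β ≫ ι τ) τ' =
      (fun τ : GoodPair i j => τ.β ≫ ι τ) τ := by
  change transY (leOfHom h) ≫ GoodPair.β _ ≫ ι _ = GoodPair.β _ ≫ ι _
  rw [reassoc_of% transY_β h, F_map_ι]

/-- the map `X ⟶ P`. -/
noncomputable def a : X ⟶ P i j :=
  (coverX hF).glueMorphismsOfLocallyDirected (fun τ : GoodPair i j => τ.α ≫ ι τ)
    (fun h => a_compat hF h)

/-- the map `Y ⟶ P`. -/
noncomputable def b : Y ⟶ P i j :=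
  (coverY hF).glueMorphismsOfLocallyDirected (fun τ : GoodPair i j => τ.β ≫ ι τ)
    (fun h => b_compat hF h)

@[reassoc]
theorem fromSpec_a (τ : GoodPair i j) : τ.hU.fromSpec ≫ a hF = τ.α ≫ ι τ :=
  (coverX hF).map_glueMorphismsOfLocallyDirected (fun τ : GoodPair i j => τ.α ≫ ι τ)
    (fun h => a_compat hF h) τ

@[reassoc]
theorem fromSpec_b (τ : GoodPair i j) : τ.hV.fromSpec ≫ b hF = τ.β ≫ ι τ :=
  (coverY hF).map_glueMorphismsOfLocallyDirected (fun τ : GoodPair i j => τ.β ≫ ι τ)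
    (fun h => b_compat hF h) τ

theorem comm : i ≫ a hF = j ≫ b hF := by
  apply (coverZ hF).hom_ext
  intro τ
  change τ.hW.fromSpec ≫ i ≫ a hF = τ.hW.fromSpec ≫ j ≫ b hF
  rw [← reassoc_of% τ.iSpec_fromSpec, ← reassoc_of% τ.jSpec_fromSpec, fromSpec_a, fromSpec_b,
    reassoc_of% τ.isPushout_chart.w]

section desc

variable {T : Scheme.{u}} (gX : X ⟶ T) (gY : Y ⟶ T) (hg : i ≫ gX = j ≫ gY)

include hg in
theorem chart_compat (τ : GoodPair i j) :
    τ.iSpec ≫ τ.hU.fromSpec ≫ gX = τ.jSpec ≫ τ.hV.fromSpec ≫ gY := by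
  rw [reassoc_of% τ.iSpec_fromSpec, reassoc_of% τ.jSpec_fromSpec, hg]

/-- the descent map on a chart. -/
noncomputable def descChart (τ : GoodPair i j) : (F i j).obj τ ⟶ T :=
  τ.isPushout_chart.desc (τ.hU.fromSpec ≫ gX) (τ.hV.fromSpec ≫ gY) (chart_compat gX gY hg τ)

@[reassoc]
theorem α_descChart (τ : GoodPair i j) : τ.α ≫ descChart gX gY hg τ = τ.hU.fromSpec ≫ gX :=
  τ.isPushout_chart.inl_desc _ _ _

@[reassoc]
theorem β_descChart (τ : GoodPair i j) : τ.β ≫ descChart gX gY hg τ = τ.hV.fromSpec ≫ gY :=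
  τ.isPushout_chart.inr_desc _ _ _

theorem F_map_descChart {τ τ' : GoodPair i j} (h : τ ⟶ τ') :
    (F i j).map h ≫ descChart gX gY hg τ' = descChart gX gY hg τ := by
  apply τ.isPushout_chart.hom_ext
  · rw [← reassoc_of% transX_α h, α_descChart, α_descChart, reassoc_of% transX_fromSpec]
  · rw [← reassoc_of% transY_β h, β_descChart, β_descChart, reassoc_of% transY_fromSpec]

/-- the descent map. -/
noncomputable def desc : P i j ⟶ T :=
  colimit.desc (F i j) ⟨T, { app := fun τ => descChart gX gY hg τ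
                             naturality := fun τ τ' h => by
                               dsimp
                               rw [F_map_descChart, Category.comp_id] }⟩

@[reassoc]
theorem ι_desc (τ : GoodPair i j) : ι τ ≫ desc gX gY hg = descChart gX gY hg τ :=
  colimit.ι_desc _ τ

theorem a_desc : a hF ≫ desc gX gY hg = gX := by
  apply (coverX hF).hom_ext
  intro τ
  change τ.hU.fromSpec ≫ a hF ≫ desc gX gY hg = τ.hU.fromSpec ≫ gX
  rw [reassoc_of% fromSpec_a, ι_desc, α_descChart]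

theorem b_desc : b hF ≫ desc gX gY hg = gY := by
  apply (coverY hF).hom_ext
  intro τ
  change τ.hV.fromSpec ≫ b hF ≫ desc gX gY hg = τ.hV.fromSpec ≫ gY
  rw [reassoc_of% fromSpec_b, ι_desc, β_descChart]

end desc

theorem hom_ext' {T : Scheme.{u}} (m m' : P i j ⟶ T) (ha : a hF ≫ m = a hF ≫ m')
    (hb : b hF ≫ m = b hF ≫ m') : m = m' := by
  apply colimit.hom_ext
  intro τ
  change ι τ ≫ m = ι τ ≫ m'
  apply τ.isPushout_chart.hom_ext
  · rw [← reassoc_of% fromSpec_a hF, ← reassoc_of% fromSpec_a hF, ha]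
  · rw [← reassoc_of% fromSpec_b hF, ← reassoc_of% fromSpec_b hF, hb]

/-- **Ferrand's theorem**: the pinching `P` is the pushout of `X` and `Y` along `Z`. -/
theorem isPushout : IsPushout i j (a hF) (b hF) := by
  refine ⟨⟨comm hF⟩, ⟨PushoutCocone.IsColimit.mk _ (fun s => desc s.inl s.inr s.condition)
    (fun s => a_desc hF _ _ _) (fun s => b_desc hF _ _ _) (fun s m h₁ h₂ => ?_)⟩⟩
  apply hom_ext' hF
  · rw [h₁, a_desc]
  · rw [h₂, b_desc]

end Groth.Agent.Lib.Helper79.Ferrand
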