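import Groth.Agent.Lib.Helper79.FerrandOrder

/-!
# Ferrand pinching: refinement lemmas for good pairs
-/

set_option autoImplicit false
universe u

open AlgebraicGeometry CategoryTheory Limits TopologicalSpace Opposite

namespace Groth.Agent.Lib.Helper79.Ferrand

open Groth.Agent.Lib.Helper79.FerrandRing Groth.Agent.Lib.Helper6.PinchAlg

variable {X Y Z : Scheme.{u}} {i : Z ⟶ X} {j : Z ⟶ Y}

namespace GoodPair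

variable (τ : GoodPair i j)

theorem mem_W {z : Z} : z ∈ τ.W ↔ i z ∈ τ.U := Iff.rfl

theorem mem_W' {z : Z} : z ∈ τ.W ↔ j z ∈ τ.V := by
  rw [W_eq]; rfl

/-- Lemma R1: basic refinement around a point of `V`. -/
theorem exists_basic_of_mem_V [IsClosedImmersion i] (NX : X.Opens) (NY : Y.Opens)
    (hN : ∀ z : Z, z ∈ τ.W → j z ∈ NY → i z ∈ NX) (y : Y) (hy : y ∈ NY) (hyV : y ∈ τ.V) :
    ∃ c : τ.C, y ∈ (τ.basic c).V ∧ (τ.basic c).V ≤ NY ∧ (τ.basic c).U ≤ NX := by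
  obtain ⟨g, hgN, hyg⟩ := τ.hV.exists_basicOpen_le (V := NY) ⟨y, hy⟩ hyV
  let K : Ideal Γ(X, τ.U) :=
    ⨅ 𝔮 : {𝔮 : PrimeSpectrum Γ(X, τ.U) // τ.hU.fromSpec 𝔮 ∉ NX}, 𝔮.1.asIdeal
  have hKmem : ∀ s : Γ(X, τ.U), X.basicOpen s ≤ NX → s ∈ K := by
    intro s hs
    rw [Ideal.mem_iInf]
    rintro ⟨𝔮, h𝔮⟩
    by_contra hsx
    exact h𝔮 (hs ((mem_basicOpen_fromSpec τ.hU 𝔮 s).mpr hsx))
  have hKle : ∀ k ∈ K, X.basicOpen k ≤ NX := by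
    intro k hk x hx
    obtain ⟨𝔮, rfl⟩ := exists_fromSpec_eq τ.hU x (X.basicOpen_le k hx)
    by_contra hxN
    exact (mem_basicOpen_fromSpec τ.hU 𝔮 k).mp hx ((Ideal.mem_iInf.mp hk) ⟨𝔮, hxN⟩)
  have hrad : τ.qHom g ∈ (K.map τ.pHom).radical := by
    rw [Ideal.radical_eq_sInf, Ideal.mem_sInf]
    rintro 𝔮 ⟨hle, hprime⟩
    by_contra hg
    set z := τ.hW.fromSpec ⟨𝔮, hprime⟩ with hz
    have hzW : z ∈ τ.W := fromSpec_mem τ.hW _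
    have hz1 : z ∈ Z.basicOpen (τ.qHom g) := (mem_basicOpen_fromSpec τ.hW _ _).mpr hg
    rw [basicOpen_qHom] at hz1
    have hz2 : i z ∈ NX := hN z hzW (hgN hz1)
    obtain ⟨s, hs1, hs2⟩ := τ.hU.exists_basicOpen_le (V := NX) ⟨i z, hz2⟩ hzW
    have hs3 : τ.pHom s ∈ 𝔮 := hle (Ideal.mem_map_of_mem _ (hKmem s hs1))
    have hs4 : z ∈ Z.basicOpen (τ.pHom s) := by
      rw [basicOpen_pHom]; exact hs2
    exact (mem_basicOpen_fromSpec τ.hW _ _).mp hs4 hs3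
  obtain ⟨n, hn⟩ := hrad
  have hn1 : τ.qHom (g ^ (n + 1)) ∈ K.map τ.pHom := by
    rw [map_pow, pow_succ]
    exact Ideal.mul_mem_right _ _ hn
  obtain ⟨k, hkK, hk⟩ := (Ideal.mem_map_iff_of_surjective τ.pHom τ.pHom_surjective).mp hn1
  refine ⟨fpMk τ.qHom τ.pHom (g ^ (n + 1)) k hk.symm, ?_, ?_, ?_⟩
  · change y ∈ Y.basicOpen (g ^ (n + 1))
    rw [Scheme.basicOpen_pow _ _ (Nat.succ_pos n)]
    exact hyg
  · change Y.basicOpen (g ^ (n + 1)) ≤ NY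
    rw [Scheme.basicOpen_pow _ _ (Nat.succ_pos n)]
    exact hgN
  · exact hKle k hkK

/-- Lemma R2: basic refinement around a point of `U` off `Z`. -/
theorem exists_basic_of_mem_U [IsClosedImmersion i] (NX : X.Opens) (x : X) (hx : x ∈ NX)
    (hxU : x ∈ τ.U) (hxZ : x ∉ Set.range i) :
    ∃ c : τ.C, x ∈ (τ.basic c).U ∧ (τ.basic c).U ≤ NX ∧ (τ.basic c).V = ⊥ := by
  let O : X.Opens := ⟨(Set.range i)ᶜ, i.isClosedEmbedding.isClosed_range.isOpen_compl⟩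
  obtain ⟨s, hs1, hs2⟩ := τ.hU.exists_basicOpen_le (V := NX ⊓ O) ⟨x, hx, hxZ⟩ hxU
  have hbot : Z.basicOpen (τ.pHom s) = ⊥ := by
    rw [basicOpen_pHom, eq_bot_iff]
    intro z hz
    exact (hs1 hz).2 ⟨z, rfl⟩
  obtain ⟨n, hn⟩ := isNilpotent_of_basicOpen_eq_bot τ.hW _ hbot
  have hk : τ.qHom 0 = τ.pHom (s ^ (n + 1)) := by
    rw [map_zero, map_pow, pow_succ, hn, zero_mul]
  refine ⟨fpMk τ.qHom τ.pHom 0 (s ^ (n + 1)) hk, ?_, ?_, ?_⟩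
  · change x ∈ X.basicOpen (s ^ (n + 1))
    rw [Scheme.basicOpen_pow _ _ (Nat.succ_pos n)]
    exact hs2
  · change X.basicOpen (s ^ (n + 1)) ≤ NX
    rw [Scheme.basicOpen_pow _ _ (Nat.succ_pos n)]
    exact hs1.trans inf_le_left
  · change Y.basicOpen (0 : Γ(Y, τ.V)) = ⊥
    exact Scheme.basicOpen_zero _ _

/-- refinement around a point of `Y`. -/
theorem exists_le_of_mem_V [IsClosedImmersion i] (τ₁ τ₂ : GoodPair i j) (y : Y) (h₁ : y ∈ τ₁.V)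
    (h₂ : y ∈ τ₂.V) : ∃ l : GoodPair i j, l ≤ τ₁ ∧ l ≤ τ₂ ∧ y ∈ l.V := by
  obtain ⟨c₁, hy₁, hV₁, hU₁⟩ := τ₁.exists_basic_of_mem_V (τ₁.U ⊓ τ₂.U) (τ₁.V ⊓ τ₂.V)
    (fun z hz hjz => ⟨hz, (τ₂.mem_W).mp ((τ₂.mem_W').mpr hjz.2)⟩) y ⟨h₁, h₂⟩ h₁
  set l₁ := τ₁.basic c₁ with hl₁
  obtain ⟨c₂, hy₂, hV₂, hU₂⟩ := τ₂.exists_basic_of_mem_V l₁.U l₁.V
    (fun z _ hjz => (l₁.mem_W).mp ((l₁.mem_W').mpr hjz)) y hy₁ h₂
  refine ⟨τ₂.basic c₂, ?_, τ₂.basic_le c₂, hy₂⟩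
  have h3 : τ₂.basic c₂ ≤ l₁ :=
    ⟨_, τ₂.basic_eq_basic_resHom (hU₁.trans inf_le_right) (hV₁.trans inf_le_right) c₂ hU₂ hV₂⟩
  exact le_trans' h3 (τ₁.basic_le c₁)

/-- refinement around a point of `X`. -/
theorem exists_le_of_mem_U [IsClosedImmersion i] (τ₁ τ₂ : GoodPair i j) (x : X) (h₁ : x ∈ τ₁.U)
    (h₂ : x ∈ τ₂.U) : ∃ l : GoodPair i j, l ≤ τ₁ ∧ l ≤ τ₂ ∧ x ∈ l.U := by
  by_cases hxZ : x ∈ Set.range i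
  · obtain ⟨z, rfl⟩ := hxZ
    obtain ⟨l, hl₁, hl₂, hl⟩ := exists_le_of_mem_V τ₁ τ₂ (j z)
      ((τ₁.mem_W').mp ((τ₁.mem_W).mpr h₁)) ((τ₂.mem_W').mp ((τ₂.mem_W).mpr h₂))
    exact ⟨l, hl₁, hl₂, (l.mem_W).mp ((l.mem_W').mpr hl)⟩
  · obtain ⟨c₁, hx₁, hU₁, hV₁⟩ := τ₁.exists_basic_of_mem_U (τ₁.U ⊓ τ₂.U) x ⟨h₁, h₂⟩ h₁ hxZ
    set l₁ := τ₁.basic c₁ with hl₁
    obtain ⟨c₂, hx₂, hU₂, hV₂⟩ := τ₂.exists_basic_of_mem_U l₁.U x hx₁ h₂ hxZ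
    refine ⟨τ₂.basic c₂, ?_, τ₂.basic_le c₂, hx₂⟩
    have h3 : τ₂.basic c₂ ≤ l₁ :=
      ⟨_, τ₂.basic_eq_basic_resHom (hU₁.trans inf_le_right) (by rw [hV₁]; exact bot_le) c₂ hU₂
        (by rw [hV₂]; exact bot_le)⟩
    exact le_trans' h3 (τ₁.basic_le c₁)

end GoodPair

end Groth.Agent.Lib.Helper79.Ferrand
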