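import Mathlib
import Groth.Agent.Lib.Helper6.PinchAlg

/-!
# Fibre products of rings and their localizations (ring level of Ferrand pinching)
-/

set_option autoImplicit false

namespace Groth.Agent.Lib.Helper79.FerrandRing

open Groth.Agent.Lib.Helper6.PinchAlg

/-- a ring map which behaves like a localization away from `f` is one. -/
theorem IsAwayHom.isLocalization {R R' : Type*} [CommRing R] [CommRing R'] (l : R →+* R') (f : R)
    (h : IsAwayHom l f) : @IsLocalization.Away R _ f R' _ l.toAlgebra := by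
  letI := l.toAlgebra
  have hl : ∀ x, algebraMap R R' x = l x := fun _ => rfl
  refine ⟨?_, ?_, ?_⟩
  · rintro ⟨y, n, rfl⟩
    rw [hl, map_pow]
    exact h.unit.pow n
  · intro z
    obtain ⟨x, n, hx⟩ := h.surj z
    refine ⟨(x, ⟨f ^ n, n, rfl⟩), ?_⟩
    rw [hl, hl, map_pow]
    exact hx
  · intro x y hxy
    rw [hl, hl] at hxy
    have h0 : l (x - y) = 0 := by rw [map_sub, hxy, sub_self]
    obtain ⟨n, hn⟩ := h.ker _ h0
    refine ⟨⟨f ^ n, n, rfl⟩, ?_⟩
    rw [mul_sub] at hn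
    exact sub_eq_zero.mp hn

section fp

variable {B A' A : Type*} [CommRing B] [CommRing A'] [CommRing A] (q : B →+* A) (p : A' →+* A)

/-- the fibre product ring `B ×_A A'` as a subring of the product. -/
def fp : Subring (B × A') :=
  (q.comp (RingHom.fst B A')).eqLocus (p.comp (RingHom.snd B A'))

theorem mem_fp {x : B × A'} : x ∈ fp q p ↔ q x.1 = p x.2 := Iff.rfl

/-- first projection. -/
def fpFst : fp q p →+* B := (RingHom.fst B A').comp (fp q p).subtype

/-- second projection. -/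
def fpSnd : fp q p →+* A' := (RingHom.snd B A').comp (fp q p).subtype

@[simp] theorem fpFst_apply (c : fp q p) : fpFst q p c = c.1.1 := rfl
@[simp] theorem fpSnd_apply (c : fp q p) : fpSnd q p c = c.1.2 := rfl

theorem fp_comm (c : fp q p) : q (fpFst q p c) = p (fpSnd q p c) := c.2

/-- constructor. -/
def fpMk (b : B) (a' : A') (h : q b = p a') : fp q p := ⟨(b, a'), h⟩

@[simp] theorem fpFst_mk (b : B) (a' : A') (h : q b = p a') : fpFst q p (fpMk q p b a' h) = b := rfl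
@[simp] theorem fpSnd_mk (b : B) (a' : A') (h : q b = p a') : fpSnd q p (fpMk q p b a' h) = a' :=
  rfl

theorem fp_ext {c c' : fp q p} (h1 : fpFst q p c = fpFst q p c') (h2 : fpSnd q p c = fpSnd q p c') :
    c = c' := by
  apply Subtype.ext
  exact Prod.ext h1 h2

theorem fp_hPB (b : B) (a' : A') (h : q b = p a') :
    ∃ c : fp q p, fpFst q p c = b ∧ fpSnd q p c = a' := ⟨fpMk q p b a' h, rfl, rfl⟩

theorem fp_hINJ (c : fp q p) (h1 : fpFst q p c = 0) (h2 : fpSnd q p c = 0) : c = 0 :=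
  fp_ext q p (by rw [h1, map_zero]) (by rw [h2, map_zero])

theorem fpFst_surjective (hp : Function.Surjective p) : Function.Surjective (fpFst q p) := by
  intro b
  obtain ⟨a', ha'⟩ := hp (q b)
  exact ⟨fpMk q p b a' ha'.symm, rfl⟩

section map

variable {B₁ A'₁ A₁ : Type*} [CommRing B₁] [CommRing A'₁] [CommRing A₁]
  (q₁ : B₁ →+* A₁) (p₁ : A'₁ →+* A₁) (lB : B →+* B₁) (lA' : A' →+* A'₁) (lA : A →+* A₁)
  (hq : ∀ b, q₁ (lB b) = lA (q b)) (hp : ∀ a', p₁ (lA' a') = lA (p a'))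

/-- functoriality of the fibre product. -/
def fpMap : fp q p →+* fp q₁ p₁ :=
  ((RingHom.prodMap lB lA').comp (fp q p).subtype).codRestrict (fp q₁ p₁) (fun c => by
    change q₁ (lB c.1.1) = p₁ (lA' c.1.2)
    rw [hq, hp, show q c.1.1 = p c.1.2 from c.2])

@[simp] theorem fpFst_fpMap (c : fp q p) :
    fpFst q₁ p₁ (fpMap q p q₁ p₁ lB lA' lA hq hp c) = lB (fpFst q p c) := rfl

@[simp] theorem fpSnd_fpMap (c : fp q p) :
    fpSnd q₁ p₁ (fpMap q p q₁ p₁ lB lA' lA hq hp c) = lA' (fpSnd q p c) := rfl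

/-- the fibre product of localizations is the localization of the fibre product. -/
theorem isAwayHom_fpMap (c : fp q p) (hB : IsAwayHom lB (fpFst q p c))
    (hA' : IsAwayHom lA' (fpSnd q p c)) (hA : IsAwayHom lA (q (fpFst q p c))) :
    IsAwayHom (fpMap q p q₁ p₁ lB lA' lA hq hp) c := by
  set g := fpFst q p c with hg
  set f := fpSnd q p c with hf
  have hgf : q g = p f := fp_comm q p c
  have he : q₁ (lB g) = p₁ (lA' f) := by rw [hq, hp, hgf]
  refine ⟨?_, ?_, ?_⟩
  · -- unit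
    obtain ⟨vB, hvB⟩ := isUnit_iff_exists_inv.mp hB.unit
    obtain ⟨vA', hvA'⟩ := isUnit_iff_exists_inv.mp hA'.unit
    have hv : q₁ vB = p₁ vA' := by
      have h1 : q₁ vB * q₁ (lB g) = 1 := by rw [← map_mul, mul_comm, hvB, map_one]
      have h2 : q₁ (lB g) * p₁ vA' = 1 := by rw [he, ← map_mul, hvA', map_one]
      calc q₁ vB = q₁ vB * (q₁ (lB g) * p₁ vA') := by rw [h2, mul_one]
        _ = (q₁ vB * q₁ (lB g)) * p₁ vA' := by ring
        _ = p₁ vA' := by rw [h1, one_mul]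
    rw [isUnit_iff_exists_inv]
    refine ⟨fpMk q₁ p₁ vB vA' hv, ?_⟩
    apply fp_ext
    · rw [map_mul, fpFst_fpMap, fpFst_mk, map_one]; exact hvB
    · rw [map_mul, fpSnd_fpMap, fpSnd_mk, map_one]; exact hvA'
  · -- surj
    intro x'
    obtain ⟨b, n, hb⟩ := hB.surj (fpFst q₁ p₁ x')
    obtain ⟨a', n', ha'⟩ := hA'.surj (fpSnd q₁ p₁ x')
    have hb₁ : fpFst q₁ p₁ x' * lB g ^ (n + n') = lB (b * g ^ n') := by
      rw [pow_add, ← mul_assoc, hb, map_mul, map_pow]
    have ha₁ : fpSnd q₁ p₁ x' * lA' f ^ (n + n') = lA' (a' * f ^ n) := by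
      rw [pow_add, mul_comm (lA' f ^ n), ← mul_assoc, ha', map_mul, map_pow]
    have e3 : lA (q (b * g ^ n') - p (a' * f ^ n)) = 0 := by
      rw [map_sub, ← hq, ← hp, ← hb₁, ← ha₁, map_mul, map_mul, map_pow, map_pow, he,
        fp_comm q₁ p₁ x', sub_self]
    obtain ⟨m, hm⟩ := hA.ker _ e3
    have e4 : q (g ^ m * (b * g ^ n')) = p (f ^ m * (a' * f ^ n)) := by
      rw [map_mul, map_mul p, map_pow, map_pow p, ← hgf, ← sub_eq_zero, ← mul_sub]
      exact hm
    refine ⟨fpMk q p _ _ e4, n + n' + m, ?_⟩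
    apply fp_ext
    · rw [map_mul, map_pow, fpFst_fpMap, fpFst_fpMap, fpFst_mk, ← hg, map_mul, map_pow,
        ← hb₁, pow_add _ (n + n') m]
      ring
    · rw [map_mul, map_pow, fpSnd_fpMap, fpSnd_fpMap, fpSnd_mk, ← hf, map_mul, map_pow,
        ← ha₁, pow_add _ (n + n') m]
      ring
  · -- ker
    intro c₀ hc₀
    have e1 : lB (fpFst q p c₀) = 0 := by
      rw [← fpFst_fpMap q p q₁ p₁ lB lA' lA hq hp, hc₀, map_zero]
    have e2 : lA' (fpSnd q p c₀) = 0 := by
      rw [← fpSnd_fpMap q p q₁ p₁ lB lA' lA hq hp, hc₀, map_zero]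
    obtain ⟨m, hm⟩ := hB.ker _ e1
    obtain ⟨m', hm'⟩ := hA'.ker _ e2
    refine ⟨m + m', ?_⟩
    apply fp_hINJ
    · rw [map_mul, map_pow, ← hg, pow_add, mul_comm (g ^ m), mul_assoc, hm, mul_zero]
    · rw [map_mul, map_pow, ← hf, pow_add, mul_assoc, hm', mul_zero]

end map

end fp

end Groth.Agent.Lib.Helper79.FerrandRing
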