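import Groth.Agent.S6900
import Groth.Agent.Lib.Helper79.FerrandRing

/-!
# Ring-hom form of the Milnor square algebra properties, for explicit fibre products
-/

set_option autoImplicit false
universe u
open TensorProduct CategoryTheory

namespace Groth.Agent.Lib.Helper79.MilnorAlg

open Groth.Agent.Lib.Helper79.FerrandRing

theorem fpMap_props {B A' A D C' C : Type u} [CommRing B] [CommRing A'] [CommRing A]
    [CommRing D] [CommRing C'] [CommRing C]
    (q : B →+* A) (p : A' →+* A) (hp : Function.Surjective p)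
    (q₁ : D →+* C) (p₁ : C' →+* C) (hp₁ : Function.Surjective p₁)
    (lB : B →+* D) (lA' : A' →+* C') (lA : A →+* C)
    (hq : ∀ b, q₁ (lB b) = lA (q b)) (hp' : ∀ a', p₁ (lA' a') = lA (p a'))
    (hPO1 : IsPushout (CommRingCat.ofHom lB) (CommRingCat.ofHom q) (CommRingCat.ofHom q₁)
      (CommRingCat.ofHom lA))
    (hPO2 : IsPushout (CommRingCat.ofHom lA') (CommRingCat.ofHom p) (CommRingCat.ofHom p₁)
      (CommRingCat.ofHom lA)) :
    ((fpMap q p q₁ p₁ lB lA' lA hq hp').FiniteType ↔ lB.FiniteType ∧ lA'.FiniteType) ∧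
    ((fpMap q p q₁ p₁ lB lA' lA hq hp').Flat ↔ lB.Flat ∧ lA'.Flat) ∧
    ((fpMap q p q₁ p₁ lB lA' lA hq hp').Flat ∧
        (fpMap q p q₁ p₁ lB lA' lA hq hp').FinitePresentation ↔
      (lB.Flat ∧ lB.FinitePresentation) ∧ (lA'.Flat ∧ lA'.FinitePresentation)) ∧
    ((fpMap q p q₁ p₁ lB lA' lA hq hp').Smooth ↔ lB.Smooth ∧ lA'.Smooth) ∧
    ((fpMap q p q₁ p₁ lB lA' lA hq hp').Etale ↔ lB.Etale ∧ lA'.Etale) := by
  letI a1 : Algebra (fp q p) B := (fpFst q p).toAlgebra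
  letI a2 : Algebra (fp q p) A' := (fpSnd q p).toAlgebra
  letI a3 : Algebra B A := q.toAlgebra
  letI a4 : Algebra A' A := p.toAlgebra
  letI a5 : Algebra (fp q p) A := (p.comp (fpSnd q p)).toAlgebra
  haveI t1 : IsScalarTower (fp q p) B A :=
    IsScalarTower.of_algebraMap_eq (fun c => (fp_comm q p c).symm)
  haveI t2 : IsScalarTower (fp q p) A' A := IsScalarTower.of_algebraMap_eq (fun _ => rfl)
  letI b1 : Algebra (fp q₁ p₁) D := (fpFst q₁ p₁).toAlgebra
  letI b2 : Algebra (fp q₁ p₁) C' := (fpSnd q₁ p₁).toAlgebra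
  letI b3 : Algebra D C := q₁.toAlgebra
  letI b4 : Algebra C' C := p₁.toAlgebra
  letI b5 : Algebra (fp q₁ p₁) C := (p₁.comp (fpSnd q₁ p₁)).toAlgebra
  haveI u1 : IsScalarTower (fp q₁ p₁) D C :=
    IsScalarTower.of_algebraMap_eq (fun c => (fp_comm q₁ p₁ c).symm)
  haveI u2 : IsScalarTower (fp q₁ p₁) C' C := IsScalarTower.of_algebraMap_eq (fun _ => rfl)
  have hsq : EtMil.IsFibreSquare (fp q p) B A' A :=
    ⟨hp, fun b a' hba => ⟨fpMk q p b a' hba, ⟨rfl, rfl⟩, fun c hc => fp_ext q p hc.1 hc.2⟩⟩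
  have hsq' : EtMil.IsFibreSquare (fp q₁ p₁) D C' C :=
    ⟨hp₁, fun b a' hba => ⟨fpMk q₁ p₁ b a' hba, ⟨rfl, rfl⟩, fun c hc => fp_ext q₁ p₁ hc.1 hc.2⟩⟩
  letI c1 : Algebra (fp q p) (fp q₁ p₁) := (fpMap q p q₁ p₁ lB lA' lA hq hp').toAlgebra
  letI c2 : Algebra B D := lB.toAlgebra
  letI c3 : Algebra A' C' := lA'.toAlgebra
  letI c4 : Algebra A C := lA.toAlgebra
  letI c5 : Algebra (fp q p) D := (lB.comp (fpFst q p)).toAlgebra
  haveI v1 : IsScalarTower (fp q p) B D := IsScalarTower.of_algebraMap_eq (fun _ => rfl)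
  haveI v2 : IsScalarTower (fp q p) (fp q₁ p₁) D := IsScalarTower.of_algebraMap_eq (fun _ => rfl)
  letI c6 : Algebra (fp q p) C' := (lA'.comp (fpSnd q p)).toAlgebra
  haveI v3 : IsScalarTower (fp q p) A' C' := IsScalarTower.of_algebraMap_eq (fun _ => rfl)
  haveI v4 : IsScalarTower (fp q p) (fp q₁ p₁) C' := IsScalarTower.of_algebraMap_eq (fun _ => rfl)
  letI c7 : Algebra B C := (lA.comp q).toAlgebra
  haveI v5 : IsScalarTower B A C := IsScalarTower.of_algebraMap_eq (fun _ => rfl)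
  haveI v6 : IsScalarTower B D C := IsScalarTower.of_algebraMap_eq (fun b => (hq b).symm)
  letI c8 : Algebra A' C := (lA.comp p).toAlgebra
  haveI v7 : IsScalarTower A' A C := IsScalarTower.of_algebraMap_eq (fun _ => rfl)
  haveI v8 : IsScalarTower A' C' C := IsScalarTower.of_algebraMap_eq (fun a' => (hp' a').symm)
  haveI w1 : Algebra.IsPushout B D A C := CommRingCat.isPushout_iff_isPushout.mp hPO1
  haveI w2 : Algebra.IsPushout A' C' A C := CommRingCat.isPushout_iff_isPushout.mp hPO2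
  exact Groth.Agent.S6900.result (fp q p) B A' A hsq (fp q₁ p₁) D C' C hsq'

end Groth.Agent.Lib.Helper79.MilnorAlg
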