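import Groth.Agent.Lib.Helper79.FerrandCokerBC
import Groth.Agent.Lib.Helper79.MilnorAlgRel

/-!
# Morphisms between pinchings: charts over charts
-/

set_option autoImplicit false
universe u

open AlgebraicGeometry CategoryTheory Limits TopologicalSpace Opposite

namespace Groth.Agent.Lib.Helper79.Ferrand

open Groth.Agent.Lib.Helper79.FerrandRing

section single

variable {X Y Z P : Scheme.{u}} {i : Z ⟶ X} {j : Z ⟶ Y} [IsClosedImmersion i]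
  (hF : Cond i j) {a : X ⟶ P} {b : Y ⟶ P} (hP : IsPushout i j a b)

theorem mem_U_of_a_mem_range_χ (τ : GoodPair i j) {x : X}
    (hx : a x ∈ Set.range (χ hF hP τ)) : x ∈ τ.U := by
  obtain ⟨c, hc⟩ := hx
  obtain ⟨z, hz1, -⟩ := Scheme.exists_preimage_of_isPullback (isPullback_χ_a hF hP τ) x c hc.symm
  have : τ.hU.fromSpec z ∈ Set.range τ.hU.fromSpec := ⟨z, rfl⟩
  rw [τ.hU.range_fromSpec] at this
  have hz1' : τ.hU.fromSpec z = x := hz1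
  rw [hz1'] at this
  exact this

theorem mem_V_of_b_mem_range_χ (τ : GoodPair i j) {y : Y}
    (hy : b y ∈ Set.range (χ hF hP τ)) : y ∈ τ.V := by
  obtain ⟨c, hc⟩ := hy
  obtain ⟨z, hz1, -⟩ := Scheme.exists_preimage_of_isPullback (isPullback_χ_b hF hP τ) y c hc.symm
  have : τ.hV.fromSpec z ∈ Set.range τ.hV.fromSpec := ⟨z, rfl⟩
  rw [τ.hV.range_fromSpec] at this
  have hz1' : τ.hV.fromSpec z = y := hz1
  rw [hz1'] at this
  exact this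

omit [IsClosedImmersion i] in
/-- every point of `P i j` lies in a chart inside a given open. -/
theorem exists_small_chart_of_open [IsClosedImmersion i] (x : Ferrand.P i j)
    (O : (Ferrand.P i j).Opens) (hx : x ∈ O) :
    ∃ (τ : GoodPair i j), x ∈ Set.range (ι τ) ∧ Set.range (ι τ) ⊆ (O : Set (Ferrand.P i j)) := by
  obtain ⟨τ₀, x₀, rfl⟩ := ι_jointly_surjective x
  have hO : IsOpen ((ι τ₀) ⁻¹' (O : Set (Ferrand.P i j))) := O.isOpen.preimage (ι τ₀).continuous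
  obtain ⟨_, ⟨c, rfl⟩, hx₀c, hcO⟩ :=
    PrimeSpectrum.isTopologicalBasis_basic_opens.exists_subset_of_mem_open
      (show x₀ ∈ (ι τ₀) ⁻¹' (O : Set (Ferrand.P i j)) from hx) hO
  let h : τ₀.basic c ⟶ τ₀ := homOfLE ⟨c, rfl⟩
  have hr : Set.range ((F i j).map h) = (PrimeSpectrum.basicOpen c : Set (PrimeSpectrum τ₀.C)) :=
    range_basic τ₀ c
  refine ⟨τ₀.basic c, ?_, ?_⟩
  · have : x₀ ∈ Set.range ((F i j).map h) := by rw [hr]; exact hx₀c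
    obtain ⟨y, rfl⟩ := this
    refine ⟨y, ?_⟩
    rw [← F_map_ι h, Scheme.Hom.comp_apply]
  · rintro _ ⟨y, rfl⟩
    rw [← F_map_ι h, Scheme.Hom.comp_apply]
    apply hcO
    change ((F i j).map h) y ∈ (PrimeSpectrum.basicOpen c : Set (PrimeSpectrum τ₀.C))
    rw [← hr]
    exact ⟨y, rfl⟩

include hF hP in
/-- every point of `P` lies in a chart inside a given open. -/
theorem exists_χ_subset (p : P) (O : P.Opens) (hp : p ∈ O) :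
    ∃ (τ : GoodPair i j), p ∈ Set.range (χ hF hP τ) ∧ Set.range (χ hF hP τ) ⊆ (O : Set P) := by
  obtain ⟨τ, hx, hτ⟩ := exists_small_chart_of_open ((isoP hF hP).inv p)
    ((isoP hF hP).hom ⁻¹ᵁ O) (by
      change (isoP hF hP).hom ((isoP hF hP).inv p) ∈ O
      rw [← Scheme.Hom.comp_apply, Iso.inv_hom_id]
      exact hp)
  refine ⟨τ, ?_, ?_⟩
  · obtain ⟨x, hx⟩ := hx
    refine ⟨x, ?_⟩
    have hx' : ιS τ x = (isoP hF hP).inv p := hx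
    rw [χ, Scheme.Hom.comp_apply, hx', ← Scheme.Hom.comp_apply, Iso.inv_hom_id]
    rfl
  · rintro _ ⟨x, rfl⟩
    have : ι τ x ∈ ((isoP hF hP).hom ⁻¹ᵁ O : (Ferrand.P i j).Opens) := hτ ⟨x, rfl⟩
    exact this

end single

section rel

variable {X Y Z P : Scheme.{u}} {i : Z ⟶ X} {j : Z ⟶ Y} [IsClosedImmersion i]
  (hF : Cond i j) {a : X ⟶ P} {b : Y ⟶ P} (hP : IsPushout i j a b)
  {X' Y' Z' P' : Scheme.{u}} {i' : Z' ⟶ X'} {j' : Z' ⟶ Y'} [IsClosedImmersion i']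
  (hF' : Cond i' j') {a' : X' ⟶ P'} {b' : Y' ⟶ P'} (hP' : IsPushout i' j' a' b')
  {f : X' ⟶ X} {g : Y' ⟶ Y} {c : Z' ⟶ Z} (hX : IsPullback i' c f i) (hY : IsPullback j' c g j)
  (h : P' ⟶ P) (ha : a' ≫ h = f ≫ a) (hb : b' ≫ h = g ≫ b)
  (τ : GoodPair i j) (τ' : GoodPair i' j') (hU : τ'.U ≤ f ⁻¹ᵁ τ.U) (hV : τ'.V ≤ g ⁻¹ᵁ τ.V)

include hX hU in
theorem le_W : τ'.W ≤ c ⁻¹ᵁ τ.W := by
  intro z' hz'
  have h1 : f (i' z') ∈ τ.U := hU hz'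
  have h2 : (i' ≫ f) z' ∈ τ.U := h1
  rw [hX.w] at h2
  exact h2

theorem appLE_congr' {S T : Scheme.{u}} {m₁ m₂ : S ⟶ T} (e : m₁ = m₂) (U : T.Opens) (V : S.Opens)
    (h₁ : V ≤ m₁ ⁻¹ᵁ U) (h₂ : V ≤ m₂ ⁻¹ᵁ U) : m₁.appLE U V h₁ = m₂.appLE U V h₂ := by
  subst e; rfl

/-- `Γ(X,U) → Γ(X',U')` -/
noncomputable def lX : Γ(X, τ.U) →+* Γ(X', τ'.U) := (f.appLE τ.U τ'.U hU).hom
/-- `Γ(Y,V) → Γ(Y',V')` -/
noncomputable def lY : Γ(Y, τ.V) →+* Γ(Y', τ'.V) := (g.appLE τ.V τ'.V hV).hom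
/-- `Γ(Z,W) → Γ(Z',W')` -/
noncomputable def lZ : Γ(Z, τ.W) →+* Γ(Z', τ'.W) := (c.appLE τ.W τ'.W (le_W hX τ τ' hU)).hom

include hY in
theorem lY_qHom (y : Γ(Y, τ.V)) : τ'.qHom (lY τ τ' hV y) = lZ hX τ τ' hU (τ.qHom y) := by
  change (g.appLE τ.V τ'.V hV ≫ j'.appLE τ'.V τ'.W τ'.eq.le) y =
    (j.appLE τ.V τ.W τ.eq.le ≫ c.appLE τ.W τ'.W (le_W hX τ τ' hU)) y
  rw [Scheme.Hom.appLE_comp_appLE, Scheme.Hom.appLE_comp_appLE]
  exact congrArg (fun m => (m : Γ(Y, τ.V) ⟶ Γ(Z', τ'.W)) y) (appLE_congr' hY.w _ _ _ _)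

theorem lX_pHom (x : Γ(X, τ.U)) : τ'.pHom (lX τ τ' hU x) = lZ hX τ τ' hU (τ.pHom x) := by
  change (f.appLE τ.U τ'.U hU ≫ i'.appLE τ'.U τ'.W le_rfl) x =
    (i.appLE τ.U τ.W le_rfl ≫ c.appLE τ.W τ'.W (le_W hX τ τ' hU)) x
  rw [Scheme.Hom.appLE_comp_appLE, Scheme.Hom.appLE_comp_appLE]
  exact congrArg (fun m => (m : Γ(X, τ.U) ⟶ Γ(Z', τ'.W)) x) (appLE_congr' hX.w _ _ _ _)

/-- the induced map of chart rings. -/
noncomputable def φC : τ.C →+* τ'.C :=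
  fpMap τ.qHom τ.pHom τ'.qHom τ'.pHom (lY τ τ' hV) (lX τ τ' hU) (lZ hX τ τ' hU)
    (lY_qHom hX hY τ τ' hU hV) (lX_pHom hX τ τ' hU)

include ha hb in
theorem χ_comp : χ hF' hP' τ' ≫ h =
    Spec.map (CommRingCat.ofHom (φC hX hY τ τ' hU hV)) ≫ χ hF hP τ := by
  have hpo : IsPushout τ'.iSpec τ'.jSpec (αS τ') (βS τ') := τ'.isPushout_chart
  apply hpo.hom_ext
  · have e1 : αS τ' ≫ Spec.map (CommRingCat.ofHom (φC hX hY τ τ' hU hV)) =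
        Spec.map (f.appLE τ.U τ'.U hU) ≫ αS τ := by
      rw [← Spec.map_comp, ← Spec.map_comp]
      rfl
    rw [← Category.assoc, ← fromSpec_a' hF' hP', Category.assoc, ha, ← Category.assoc (αS τ'), e1,
      Category.assoc, ← fromSpec_a' hF hP, IsAffineOpen.SpecMap_appLE_fromSpec_assoc]
  · have e1 : βS τ' ≫ Spec.map (CommRingCat.ofHom (φC hX hY τ τ' hU hV)) =
        Spec.map (g.appLE τ.V τ'.V hV) ≫ βS τ := by
      rw [← Spec.map_comp, ← Spec.map_comp]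
      rfl
    rw [← Category.assoc, ← fromSpec_b' hF' hP', Category.assoc, hb, ← Category.assoc (βS τ'), e1,
      Category.assoc, ← fromSpec_b' hF hP, IsAffineOpen.SpecMap_appLE_fromSpec_assoc]

include hX hY in
theorem chart_props :
    ((φC hX hY τ τ' hU hV).FiniteType ↔ (lY τ τ' hV).FiniteType ∧ (lX τ τ' hU).FiniteType) ∧
    ((φC hX hY τ τ' hU hV).Flat ↔ (lY τ τ' hV).Flat ∧ (lX τ τ' hU).Flat) ∧
    ((φC hX hY τ τ' hU hV).Flat ∧ (φC hX hY τ τ' hU hV).FinitePresentation ↔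
      ((lY τ τ' hV).Flat ∧ (lY τ τ' hV).FinitePresentation) ∧
        ((lX τ τ' hU).Flat ∧ (lX τ τ' hU).FinitePresentation)) ∧
    ((φC hX hY τ τ' hU hV).Smooth ↔ (lY τ τ' hV).Smooth ∧ (lX τ τ' hU).Smooth) ∧
    ((φC hX hY τ τ' hU hV).Etale ↔ (lY τ τ' hV).Etale ∧ (lX τ τ' hU).Etale) := by
  have hW := le_W hX τ τ' hU
  have hUY1 : τ'.W = j' ⁻¹ᵁ τ'.V ⊓ c ⁻¹ᵁ τ.W := by
    rw [← τ'.W_eq]
    exact (inf_eq_left.mpr hW).symm
  have hUY2 : τ'.W = i' ⁻¹ᵁ τ'.U ⊓ c ⁻¹ᵁ τ.W := (inf_eq_left.mpr hW).symm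
  have hPO1 : IsPushout (CommRingCat.ofHom (lY τ τ' hV)) (CommRingCat.ofHom τ.qHom)
      (CommRingCat.ofHom τ'.qHom) (CommRingCat.ofHom (lZ hX τ τ' hU)) := by
    have hiso := isIso_pushoutSection_of_isAffineOpen hY (US := τ.V) (UT := τ.W) (UX := τ'.V)
      τ.eq.le hV hUY1 τ.hV τ.hW τ'.hV
    exact (isIso_pushoutSection_iff hY τ.eq.le hV hUY1).mp hiso
  have hPO2 : IsPushout (CommRingCat.ofHom (lX τ τ' hU)) (CommRingCat.ofHom τ.pHom)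
      (CommRingCat.ofHom τ'.pHom) (CommRingCat.ofHom (lZ hX τ τ' hU)) := by
    have hiso := isIso_pushoutSection_of_isAffineOpen hX (US := τ.U) (UT := τ.W) (UX := τ'.U)
      le_rfl hU hUY2 τ.hU τ.hW τ'.hU
    exact (isIso_pushoutSection_iff hX le_rfl hU hUY2).mp hiso
  exact Groth.Agent.Lib.Helper79.MilnorAlg.fpMap_props τ.qHom τ.pHom τ.pHom_surjective
    τ'.qHom τ'.pHom τ'.pHom_surjective (lY τ τ' hV) (lX τ τ' hU) (lZ hX τ τ' hU)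
    (lY_qHom hX hY τ τ' hU hV) (lX_pHom hX τ τ' hU) hPO1 hPO2

end rel

end Groth.Agent.Lib.Helper79.Ferrand
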