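import Groth.Agent.Lib.Helper79.FerrandRel

/-!
# Morphisms between pinchings: local properties
-/

set_option autoImplicit false
universe u

open AlgebraicGeometry CategoryTheory Limits TopologicalSpace Opposite

namespace Groth.Agent.Lib.Helper79.Ferrand

open Groth.Agent.Lib.Helper79.FerrandRing

/-- a property local at the source can be checked on charts. -/
theorem of_local_charts (Pr : MorphismProperty Scheme.{u}) [IsZariskiLocalAtSource Pr]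
    {S' S : Scheme.{u}} (u : S' ⟶ S)
    (H : ∀ s' : S', ∃ (T' : Scheme.{u}) (v' : T' ⟶ S') (_ : IsOpenImmersion v'),
      s' ∈ Set.range v' ∧ Pr (v' ≫ u)) : Pr u := by
  choose T' v' hv' hs' hP using H
  apply IsZariskiLocalAtSource.of_iSup_eq_top (P := Pr) (fun s' : S' => (v' s').opensRange)
  · rw [eq_top_iff]
    rintro x -
    exact Opens.mem_iSup.mpr ⟨x, hs' x⟩
  · intro s'
    change Pr ((v' s').opensRange.ι ≫ u)
    rw [← IsOpenImmersion.isoOfRangeEq_inv_fac (v' s') (Scheme.Opens.ι _)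
      (congr_arg Opens.carrier (v' s').opensRange.opensRange_ι.symm), Category.assoc,
      MorphismProperty.cancel_left_of_respectsIso (P := Pr)]
    exact hP s'

section main

variable {X Y Z P : Scheme.{u}} {i : Z ⟶ X} {j : Z ⟶ Y} [IsClosedImmersion i]
  (hF : Cond i j) {a : X ⟶ P} {b : Y ⟶ P} (hP : IsPushout i j a b)
  {X' Y' Z' P' : Scheme.{u}} {i' : Z' ⟶ X'} {j' : Z' ⟶ Y'} [IsClosedImmersion i']
  (hF' : Cond i' j') {a' : X' ⟶ P'} {b' : Y' ⟶ P'} (hP' : IsPushout i' j' a' b')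
  {f : X' ⟶ X} {g : Y' ⟶ Y} {c : Z' ⟶ Z} (hX : IsPullback i' c f i) (hY : IsPullback j' c g j)
  (h : P' ⟶ P) (ha : a' ≫ h = f ≫ a) (hb : b' ≫ h = g ≫ b)

include hF hP ha hb in
/-- every point of `P'` lies in a chart over a chart of `P`. -/
theorem exists_chart_pair (p' : P') : ∃ (τ : GoodPair i j) (τ' : GoodPair i' j')
    (_ : τ'.U ≤ f ⁻¹ᵁ τ.U) (_ : τ'.V ≤ g ⁻¹ᵁ τ.V), p' ∈ Set.range (χ hF' hP' τ') := by
  obtain ⟨τ, hτ⟩ := exists_χ hF hP (h p')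
  obtain ⟨τ', hp', hτ'⟩ := exists_χ_subset hF' hP' p' (h ⁻¹ᵁ (χ hF hP τ).opensRange) hτ
  refine ⟨τ, τ', ?_, ?_, hp'⟩
  · intro x' hx'
    apply mem_U_of_a_mem_range_χ hF hP τ
    have h1 : a' x' ∈ Set.range (χ hF' hP' τ') := a_mem_range_χ hF' hP' τ' hx'
    have h2 : h (a' x') ∈ (χ hF hP τ).opensRange := hτ' h1
    rw [← Scheme.Hom.comp_apply, ha, Scheme.Hom.comp_apply] at h2
    exact h2
  · intro y' hy'
    apply mem_V_of_b_mem_range_χ hF hP τ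
    have h1 : b' y' ∈ Set.range (χ hF' hP' τ') := b_mem_range_χ hF' hP' τ' hy'
    have h2 : h (b' y') ∈ (χ hF hP τ).opensRange := hτ' h1
    rw [← Scheme.Hom.comp_apply, hb, Scheme.Hom.comp_apply] at h2
    exact h2

include hF hP hF' hP' ha hb in
/-- **properties of a morphism of pinchings can be checked on the pieces**, given the
corresponding statement for charts. -/
theorem rel_iff (Pr : MorphismProperty Scheme.{u}) [IsZariskiLocalAtSource Pr]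
    (hpost : ∀ {S T T' : Scheme.{u}} (u : S ⟶ T) (v : T ⟶ T') [IsOpenImmersion v],
      Pr u → Pr (u ≫ v))
    (hcancel : ∀ {S T T' : Scheme.{u}} (u : S ⟶ T) (v : T ⟶ T') [IsOpenImmersion v],
      Pr (u ≫ v) → Pr u)
    (hring : ∀ (τ : GoodPair i j) (τ' : GoodPair i' j') (hU : τ'.U ≤ f ⁻¹ᵁ τ.U)
      (hV : τ'.V ≤ g ⁻¹ᵁ τ.V),
      Pr (Spec.map (CommRingCat.ofHom (φC hX hY τ τ' hU hV))) ↔
        Pr (Spec.map (CommRingCat.ofHom (lY τ τ' hV))) ∧
          Pr (Spec.map (CommRingCat.ofHom (lX τ τ' hU)))) :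
    Pr h ↔ Pr f ∧ Pr g := by
  have key1 : ∀ (τ : GoodPair i j) (τ' : GoodPair i' j') (hU : τ'.U ≤ f ⁻¹ᵁ τ.U)
      (hV : τ'.V ≤ g ⁻¹ᵁ τ.V),
      Pr (χ hF' hP' τ' ≫ h) ↔ Pr (Spec.map (CommRingCat.ofHom (φC hX hY τ τ' hU hV))) := by
    intro τ τ' hU hV
    rw [χ_comp hF hP hF' hP' hX hY h ha hb τ τ' hU hV]
    exact ⟨hcancel _ _, hpost _ _⟩
  have key2 : ∀ (τ : GoodPair i j) (τ' : GoodPair i' j') (hU : τ'.U ≤ f ⁻¹ᵁ τ.U),
      Pr (τ'.hU.fromSpec ≫ f) ↔ Pr (Spec.map (CommRingCat.ofHom (lX τ τ' hU))) := by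
    intro τ τ' hU
    have e : τ'.hU.fromSpec ≫ f = Spec.map (CommRingCat.ofHom (lX τ τ' hU)) ≫ τ.hU.fromSpec :=
      (IsAffineOpen.SpecMap_appLE_fromSpec f τ.hU τ'.hU hU).symm
    rw [e]
    exact ⟨hcancel _ _, hpost _ _⟩
  have key3 : ∀ (τ : GoodPair i j) (τ' : GoodPair i' j') (hV : τ'.V ≤ g ⁻¹ᵁ τ.V),
      Pr (τ'.hV.fromSpec ≫ g) ↔ Pr (Spec.map (CommRingCat.ofHom (lY τ τ' hV))) := by
    intro τ τ' hV
    have e : τ'.hV.fromSpec ≫ g = Spec.map (CommRingCat.ofHom (lY τ τ' hV)) ≫ τ.hV.fromSpec :=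
      (IsAffineOpen.SpecMap_appLE_fromSpec g τ.hV τ'.hV hV).symm
    rw [e]
    exact ⟨hcancel _ _, hpost _ _⟩
  constructor
  · intro hh
    have hall : ∀ (τ : GoodPair i j) (τ' : GoodPair i' j') (hU : τ'.U ≤ f ⁻¹ᵁ τ.U)
        (hV : τ'.V ≤ g ⁻¹ᵁ τ.V), Pr (Spec.map (CommRingCat.ofHom (lY τ τ' hV))) ∧
          Pr (Spec.map (CommRingCat.ofHom (lX τ τ' hU))) := by
      intro τ τ' hU hV
      exact (hring τ τ' hU hV).mp ((key1 τ τ' hU hV).mp (IsZariskiLocalAtSource.comp hh _))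
    constructor
    · apply of_local_charts Pr f
      intro x'
      obtain ⟨τ, τ', hU, hV, hp'⟩ := exists_chart_pair hF hP hF' hP' h ha hb (a' x')
      refine ⟨_, τ'.hU.fromSpec, inferInstance, ?_, (key2 τ τ' hU).mpr (hall τ τ' hU hV).2⟩
      rw [τ'.hU.range_fromSpec]
      exact mem_U_of_a_mem_range_χ hF' hP' τ' hp'
    · apply of_local_charts Pr g
      intro y'
      obtain ⟨τ, τ', hU, hV, hp'⟩ := exists_chart_pair hF hP hF' hP' h ha hb (b' y')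
      refine ⟨_, τ'.hV.fromSpec, inferInstance, ?_, (key3 τ τ' hV).mpr (hall τ τ' hU hV).1⟩
      rw [τ'.hV.range_fromSpec]
      exact mem_V_of_b_mem_range_χ hF' hP' τ' hp'
  · rintro ⟨hf, hg⟩
    apply of_local_charts Pr h
    intro p'
    obtain ⟨τ, τ', hU, hV, hp'⟩ := exists_chart_pair hF hP hF' hP' h ha hb p'
    refine ⟨_, χ hF' hP' τ', inferInstance, hp', (key1 τ τ' hU hV).mpr ?_⟩
    refine (hring τ τ' hU hV).mpr ⟨?_, ?_⟩
    · exact (key3 τ τ' hV).mp (IsZariskiLocalAtSource.comp hg _)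
    · exact (key2 τ τ' hU).mp (IsZariskiLocalAtSource.comp hf _)

end main

end Groth.Agent.Lib.Helper79.Ferrand
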