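import Groth.Agent.Lib.Helper79.FerrandRel2
import Groth.Agent.Lib.Helper79.MilnorAlgRel2

/-!
# Morphisms between pinchings: cartesian squares and finiteness
-/

set_option autoImplicit false
universe u

open AlgebraicGeometry CategoryTheory Limits TopologicalSpace Opposite

namespace Groth.Agent.Lib.Helper79.Ferrand

open Groth.Agent.Lib.Helper79.FerrandRing

/-- a property local at the target can be checked on a family of cartesian squares over an open
cover of the target. -/
theorem of_isPullback_cover (Pr : MorphismProperty Scheme.{u}) [IsZariskiLocalAtTarget Pr]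
    {S' S : Scheme.{u}} (u : S' ⟶ S) {J : Type u} (T : J → Scheme.{u}) (T' : J → Scheme.{u})
    (v : ∀ k, T k ⟶ S) [∀ k, IsOpenImmersion (v k)] (hv : ∀ s, ∃ k y, v k y = s)
    (v' : ∀ k, T' k ⟶ S') (w : ∀ k, T' k ⟶ T k)
    (H : ∀ k, IsPullback (v' k) (w k) u (v k)) (hw : ∀ k, Pr (w k)) : Pr u := by
  let 𝒰 : S.OpenCover := Scheme.Cover.mkOfCovers J T v hv
  apply IsZariskiLocalAtTarget.of_openCover 𝒰
  intro k
  have e : (H k).isoPullback.hom ≫ pullback.snd u (v k) = w k := (H k).isoPullback_hom_snd
  change Pr (pullback.snd u (v k))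
  have h2 := hw k
  rw [← e] at h2
  exact (Pr.cancel_left_of_respectsIso _ _).mp h2

/-- a commutative square is cartesian if it is so locally on the bottom-left corner. -/
theorem isPullback_of_local {X' X P' W : Scheme.{u}} {a' : X' ⟶ P'} {f : X' ⟶ X} {h : P' ⟶ W}
    {a : X ⟶ W} (comm : a' ≫ h = f ≫ a) {J : Type u} (S : J → Scheme.{u}) (T : J → Scheme.{u})
    (s : ∀ k, S k ⟶ X) [∀ k, IsOpenImmersion (s k)] (hs : ∀ x, ∃ k y, s k y = x)
    (r : ∀ k, T k ⟶ X') (l : ∀ k, T k ⟶ S k)
    (H1 : ∀ k, IsPullback (r k) (l k) f (s k))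
    (H2 : ∀ k, IsPullback (r k ≫ a') (l k) h (s k ≫ a)) :
    IsPullback a' f h a := by
  let θ : X' ⟶ pullback h a := pullback.lift a' f comm
  suffices hθ : IsIso θ from
    IsPullback.of_iso_pullback ⟨comm⟩ (asIso θ) (pullback.lift_fst _ _ _) (pullback.lift_snd _ _ _)
  let q : pullback h a ⟶ X := pullback.snd h a
  have hθq : θ ≫ q = f := pullback.lift_snd _ _ _
  -- the open cover of `Q = pullback h a` pulled back from `X`
  have hbot : ∀ k, IsPullback (pullback.fst q (s k)) (pullback.snd q (s k)) q (s k) :=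
    fun k => IsPullback.of_hasPullback _ _
  have hv : ∀ x : ↥(pullback h a), ∃ k, ∃ y : ↥(pullback q (s k)), pullback.fst q (s k) y = x := by
    intro x
    obtain ⟨k, y, hy⟩ := hs (q x)
    obtain ⟨z, hz1, -⟩ := Scheme.exists_preimage_of_isPullback (hbot k) x y hy.symm
    exact ⟨k, z, hz1⟩
  -- the comparison maps
  let l' : ∀ k, T k ⟶ pullback q (s k) := fun k =>
    pullback.lift (r k ≫ θ) (l k) (by rw [Category.assoc, hθq]; exact (H1 k).w)
  have htop : ∀ k, IsPullback (r k) (l' k) θ (pullback.fst q (s k)) := by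
    intro k
    refine IsPullback.of_bot ?_ (pullback.lift_fst _ _ _).symm (hbot k)
    have e1 : l' k ≫ pullback.snd q (s k) = l k := pullback.lift_snd _ _ _
    rw [e1, hθq]
    exact H1 k
  have hiso : ∀ k, IsIso (l' k) := by
    intro k
    -- both `T k` and `pullback q (s k)` are pullbacks of `h` and `s k ≫ a`
    have hbig : IsPullback (pullback.fst q (s k) ≫ pullback.fst h a) (pullback.snd q (s k)) h
        (s k ≫ a) := (hbot k).paste_horiz (IsPullback.of_hasPullback h a)
    have e1 : l' k ≫ pullback.snd q (s k) = l k := pullback.lift_snd _ _ _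
    have e2 : l' k ≫ (pullback.fst q (s k) ≫ pullback.fst h a) = r k ≫ a' := by
      rw [← Category.assoc, pullback.lift_fst, Category.assoc, pullback.lift_fst]
    have e3 : l' k = ((H2 k).isoIsPullback _ _ hbig).hom := by
      apply hbig.hom_ext
      · rw [e2, IsPullback.isoIsPullback_hom_fst]
      · rw [e1, IsPullback.isoIsPullback_hom_snd]
    rw [e3]
    infer_instance
  exact of_isPullback_cover (MorphismProperty.isomorphisms Scheme.{u}) θ
    (fun k => pullback q (s k)) T (fun k => pullback.fst q (s k)) hv r l' htop hiso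

end Groth.Agent.Lib.Helper79.Ferrand
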