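import Groth.Agent.Lib.Helper79.FerrandRelCart

/-!
# Morphisms between pinchings: chart-level cartesian squares
-/

set_option autoImplicit false
universe u

open AlgebraicGeometry CategoryTheory Limits TopologicalSpace Opposite

namespace Groth.Agent.Lib.Helper79.Ferrand

open Groth.Agent.Lib.Helper79.FerrandRing

section rel

variable {X Y Z P : Scheme.{u}} {i : Z ⟶ X} {j : Z ⟶ Y} [IsClosedImmersion i]
  (hF : Cond i j) {a : X ⟶ P} {b : Y ⟶ P} (hP : IsPushout i j a b)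
  {X' Y' Z' P' : Scheme.{u}} {i' : Z' ⟶ X'} {j' : Z' ⟶ Y'} [IsClosedImmersion i']
  (hF' : Cond i' j') {a' : X' ⟶ P'} {b' : Y' ⟶ P'} (hP' : IsPushout i' j' a' b')
  {f : X' ⟶ X} {g : Y' ⟶ Y} {c : Z' ⟶ Z} (hX : IsPullback i' c f i) (hY : IsPullback j' c g j)
  (h : P' ⟶ P) (ha : a' ≫ h = f ≫ a) (hb : b' ≫ h = g ≫ b)
  (τ : GoodPair i j) (τ' : GoodPair i' j') (hU : τ'.U ≤ f ⁻¹ᵁ τ.U) (hV : τ'.V ≤ g ⁻¹ᵁ τ.V)

include hX hY in
theorem chart_cart :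
    IsPushout (CommRingCat.ofHom (fpFst τ.qHom τ.pHom))
      (CommRingCat.ofHom (φC hX hY τ τ' hU hV))
      (CommRingCat.ofHom (lY τ τ' hV)) (CommRingCat.ofHom (fpFst τ'.qHom τ'.pHom)) ∧
    IsPushout (CommRingCat.ofHom (fpSnd τ.qHom τ.pHom))
      (CommRingCat.ofHom (φC hX hY τ τ' hU hV))
      (CommRingCat.ofHom (lX τ τ' hU)) (CommRingCat.ofHom (fpSnd τ'.qHom τ'.pHom)) ∧
    ((lY τ τ' hV).Finite → (lX τ τ' hU).Finite → (φC hX hY τ τ' hU hV).Finite) := by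
  have hW := le_W hX τ τ' hU
  have hUY1 : τ'.W = j' ⁻¹ᵁ τ'.V ⊓ c ⁻¹ᵁ τ.W := by
    rw [← τ'.W_eq]
    exact (inf_eq_left.mpr hW).symm
  have hUY2 : τ'.W = i' ⁻¹ᵁ τ'.U ⊓ c ⁻¹ᵁ τ.W := (inf_eq_left.mpr hW).symm
  have hPO1 : IsPushout (CommRingCat.ofHom (lY τ τ' hV)) (CommRingCat.ofHom τ.qHom)
      (CommRingCat.ofHom τ'.qHom) (CommRingCat.ofHom (lZ hX τ τ' hU)) := by
    have hiso := isIso_pushoutSection_of_isAffineOpen hY (US := τ.V) (UT := τ.W) (UX := τ'.V)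
      τ.eq.le hV hUY1 τ.hV τ.hW τ'.hV
    exact (isIso_pushoutSection_iff hY τ.eq.le hV hUY1).mp hiso
  have hPO2 : IsPushout (CommRingCat.ofHom (lX τ τ' hU)) (CommRingCat.ofHom τ.pHom)
      (CommRingCat.ofHom τ'.pHom) (CommRingCat.ofHom (lZ hX τ τ' hU)) := by
    have hiso := isIso_pushoutSection_of_isAffineOpen hX (US := τ.U) (UT := τ.W) (UX := τ'.U)
      le_rfl hU hUY2 τ.hU τ.hW τ'.hU
    exact (isIso_pushoutSection_iff hX le_rfl hU hUY2).mp hiso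
  exact Groth.Agent.Lib.Helper79.MilnorAlg.fpMap_cart τ.qHom τ.pHom τ.pHom_surjective
    τ'.qHom τ'.pHom τ'.pHom_surjective (lY τ τ' hV) (lX τ τ' hU) (lZ hX τ τ' hU)
    (lY_qHom hX hY τ τ' hU hV) (lX_pHom hX τ τ' hU) hPO1 hPO2

include hX hY in
theorem isPullback_αS : IsPullback (αS τ') (Spec.map (f.appLE τ.U τ'.U hU))
    (Spec.map (CommRingCat.ofHom (φC hX hY τ τ' hU hV))) (αS τ) :=
  (isPullback_SpecMap_of_isPushout _ _ _ _ (chart_cart hX hY τ τ' hU hV).2.1).flip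

include hX hY in
theorem isPullback_βS : IsPullback (βS τ') (Spec.map (g.appLE τ.V τ'.V hV))
    (Spec.map (CommRingCat.ofHom (φC hX hY τ τ' hU hV))) (βS τ) :=
  (isPullback_SpecMap_of_isPushout _ _ _ _ (chart_cart hX hY τ τ' hU hV).1).flip

include hF hP hF' hP' ha hb in
theorem preimage_opensRange_χ (hUe : τ'.U = f ⁻¹ᵁ τ.U) (hVe : τ'.V = g ⁻¹ᵁ τ.V) :
    h ⁻¹ᵁ (χ hF hP τ).opensRange = (χ hF' hP' τ').opensRange := by
  ext p'
  change h p' ∈ Set.range (χ hF hP τ) ↔ p' ∈ Set.range (χ hF' hP' τ')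
  rcases jointlySurj_of_isPushout hF' hP' p' with ⟨y', rfl⟩ | ⟨x', rfl⟩
  · have e : h (b' y') = b (g y') := by
      rw [← Scheme.Hom.comp_apply, hb, Scheme.Hom.comp_apply]
    rw [e]
    constructor
    · intro hy
      have h1 : g y' ∈ τ.V := mem_V_of_b_mem_range_χ hF hP τ hy
      apply b_mem_range_χ hF' hP' τ'
      rw [hVe]; exact h1
    · intro hy
      have h1 : y' ∈ τ'.V := mem_V_of_b_mem_range_χ hF' hP' τ' hy
      rw [hVe] at h1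
      exact b_mem_range_χ hF hP τ h1
  · have e : h (a' x') = a (f x') := by
      rw [← Scheme.Hom.comp_apply, ha, Scheme.Hom.comp_apply]
    rw [e]
    constructor
    · intro hx
      have h1 : f x' ∈ τ.U := mem_U_of_a_mem_range_χ hF hP τ hx
      apply a_mem_range_χ hF' hP' τ'
      rw [hUe]; exact h1
    · intro hx
      have h1 : x' ∈ τ'.U := mem_U_of_a_mem_range_χ hF' hP' τ' hx
      rw [hUe] at h1
      exact a_mem_range_χ hF hP τ h1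

include hF hP hF' hP' ha hb hX hY in
theorem isPullback_χ (hUe : τ'.U = f ⁻¹ᵁ τ.U) (hVe : τ'.V = g ⁻¹ᵁ τ.V) :
    IsPullback (χ hF' hP' τ') (Spec.map (CommRingCat.ofHom (φC hX hY τ τ' hUe.le hVe.le))) h
      (χ hF hP τ) :=
  (IsOpenImmersion.isPullback _ _ _ _ (χ_comp hF hP hF' hP' hX hY h ha hb τ τ' hUe.le hVe.le)
    (preimage_opensRange_χ hF hP hF' hP' h ha hb τ τ' hUe hVe)).flip

include hF hP hF' hP' ha hb hX hY in
theorem isPullback_fromSpec_a (hUe : τ'.U = f ⁻¹ᵁ τ.U) (hVe : τ'.V = g ⁻¹ᵁ τ.V) :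
    IsPullback (τ'.hU.fromSpec ≫ a') (Spec.map (f.appLE τ.U τ'.U hUe.le)) h
      (τ.hU.fromSpec ≫ a) := by
  rw [fromSpec_a' hF hP, fromSpec_a' hF' hP']
  exact (isPullback_αS hX hY τ τ' hUe.le hVe.le).paste_horiz
    (isPullback_χ hF hP hF' hP' hX hY h ha hb τ τ' hUe hVe)

include hF hP hF' hP' ha hb hX hY in
theorem isPullback_fromSpec_b (hUe : τ'.U = f ⁻¹ᵁ τ.U) (hVe : τ'.V = g ⁻¹ᵁ τ.V) :
    IsPullback (τ'.hV.fromSpec ≫ b') (Spec.map (g.appLE τ.V τ'.V hVe.le)) h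
      (τ.hV.fromSpec ≫ b) := by
  rw [fromSpec_b' hF hP, fromSpec_b' hF' hP']
  exact (isPullback_βS hX hY τ τ' hUe.le hVe.le).paste_horiz
    (isPullback_χ hF hP hF' hP' hX hY h ha hb τ τ' hUe hVe)

omit [IsClosedImmersion i] [IsClosedImmersion i'] in
theorem isPullback_fromSpec_X (hUe : τ'.U = f ⁻¹ᵁ τ.U) :
    IsPullback τ'.hU.fromSpec (Spec.map (f.appLE τ.U τ'.U hUe.le)) f τ.hU.fromSpec := by
  refine (IsOpenImmersion.isPullback _ _ _ _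
    (IsAffineOpen.SpecMap_appLE_fromSpec f τ.hU τ'.hU hUe.le).symm ?_).flip
  rw [τ.hU.opensRange_fromSpec, τ'.hU.opensRange_fromSpec, hUe]

omit [IsClosedImmersion i] [IsClosedImmersion i'] in
theorem isPullback_fromSpec_Y (hVe : τ'.V = g ⁻¹ᵁ τ.V) :
    IsPullback τ'.hV.fromSpec (Spec.map (g.appLE τ.V τ'.V hVe.le)) g τ.hV.fromSpec := by
  refine (IsOpenImmersion.isPullback _ _ _ _
    (IsAffineOpen.SpecMap_appLE_fromSpec g τ.hV τ'.hV hVe.le).symm ?_).flip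
  rw [τ.hV.opensRange_fromSpec, τ'.hV.opensRange_fromSpec, hVe]

end rel

end Groth.Agent.Lib.Helper79.Ferrand
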