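import Groth.Agent.Lib.Helper79.FerrandRelCart2

/-!
# Morphisms between pinchings over affine morphisms of the pieces: the squares are cartesian,
finiteness
-/

set_option autoImplicit false
universe u

open AlgebraicGeometry CategoryTheory Limits TopologicalSpace Opposite

namespace Groth.Agent.Lib.Helper79.Ferrand

open Groth.Agent.Lib.Helper79.FerrandRing

section glob

variable {X Y Z P : Scheme.{u}} {i : Z ⟶ X} {j : Z ⟶ Y}
  {X' Y' Z' P' : Scheme.{u}} {i' : Z' ⟶ X'} {j' : Z' ⟶ Y'}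
  {f : X' ⟶ X} {g : Y' ⟶ Y} {c : Z' ⟶ Z} (hX : IsPullback i' c f i) (hY : IsPullback j' c g j)
  [IsAffineHom f] [IsAffineHom g]

/-- the preimage of a good pair under affine morphisms of the pieces. -/
def GoodPair.pre (τ : GoodPair i j) : GoodPair i' j' where
  U := f ⁻¹ᵁ τ.U
  V := g ⁻¹ᵁ τ.V
  hU := τ.hU.preimage f
  hV := τ.hV.preimage g
  eq := by
    rw [← Scheme.Hom.comp_preimage, ← Scheme.Hom.comp_preimage, hX.w, hY.w,
      Scheme.Hom.comp_preimage, Scheme.Hom.comp_preimage, τ.eq]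

include hX hY in
theorem cond_pre (hF : Cond i j) : Cond i' j' := fun y' => by
  obtain ⟨τ, hτ⟩ := hF (g y')
  exact ⟨τ.pre hX hY, hτ⟩

variable [IsClosedImmersion i] [IsClosedImmersion i']
  (hF : Cond i j) {a : X ⟶ P} {b : Y ⟶ P} (hP : IsPushout i j a b)
  (hF' : Cond i' j') {a' : X' ⟶ P'} {b' : Y' ⟶ P'} (hP' : IsPushout i' j' a' b')
  (h : P' ⟶ P) (ha : a' ≫ h = f ≫ a) (hb : b' ≫ h = g ≫ b)

include hF hP hF' hP' hX hY ha hb in
/-- the square over `X` is cartesian. -/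
theorem isPullback_a_rel : IsPullback a' f h a := by
  refine isPullback_of_local ha (J := GoodPair i j) (fun τ => Spec Γ(X, τ.U))
    (fun τ => Spec Γ(X', (τ.pre hX hY).U)) (fun τ => τ.hU.fromSpec) ?_
    (fun τ => (τ.pre hX hY).hU.fromSpec) (fun τ => Spec.map (f.appLE τ.U (τ.pre hX hY).U le_rfl))
    ?_ ?_
  · intro x
    obtain ⟨τ, hτ⟩ := hF.exists_mem_U x
    have : x ∈ Set.range τ.hU.fromSpec := by rw [τ.hU.range_fromSpec]; exact hτ
    obtain ⟨y, hy⟩ := this
    exact ⟨τ, y, hy⟩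
  · intro τ
    exact isPullback_fromSpec_X τ (τ.pre hX hY) rfl
  · intro τ
    exact isPullback_fromSpec_a hF hP hF' hP' hX hY h ha hb τ (τ.pre hX hY) rfl rfl

include hF hP hF' hP' hX hY ha hb in
/-- the square over `Y` is cartesian. -/
theorem isPullback_b_rel : IsPullback b' g h b := by
  refine isPullback_of_local hb (J := GoodPair i j) (fun τ => Spec Γ(Y, τ.V))
    (fun τ => Spec Γ(Y', (τ.pre hX hY).V)) (fun τ => τ.hV.fromSpec) ?_
    (fun τ => (τ.pre hX hY).hV.fromSpec) (fun τ => Spec.map (g.appLE τ.V (τ.pre hX hY).V le_rfl))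
    ?_ ?_
  · intro y
    obtain ⟨τ, hτ⟩ := hF y
    have : y ∈ Set.range τ.hV.fromSpec := by rw [τ.hV.range_fromSpec]; exact hτ
    obtain ⟨z, hz⟩ := this
    exact ⟨τ, z, hz⟩
  · intro τ
    exact isPullback_fromSpec_Y τ (τ.pre hX hY) rfl
  · intro τ
    exact isPullback_fromSpec_b hF hP hF' hP' hX hY h ha hb τ (τ.pre hX hY) rfl rfl

include hF hP hF' hP' hX hY ha hb in
/-- `h` is finite if `f` and `g` are. -/
theorem isFinite_rel [IsFinite f] [IsFinite g] : IsFinite h := by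
  refine of_isPullback_cover @IsFinite h (J := GoodPair i j)
    (fun τ => Spec (CommRingCat.of τ.C)) (fun τ => Spec (CommRingCat.of (τ.pre hX hY).C))
    (fun τ => χ hF hP τ) ?_ (fun τ => χ hF' hP' (τ.pre hX hY))
    (fun τ => Spec.map (CommRingCat.ofHom (φC hX hY τ (τ.pre hX hY) le_rfl le_rfl))) ?_ ?_
  · intro p
    obtain ⟨τ, y, hy⟩ := exists_χ hF hP p
    exact ⟨τ, y, hy⟩
  · intro τ
    exact isPullback_χ hF hP hF' hP' hX hY h ha hb τ (τ.pre hX hY) rfl rfl
  · intro τ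
    rw [IsFinite.SpecMap_iff]
    refine (chart_cart hX hY τ (τ.pre hX hY) le_rfl le_rfl).2.2 ?_ ?_
    · have := IsFinite.finite_app g τ.V τ.hV
      rwa [Scheme.Hom.app_eq_appLE] at this
    · have := IsFinite.finite_app f τ.U τ.hU
      rwa [Scheme.Hom.app_eq_appLE] at this

end glob

end Groth.Agent.Lib.Helper79.Ferrand
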