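import Mathlib
import Groth.Agent.Lib.Helper79.ZarProj
import Groth.Agent.Lib.Helper79.LiftGlueLoc

/-!
# Gluing retractions: the projective variant (helper79)

Variant of `LiftGlueAlg`/`LiftGlueFP`/`LiftGlueLoc` where finite presentation is replaced by
projectivity (for formally smooth, not necessarily finitely presented, ring maps).
-/

set_option autoImplicit false

universe u

namespace Groth.Agent.Lib.Helper79.LiftGlueProj

open TensorProduct

/-- A linear map onto a projective module which is locally surjective has a section. -/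
theorem exists_section_of_local {R : Type*} [CommRing R] {J N : Type*} [AddCommGroup J]
    [Module R J] [AddCommGroup N] [Module R N] [Module.Projective R N] (q : J →ₗ[R] N)
    (hloc : ∀ 𝔪 : Ideal R, 𝔪.IsMaximal → ∃ (f : R) (_ : f ∉ 𝔪),
      ∀ n : N, ∃ (k : ℕ) (x : J), q x = f ^ k • n) :
    ∃ s : N →ₗ[R] J, q ∘ₗ s = LinearMap.id := by
  have hsurj : Function.Surjective q := by
    intro n
    let I : Ideal R := Submodule.comap (LinearMap.toSpanSingleton R N n) (LinearMap.range q)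
    suffices h1 : I = ⊤ by
      have : (1 : R) ∈ I := h1 ▸ Submodule.mem_top
      rw [Submodule.mem_comap, LinearMap.toSpanSingleton_apply, one_smul] at this
      exact this
    by_contra hne
    obtain ⟨𝔪, h𝔪, hle⟩ := Ideal.exists_le_maximal I hne
    obtain ⟨f, hf, hfn⟩ := hloc 𝔪 h𝔪
    obtain ⟨k, x, hx⟩ := hfn n
    have : f ^ k ∈ I := by
      rw [Submodule.mem_comap, LinearMap.toSpanSingleton_apply]
      exact ⟨x, hx⟩
    exact hf (h𝔪.isPrime.mem_of_pow_mem k (hle this))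
  exact Module.projective_lifting_property q LinearMap.id hsurj

section QuotSq

variable {R B : Type u} [CommRing R] [CommRing B] [Algebra R B] [Algebra.FormallySmooth R B]

/-- For a formally smooth augmented algebra `ε : B → R`, the first infinitesimal neighbourhood
`B ⧸ (ker ε)²` is a projective `R`-module. -/
theorem projective_quot_ker_sq (ε : B →ₐ[R] R) :
    Module.Projective R (B ⧸ (RingHom.ker ε) ^ 2) := by
  classical
  let K : Ideal B := RingHom.ker ε
  let E := B ⧸ K ^ 2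
  have hKle : K ^ 2 ≤ K := Ideal.pow_le_self two_ne_zero
  let mk : B →ₐ[R] E := Ideal.Quotient.mkₐ R (K ^ 2)
  have hmk : Function.Surjective mk := Ideal.Quotient.mkₐ_surjective R (K ^ 2)
  let εb : E →ₐ[R] R := Ideal.Quotient.liftₐ (K ^ 2) ε (fun x hx => hKle hx)
  have hεb : ∀ b, εb (mk b) = ε b := fun b => rfl
  have hsq : ∀ x y : E, εb x = 0 → εb y = 0 → x * y = 0 := by
    intro x y hx hy
    obtain ⟨x, rfl⟩ := hmk x
    obtain ⟨y, rfl⟩ := hmk y
    rw [← map_mul]
    change Ideal.Quotient.mk (K ^ 2) (x * y) = 0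
    rw [Ideal.Quotient.eq_zero_iff_mem, pow_two]
    exact Ideal.mul_mem_mul hx hy
  let M := E →₀ R
  let p : M →ₗ[R] E := Finsupp.linearCombination R id
  have hp : Function.Surjective p := Finsupp.linearCombination_id_surjective R E
  let κ : M →ₗ[R] E := p - (Algebra.linearMap R E) ∘ₗ εb.toLinearMap ∘ₗ p
  have hκ : ∀ m, κ m = p m - algebraMap R E (εb (p m)) := fun m => rfl
  have hεκ : ∀ m, εb (κ m) = 0 := by
    intro m
    rw [hκ, map_sub, AlgHom.commutes, Algebra.algebraMap_self_apply, sub_self]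
  let C := TrivSqZeroExt R M
  let q : C →ₐ[R] E := TrivSqZeroExt.lift (Algebra.ofId R E) κ
    (fun x y => hsq _ _ (hεκ x) (hεκ y))
    (fun r x => by rw [map_smul, Algebra.smul_def]; rfl)
    (fun r x => by
      rw [op_smul_eq_smul, map_smul, Algebra.smul_def, mul_comm]; rfl)
  have hq : ∀ x : C, q x = algebraMap R E x.fst + κ x.snd := fun x => rfl
  have hεq : ∀ x : C, εb (q x) = x.fst := by
    intro x
    rw [hq, map_add, hεκ, add_zero, AlgHom.commutes, Algebra.algebraMap_self_apply]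
  have hqsurj : Function.Surjective q := by
    intro e
    obtain ⟨m, hm⟩ := hp (e - algebraMap R E (εb e))
    refine ⟨(εb e, m), ?_⟩
    rw [hq]
    change algebraMap R E (εb e) + κ m = e
    rw [hκ, hm, map_sub, AlgHom.commutes, Algebra.algebraMap_self_apply, sub_self, map_zero,
      sub_zero]
    abel
  have hkermul : ∀ x y : C, x.fst = 0 → y.fst = 0 → x * y = 0 := by
    intro x y hx hy
    apply TrivSqZeroExt.ext
    · rw [TrivSqZeroExt.fst_mul, hx, zero_mul, TrivSqZeroExt.fst_zero]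
    · rw [TrivSqZeroExt.snd_mul, hx, hy, zero_smul, MulOpposite.op_zero, zero_smul, add_zero,
        TrivSqZeroExt.snd_zero]
  have hnil : IsNilpotent (RingHom.ker (q : C →+* E)) := by
    refine ⟨2, ?_⟩
    have h2 : RingHom.ker (q : C →+* E) ^ 2 =
        RingHom.ker (q : C →+* E) * RingHom.ker (q : C →+* E) := pow_two _
    rw [Ideal.zero_eq_bot, eq_bot_iff, h2, Ideal.mul_le]
    intro x hx y hy
    rw [Ideal.mem_bot]
    apply hkermul
    · rw [← hεq, show q x = 0 from hx, map_zero]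
    · rw [← hεq, show q y = 0 from hy, map_zero]
  let G : B →ₐ[R] C := Algebra.FormallySmooth.liftOfSurjective mk q hqsurj hnil
  have hG : ∀ b, q (G b) = mk b :=
    Algebra.FormallySmooth.liftOfSurjective_apply mk q hqsurj hnil
  have hGK : ∀ k ∈ K, (G k).fst = 0 := by
    intro k hk
    rw [← hεq, hG, hεb]
    exact hk
  have hGK2 : ∀ x ∈ K ^ 2, G x = 0 := by
    have : K ^ 2 ≤ RingHom.ker (G : B →+* C) := by
      have h2 : K ^ 2 = K * K := pow_two _
      rw [h2, Ideal.mul_le]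
      intro a ha b hb
      rw [RingHom.mem_ker]
      change G (a * b) = 0
      rw [map_mul]
      exact hkermul _ _ (hGK a ha) (hGK b hb)
    exact fun x hx => this hx
  let Gb : E →ₐ[R] C := Ideal.Quotient.liftₐ (K ^ 2) G hGK2
  have hGb : ∀ e, q (Gb e) = e := by
    intro e
    obtain ⟨b, rfl⟩ := hmk e
    exact hG b
  obtain ⟨m₁, hm₁⟩ := hp 1
  let s₁ : E →ₗ[R] M := (TrivSqZeroExt.sndHom R M) ∘ₗ Gb.toLinearMap
  let c : E →ₗ[R] R := (TrivSqZeroExt.fstHom R R M).toLinearMap ∘ₗ Gb.toLinearMap -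
    εb.toLinearMap ∘ₗ p ∘ₗ s₁
  let s : E →ₗ[R] M := s₁ + (LinearMap.toSpanSingleton R M m₁) ∘ₗ c
  refine Module.Projective.of_split s p ?_
  ext e
  change p ((Gb e).snd + ((Gb e).fst - εb (p (Gb e).snd)) • m₁) = e
  rw [map_add, map_smul, hm₁]
  conv_rhs => rw [← hGb e, hq, hκ]
  rw [Algebra.algebraMap_eq_smul_one, Algebra.algebraMap_eq_smul_one, sub_smul]
  abel

end QuotSq

section Univ

open Groth.Agent.Lib.Helper79.LiftGlueFP

variable {A' B' A'₀ C' : Type u} [CommRing A'] [CommRing B'] [CommRing A'₀] [CommRing C']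
  [Algebra A' B'] [Algebra A' A'₀] [Algebra B' A'₀] [IsScalarTower A' B' A'₀]
  [Algebra A' C'] [Algebra B' C'] [IsScalarTower A' B' C']

open Groth.Agent.Lib.Helper57.UnivThick in
/-- If `C'` is the universal first order thickening of `A'₀` over the formally smooth
`A'`-algebra `B'` and `A' → A'₀` is surjective, then `A'₀ ⊗[A'] C'` is a projective
`A'₀`-module. -/
theorem proj_tensor_of_univ [Algebra.FormallySmooth A' B']
    (hφ' : Function.Surjective (algebraMap A' A'₀))
    (π' : C' →ₐ[B'] A'₀) (hu : OmegaSh.IsUnivThickeningRing B' A'₀ C' π') :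
    Module.Projective A'₀ (A'₀ ⊗[A'] C') := by
  classical
  let K₀ : Ideal (A'₀ ⊗[A'] B') := RingHom.ker (aug (A' := A') (B' := B') (A'₀ := A'₀))
  have hK₀le : K₀ ^ 2 ≤ K₀ := Ideal.pow_le_self two_ne_zero
  let ρE : (A'₀ ⊗[A'] B') ⧸ K₀ ^ 2 →ₐ[A'₀] A'₀ :=
    Ideal.Quotient.liftₐ (K₀ ^ 2) aug (fun x hx => hK₀le hx)
  have hρEmk : ∀ x : A'₀ ⊗[A'] B', ρE (Ideal.Quotient.mk _ x) = aug x := fun x => rfl
  have hρEsurj : Function.Surjective ρE := fun a =>
    ⟨Ideal.Quotient.mk _ (a ⊗ₜ 1), by rw [hρEmk, aug_tmul, map_one, mul_one]⟩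
  have hρEsq : ∀ x y : (A'₀ ⊗[A'] B') ⧸ K₀ ^ 2, ρE x = 0 → ρE y = 0 → x * y = 0 := by
    intro x y hx hy
    obtain ⟨x, rfl⟩ := Ideal.Quotient.mk_surjective x
    obtain ⟨y, rfl⟩ := Ideal.Quotient.mk_surjective y
    rw [← map_mul, Ideal.Quotient.eq_zero_iff_mem, pow_two]
    exact Ideal.mul_mem_mul hx hy
  haveI : Module.Projective A'₀ ((A'₀ ⊗[A'] B') ⧸ K₀ ^ 2) :=
    projective_quot_ker_sq (aug (A' := A') (B' := B') (A'₀ := A'₀))
  -- the `B'`-algebra structures through the right factors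
  letI algE : Algebra B' ((A'₀ ⊗[A'] B') ⧸ K₀ ^ 2) :=
    ((Ideal.Quotient.mk (K₀ ^ 2)).comp
      (Algebra.TensorProduct.includeRight (R := A') (A := A'₀) (B := B')).toRingHom).toAlgebra
  letI algT : Algebra B' (A'₀ ⊗[A'] C') :=
    ((Algebra.TensorProduct.includeRight (R := A') (A := A'₀) (B := C')).toRingHom.comp
      (algebraMap B' C')).toAlgebra
  have halgE : ∀ b : B', algebraMap B' ((A'₀ ⊗[A'] B') ⧸ K₀ ^ 2) b =
      Ideal.Quotient.mk (K₀ ^ 2) ((1 : A'₀) ⊗ₜ[A'] b) := fun b => rfl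
  have halgT : ∀ b : B', algebraMap B' (A'₀ ⊗[A'] C') b = (1 : A'₀) ⊗ₜ[A'] (algebraMap B' C' b) :=
    fun b => rfl
  let ρE' : (A'₀ ⊗[A'] B') ⧸ K₀ ^ 2 →ₐ[B'] A'₀ :=
    { ρE.toRingHom with
      commutes' := fun b => by
        change ρE (Ideal.Quotient.mk (K₀ ^ 2) ((1 : A'₀) ⊗ₜ[A'] b)) = _
        rw [hρEmk, aug_tmul, one_mul] }
  obtain ⟨χ, hχ, -⟩ := sectionForm hu _ ρE' hρEsurj hρEsq
  have hχ' : ∀ c : C', ρE (χ c) = π' c := fun c => AlgHom.congr_fun hχ c
  -- the augmentation of `A'₀ ⊗ C'`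
  let πT : A'₀ ⊗[A'] C' →ₐ[B'] A'₀ :=
    { (augC (A' := A') π').toRingHom with
      commutes' := fun b => by
        change augC (A' := A') π' ((1 : A'₀) ⊗ₜ[A'] (algebraMap B' C' b)) = _
        rw [augC_tmul, one_mul, AlgHom.commutes] }
  have hπT : ∀ x, πT x = augC (A' := A') π' x := fun x => rfl
  have hπTsurj : Function.Surjective πT := fun a =>
    ⟨a ⊗ₜ 1, by rw [hπT, augC_tmul, map_one, mul_one]⟩
  have hπTsq : ∀ x y : A'₀ ⊗[A'] C', πT x = 0 → πT y = 0 → x * y = 0 := by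
    intro x y hx hy
    obtain ⟨c, rfl⟩ := Groth.Agent.Lib.Helper79.LiftGlueAlg.one_tmul_surjective hφ' x
    obtain ⟨d, rfl⟩ := Groth.Agent.Lib.Helper79.LiftGlueAlg.one_tmul_surjective hφ' y
    rw [hπT, augC_tmul, one_mul] at hx hy
    rw [Algebra.TensorProduct.tmul_mul_tmul, mul_one, mul_eq_zero hu hx hy, tmul_zero]
  obtain ⟨f, -, hfu⟩ := sectionForm hu _ πT hπTsurj hπTsq
  -- the map `E₀ → A'₀ ⊗ C'`
  let m : A'₀ ⊗[A'] B' →ₐ[A'₀] A'₀ ⊗[A'] C' :=
    Algebra.TensorProduct.map (AlgHom.id A'₀ A'₀) (IsScalarTower.toAlgHom A' B' C')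
  have hm : ∀ (a : A'₀) (b : B'), m (a ⊗ₜ b) = a ⊗ₜ (algebraMap B' C' b) := fun a b => by
    simp [m]
  have haugm : ∀ x, augC (A' := A') π' (m x) = aug x := by
    intro x
    induction x using TensorProduct.induction_on with
    | zero => simp
    | tmul a b => rw [hm, augC_tmul, aug_tmul, AlgHom.commutes]
    | add x y hx hy => rw [map_add, map_add, map_add, hx, hy]
  have hmK : ∀ x ∈ K₀ ^ 2, m x = 0 := by
    have : K₀ ^ 2 ≤ RingHom.ker m.toRingHom := by
      rw [pow_two, Ideal.mul_le]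
      intro a ha b hb
      rw [RingHom.mem_ker, map_mul]
      apply hπTsq
      · rw [hπT]; exact (haugm a).trans ha
      · rw [hπT]; exact (haugm b).trans hb
    exact fun x hx => this hx
  let ψ : (A'₀ ⊗[A'] B') ⧸ K₀ ^ 2 →ₐ[A'₀] A'₀ ⊗[A'] C' := Ideal.Quotient.liftₐ (K₀ ^ 2) m hmK
  have hψmk : ∀ x, ψ (Ideal.Quotient.mk _ x) = m x := fun x => rfl
  let ψ' : (A'₀ ⊗[A'] B') ⧸ K₀ ^ 2 →ₐ[B'] A'₀ ⊗[A'] C' :=
    { ψ.toRingHom with
      commutes' := fun b => by
        change ψ (Ideal.Quotient.mk (K₀ ^ 2) ((1 : A'₀) ⊗ₜ[A'] b)) = _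
        rw [hψmk, hm]
        rfl }
  have hψ' : ∀ x, ψ' x = ψ x := fun x => rfl
  have hπTψ : ∀ x, πT (ψ x) = ρE x := by
    intro x
    obtain ⟨x, rfl⟩ := Ideal.Quotient.mk_surjective x
    rw [hψmk, hπT, haugm, hρEmk]
  -- uniqueness: `ψ ∘ χ = includeRight`
  let incl : C' →ₐ[B'] A'₀ ⊗[A'] C' :=
    { (Algebra.TensorProduct.includeRight (R := A') (A := A'₀) (B := C')).toRingHom with
      commutes' := fun b => rfl }
  have hincl : ∀ c, incl c = (1 : A'₀) ⊗ₜ[A'] c := fun c => rfl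
  have h1 : incl = f := hfu incl (by
    ext c
    change πT (incl c) = π' c
    rw [hincl, hπT, augC_tmul, one_mul])
  have h2 : ψ'.comp χ = f := hfu _ (by
    ext c
    change πT (ψ (χ c)) = π' c
    rw [hπTψ, hχ'])
  have hψχ : ∀ c : C', ψ (χ c) = (1 : A'₀) ⊗ₜ[A'] c := by
    intro c
    have := AlgHom.congr_fun (h2.trans h1.symm) c
    exact this
  -- `χ` is `A'`-linear
  let χlin : C' →ₗ[A'] (A'₀ ⊗[A'] B') ⧸ K₀ ^ 2 :=
    { toFun := χ
      map_add' := map_add χ
      map_smul' := fun a c => by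
        rw [RingHom.id_apply, Algebra.smul_def, IsScalarTower.algebraMap_apply A' B' C', map_mul,
          AlgHom.commutes, halgE, Algebra.smul_def]
        congr 1
        rw [IsScalarTower.algebraMap_apply A' (A'₀ ⊗[A'] B') ((A'₀ ⊗[A'] B') ⧸ K₀ ^ 2)]
        congr 1
        rw [Algebra.algebraMap_eq_smul_one a, Algebra.algebraMap_eq_smul_one a,
          TensorProduct.tmul_smul]
        rfl }
  let χ₀ : A'₀ ⊗[A'] C' →ₗ[A'₀] (A'₀ ⊗[A'] B') ⧸ K₀ ^ 2 := χlin.liftBaseChange A'₀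
  refine Module.Projective.of_split χ₀ ψ.toLinearMap ?_
  apply TensorProduct.AlgebraTensorModule.ext
  intro a c
  change ψ (χlin.liftBaseChange A'₀ (a ⊗ₜ c)) = a ⊗ₜ c
  rw [LinearMap.liftBaseChange_tmul, map_smul]
  change a • ψ (χ c) = _
  rw [hψχ, TensorProduct.smul_tmul', smul_eq_mul, mul_one]

end Univ

section Loc

open Groth.Agent.Lib.Helper79.LiftGlueLoc

variable {A A₀ C : Type u} [CommRing A] [CommRing A₀] [CommRing C] [Algebra A A₀] [Algebra A C]

/-- Projectivity of `A₀ ⊗[A] C` is local on `Spec A₀`. -/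
theorem proj_of_local
    (hloc : ∀ 𝔪₀ : Ideal A₀, 𝔪₀.IsMaximal → ∃ r ∉ 𝔪₀,
      Module.Projective (Localization.Away r) (Localization.Away r ⊗[A] C)) :
    Module.Projective A₀ (A₀ ⊗[A] C) := by
  let s : Set A₀ :=
    {r | Module.Projective (Localization.Away r) (Localization.Away r ⊗[A] C)}
  have hs : Ideal.span s = ⊤ := by
    by_contra hne
    obtain ⟨𝔪₀, h𝔪₀, hle⟩ := Ideal.exists_le_maximal _ hne
    obtain ⟨r, hr, hfp⟩ := hloc 𝔪₀ h𝔪₀
    exact hr (hle (Ideal.subset_span hfp))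
  refine Groth.Agent.Lib.Helper79.ZarProj.projective_of_localizationSpan s hs (A₀ ⊗[A] C) ?_
  intro r hr
  haveI : Module.Projective (Localization.Away r) (Localization.Away r ⊗[A] C) := hr
  exact Module.Projective.of_equiv'
    (AlgebraTensorModule.cancelBaseChange A A₀ (Localization.Away r) (Localization.Away r) C).symm

/-- Transfer of finite presentation to the canonical localisation. -/
theorem proj_localizationAway_of_proj (r : A₀) (A'₀ : Type u) [CommRing A'₀] [Algebra A₀ A'₀]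
    [IsLocalization.Away r A'₀] [Algebra A A'₀] [IsScalarTower A A₀ A'₀]
    [Module.Projective A'₀ (A'₀ ⊗[A] C)] :
    Module.Projective (Localization.Away r) (Localization.Away r ⊗[A] C) := by
  let e : A'₀ ≃ₐ[A₀] Localization.Away r :=
    IsLocalization.algEquiv (Submonoid.powers r) A'₀ (Localization.Away r)
  letI : Algebra A'₀ (Localization.Away r) := e.toAlgHom.toRingHom.toAlgebra
  haveI : IsScalarTower A A'₀ (Localization.Away r) := by
    refine IsScalarTower.of_algebraMap_eq fun a => ?_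
    change algebraMap A (Localization.Away r) a = e (algebraMap A A'₀ a)
    rw [IsScalarTower.algebraMap_apply A A₀ A'₀, AlgEquiv.commutes,
      IsScalarTower.algebraMap_apply A A₀ (Localization.Away r)]
  exact Module.Projective.of_equiv'
    (AlgebraTensorModule.cancelBaseChange A A'₀ (Localization.Away r) (Localization.Away r) C)

/-- Finite presentation of `A'₀ ⊗[A] C` from that of `A'₀ ⊗[A'] C'`, for localisations `A'` of `A`
and `C'` of `C`. -/
theorem proj_tensor_of_localization (g : A) (A' A'₀ C' : Type u) [CommRing A'] [CommRing A'₀]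
    [CommRing C'] [Algebra A A'] [IsLocalization.Away g A'] [Algebra A C'] [Algebra A' C']
    [IsScalarTower A A' C'] [Algebra C C'] [IsScalarTower A C C']
    [IsLocalization.Away (algebraMap A C g) C']
    [Algebra A' A'₀] [Algebra A A'₀] [IsScalarTower A A' A'₀]
    [Module.Projective A'₀ (A'₀ ⊗[A'] C')] :
    Module.Projective A'₀ (A'₀ ⊗[A] C) := by
  haveI : IsLocalizedModule (Submonoid.powers g) (IsScalarTower.toAlgHom A C C').toLinearMap := by
    rw [isLocalizedModule_iff_isLocalization, Algebra.algebraMapSubmonoid_powers]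
    infer_instance
  have hbc : IsBaseChange A' (IsScalarTower.toAlgHom A C C').toLinearMap :=
    IsLocalizedModule.isBaseChange (Submonoid.powers g) A' _
  let e₁ : A' ⊗[A] C ≃ₗ[A'] C' := hbc.equiv
  let e₂ : A'₀ ⊗[A'] (A' ⊗[A] C) ≃ₗ[A'₀] A'₀ ⊗[A'] C' :=
    AlgebraTensorModule.congr (LinearEquiv.refl A'₀ A'₀) e₁
  let e₃ : A'₀ ⊗[A'] (A' ⊗[A] C) ≃ₗ[A'₀] A'₀ ⊗[A] C :=
    AlgebraTensorModule.cancelBaseChange A A' A'₀ A'₀ C
  exact Module.Projective.of_equiv' (e₂.symm.trans e₃)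


/-- The local finite presentation statement from a chart. -/
theorem proj_local_of_chart (g : A)
    {A' A'₀ C' B' : Type u} [CommRing A'] [CommRing A'₀] [CommRing C'] [CommRing B']
    (lA : A →+* A') (lA₀ : A₀ →+* A'₀) (lC : C →+* C') (φ' : A' →+* A'₀) (ξ : A' →+* B')
    (ψ : B' →+* C') (π' : C' →+* A'₀)
    (hlA : @IsLocalization.Away A _ g A' _ lA.toAlgebra)
    (hlA₀ : @IsLocalization.Away A₀ _ (algebraMap A A₀ g) A'₀ _ lA₀.toAlgebra)
    (hlC : @IsLocalization.Away C _ (algebraMap A C g) C' _ lC.toAlgebra)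
    (e1 : φ'.comp lA = lA₀.comp (algebraMap A A₀))
    (e2 : (ψ.comp ξ).comp lA = lC.comp (algebraMap A C))
    (e4 : (π'.comp ψ).comp ξ = φ')
    (hξ : ξ.FormallySmooth) (hφ' : Function.Surjective φ')
    (hu : IsUnivThickHom ψ π') :
    Module.Projective (Localization.Away (algebraMap A A₀ g))
      (Localization.Away (algebraMap A A₀ g) ⊗[A] C) := by
  letI aA' : Algebra A A' := lA.toAlgebra
  letI aA₀' : Algebra A₀ A'₀ := lA₀.toAlgebra
  letI aC' : Algebra C C' := lC.toAlgebra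
  letI : Algebra A' A'₀ := φ'.toAlgebra
  letI : Algebra A' B' := ξ.toAlgebra
  letI : Algebra B' C' := ψ.toAlgebra
  letI : Algebra B' A'₀ := (π'.comp ψ).toAlgebra
  letI : Algebra A' C' := (ψ.comp ξ).toAlgebra
  letI : Algebra A A'₀ := (φ'.comp lA).toAlgebra
  letI : Algebra A C' := ((ψ.comp ξ).comp lA).toAlgebra
  haveI : IsScalarTower A' B' A'₀ := IsScalarTower.of_algebraMap_eq' e4.symm
  haveI : IsScalarTower A' B' C' := IsScalarTower.of_algebraMap_eq' rfl
  haveI : IsScalarTower A A' C' := IsScalarTower.of_algebraMap_eq' rfl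
  haveI : IsScalarTower A C C' := IsScalarTower.of_algebraMap_eq' e2
  haveI : IsScalarTower A A' A'₀ := IsScalarTower.of_algebraMap_eq' rfl
  haveI : IsScalarTower A A₀ A'₀ := IsScalarTower.of_algebraMap_eq' e1
  haveI : Algebra.FormallySmooth A' B' := hξ
  haveI : IsLocalization.Away g A' := hlA
  haveI : IsLocalization.Away (algebraMap A A₀ g) A'₀ := hlA₀
  haveI : IsLocalization.Away (algebraMap A C g) C' := hlC
  have hu' := isUnivThickeningRing_of_hom ψ π' hu
  haveI FP1 : Module.Projective A'₀ (A'₀ ⊗[A'] C') :=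
    proj_tensor_of_univ hφ' _ hu'
  haveI FP2 : Module.Projective A'₀ (A'₀ ⊗[A] C) :=
    proj_tensor_of_localization g A' A'₀ C'
  exact proj_localizationAway_of_proj (algebraMap A A₀ g) A'₀

end Loc

section Main

open Groth.Agent.Lib.Helper79.LiftGlueAlg

variable {A A₀ C : Type u} [CommRing A] [CommRing A₀] [CommRing C] [Algebra A A₀] [Algebra A C]

/-- **Gluing retractions.** `π : C → A₀` a surjection of `A`-algebras with square-zero kernel,
`A → A₀` surjective, `A₀ ⊗[A] C` projective over `A₀`; if retractions `C → A_g` compatible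
with `π` exist locally on `Spec A`, then a retraction `C → A` compatible with `π` exists. -/
theorem exists_retraction_proj (hφ : Function.Surjective (algebraMap A A₀))
    (π : C →ₐ[A] A₀) (hJ : ∀ x y : C, π x = 0 → π y = 0 → x * y = 0)
    [Module.Projective A₀ (A₀ ⊗[A] C)]
    (hloc : ∀ 𝔪 : Ideal A, 𝔪.IsMaximal → ∃ (g : A) (_ : g ∉ 𝔪) (A' : Type u) (_ : CommRing A')
      (_ : Algebra A A') (_ : IsLocalization.Away g A') (ρ : C →ₐ[A] A'),
      ∀ (c : C) (x : A), π c = algebraMap A A₀ x →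
        ρ c - algebraMap A A' x ∈ (RingHom.ker (algebraMap A A₀)).map (algebraMap A A')) :
    ∃ ρ : C →ₐ[A] A, ∀ c, algebraMap A A₀ (ρ c) = π c := by
  classical
  have hαI : ∀ x : A, algebraMap A A₀ x = 0 → π (algebraMap A C x) = 0 := fun x hx => by
    rw [AlgHom.commutes]; exact hx
  let Jm : Submodule A C := LinearMap.ker π.toLinearMap
  have hJm : ∀ x : A, algebraMap A A₀ x = 0 → ∀ m : Jm, x • m = 0 := by
    intro x hx m
    ext
    rw [Submodule.coe_smul, Algebra.smul_def, Submodule.coe_zero]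
    exact hJ _ _ (hαI x hx) m.2
  letI modJ : Module A₀ Jm := surjModule hφ Jm hJm
  haveI towJ : IsScalarTower A A₀ Jm := surjModule_isScalarTower hφ Jm hJm
  let κ : C →ₗ[A] A₀ ⊗[A] C := TensorProduct.mk A A₀ C 1
  let π₀ : A₀ ⊗[A] C →ₗ[A₀] A₀ := π.toLinearMap.liftBaseChange A₀
  have hπ₀κ : ∀ c, π₀ (κ c) = π c := fun c => by
    change π.toLinearMap.liftBaseChange A₀ (1 ⊗ₜ c) = _
    rw [LinearMap.liftBaseChange_one_tmul]; rfl
  let one₀ : A₀ ⊗[A] C := 1 ⊗ₜ 1
  have hπ₀one : π₀ one₀ = 1 := by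
    change π.toLinearMap.liftBaseChange A₀ (1 ⊗ₜ 1) = _
    rw [LinearMap.liftBaseChange_one_tmul]; exact map_one π
  let N : Submodule A₀ (A₀ ⊗[A] C) := LinearMap.ker π₀
  let pr : A₀ ⊗[A] C →ₗ[A₀] N :=
    LinearMap.codRestrict N (LinearMap.id - (LinearMap.toSpanSingleton A₀ _ one₀) ∘ₗ π₀) (by
      intro x
      rw [LinearMap.mem_ker]
      simp only [LinearMap.sub_apply, LinearMap.id_apply, LinearMap.comp_apply,
        LinearMap.toSpanSingleton_apply, map_sub, map_smul, hπ₀one, smul_eq_mul, mul_one,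
        sub_self])
  have hpr : ∀ x, (pr x : A₀ ⊗[A] C) = x - π₀ x • one₀ := fun x => rfl
  have hprN : ∀ n : N, pr n = n := by
    intro n
    ext
    rw [hpr, (LinearMap.mem_ker.mp n.2), zero_smul, sub_zero]
  haveI : Module.Projective A₀ N :=
    Module.Projective.of_split N.subtype pr (by
      ext n
      exact congrArg Subtype.val (hprN n))
  have hκJ : ∀ j : Jm, κ j ∈ N := fun j => by
    rw [LinearMap.mem_ker, hπ₀κ]; exact j.2
  let qA : Jm →ₗ[A] N :=
    { toFun := fun j => ⟨κ j, hκJ j⟩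
      map_add' := fun x y => by ext; simp
      map_smul' := fun a x => by ext; simp }
  let q : Jm →ₗ[A₀] N := qA.extendScalarsOfSurjective hφ
  have hq : ∀ j : Jm, (q j : A₀ ⊗[A] C) = κ j := fun j => rfl
  -- the section
  obtain ⟨s, hs⟩ : ∃ s : N →ₗ[A₀] Jm, q ∘ₗ s = LinearMap.id := by
    apply exists_section_of_local q
    intro 𝔪₀ h𝔪₀
    have h𝔪 : (𝔪₀.comap (algebraMap A A₀)).IsMaximal :=
      Ideal.comap_isMaximal_of_surjective _ hφ
    obtain ⟨g, hg, A', _, _, _, ρ, hρ⟩ := hloc _ h𝔪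
    refine ⟨algebraMap A A₀ g, fun h => hg (Ideal.mem_comap.mpr h), ?_⟩
    intro n
    obtain ⟨c, hc⟩ := one_tmul_surjective hφ (n : A₀ ⊗[A] C)
    have hπc : π c = 0 := by
      rw [← hπ₀κ]
      change π₀ (1 ⊗ₜ c) = 0
      rw [hc]
      exact n.2
    have h1 := hρ c 0 (by rw [hπc, map_zero])
    rw [map_zero, sub_zero] at h1
    obtain ⟨⟨⟨y, hy⟩, ⟨_, k, rfl⟩⟩, hyk⟩ :=
      (IsLocalization.mem_map_algebraMap_iff (Submonoid.powers g) A').mp h1
    have hy0 : algebraMap A A₀ y = 0 := hy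
    have hxJ : g ^ k • c - algebraMap A C y ∈ Jm := by
      change π _ = 0
      rw [map_sub, map_smul, hπc, smul_zero, hαI y hy0, sub_zero]
    refine ⟨k, ⟨_, hxJ⟩, ?_⟩
    apply Subtype.ext
    change κ (g ^ k • c - algebraMap A C y) = ((algebraMap A A₀ g) ^ k • n : N)
    rw [map_sub, map_smul, Submodule.coe_smul, ← hc, ← map_pow, algebraMap_smul]
    have : κ (algebraMap A C y) = 0 := by
      change (1 : A₀) ⊗ₜ[A] (algebraMap A C y) = 0
      rw [Algebra.algebraMap_eq_smul_one, ← TensorProduct.smul_tmul, Algebra.smul_def, hy0,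
        zero_mul, zero_tmul]
    rw [this, sub_zero]
    rfl
  -- injectivity of `A → C`
  have hinj : Function.Injective (Algebra.linearMap A C) := by
    rw [← LinearMap.ker_eq_bot, eq_bot_iff]
    intro a ha
    rw [LinearMap.mem_ker, Algebra.linearMap_apply] at ha
    rw [Submodule.mem_bot]
    let Ann : Ideal A := LinearMap.ker (LinearMap.toSpanSingleton A A a)
    suffices h1 : Ann = ⊤ by
      have : (1 : A) ∈ Ann := h1 ▸ Submodule.mem_top
      rw [LinearMap.mem_ker, LinearMap.toSpanSingleton_apply, one_smul] at this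
      exact this
    by_contra hne
    obtain ⟨𝔪, h𝔪, hle⟩ := Ideal.exists_le_maximal Ann hne
    obtain ⟨g, hg, A', _, _, _, ρ, -⟩ := hloc 𝔪 h𝔪
    have h2 : algebraMap A A' a = 0 := by
      rw [← AlgHom.commutes ρ, ha, map_zero]
    obtain ⟨⟨_, k, rfl⟩, hk⟩ := (IsLocalization.map_eq_zero_iff (Submonoid.powers g) A' a).mp h2
    have : g ^ k ∈ Ann := by
      rw [LinearMap.mem_ker, LinearMap.toSpanSingleton_apply, smul_eq_mul]
      exact hk
    exact hg (h𝔪.isPrime.mem_of_pow_mem k (hle this))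
  -- the retraction
  let ε : C →ₗ[A] C := LinearMap.id -
    Jm.subtype ∘ₗ (s.restrictScalars A) ∘ₗ (pr.restrictScalars A) ∘ₗ κ
  have hεdef : ∀ c, ε c = c - ((s (pr (κ c)) : Jm) : C) := fun c => rfl
  have hκs : ∀ n : N, κ ((s n : Jm) : C) = n := by
    intro n
    have := LinearMap.congr_fun hs n
    rw [← hq]
    exact congrArg Subtype.val this
  have hκα : ∀ a : A, κ (algebraMap A C a) = algebraMap A A₀ a • one₀ := by
    intro a
    change (1 : A₀) ⊗ₜ[A] (algebraMap A C a) = algebraMap A A₀ a • ((1 : A₀) ⊗ₜ[A] (1 : C))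
    rw [Algebra.algebraMap_eq_smul_one, ← TensorProduct.smul_tmul, TensorProduct.smul_tmul',
      Algebra.smul_def, smul_eq_mul]
  have hε : ∀ c, ε c ∈ LinearMap.range (Algebra.linearMap A C) := by
    intro c
    obtain ⟨a, ha⟩ := hφ (π c)
    have h1 : κ (ε c - algebraMap A C a) = 0 := by
      rw [map_sub, hεdef, map_sub, hκs, hpr, hκα, hπ₀κ, ha]
      abel
    obtain ⟨y, -, hy⟩ := exists_of_mem_smul_top hφ π hJ _
      (mem_smul_top_of_tmul_eq_zero hφ _ h1)
    refine ⟨y + a, ?_⟩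
    rw [Algebra.linearMap_apply, map_add, hy]
    abel
  let ρlin : C →ₗ[A] A :=
    (LinearEquiv.ofInjective (Algebra.linearMap A C) hinj).symm.toLinearMap ∘ₗ
      (ε.codRestrict _ hε)
  have hρlin : ∀ c, algebraMap A C (ρlin c) = ε c := by
    intro c
    have := LinearEquiv.ofInjective_symm_apply (f := Algebra.linearMap A C) (h := hinj)
      (ε.codRestrict _ hε c)
    exact this
  have hρ1 : ρlin 1 = 1 := by
    apply hinj
    rw [Algebra.linearMap_apply, Algebra.linearMap_apply, hρlin, hεdef, (algebraMap A C).map_one]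
    have : pr (κ 1) = 0 := by
      ext
      rw [hpr, hπ₀κ, map_one π, one_smul]
      exact sub_self _
    rw [this, map_zero, Submodule.coe_zero, sub_zero]
  have hρπ : ∀ c, algebraMap A A₀ (ρlin c) = π c := by
    intro c
    rw [← AlgHom.commutes π, hρlin, hεdef, map_sub]
    have : π ((s (pr (κ c)) : Jm) : C) = 0 := (s (pr (κ c))).2
    rw [this, sub_zero]
  exact ⟨AlgHom.ofLinearMap ρlin hρ1 (map_mul_of_linear π hJ ρlin hρ1 hρπ), hρπ⟩

end Main

end Groth.Agent.Lib.Helper79.LiftGlueProj
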