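import Mathlib
import Groth.Agent.Lib.Helper79.LiftGlueGeom
import Groth.Agent.Lib.Helper79.LiftGlueProj
import Groth.Agent.Lib.Helper79.SmoothLocalLift
import Groth.Agent.Lib.Helper48.FormallySmoothAppLE

/-!
# Local lifts along a first order thickening of an affine scheme glue: the formally smooth case
(helper79)
-/

set_option autoImplicit false

universe u

open AlgebraicGeometry CategoryTheory Limits

namespace Groth.Agent.Lib.Helper79.LiftGlueProjGeom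

open Groth.Agent.Lib.Helper79.LiftGlueLoc Groth.Agent.Lib.Helper79.LiftGlueGeom
  Groth.Agent.Lib.Helper79.LiftGlueProj

/-- Ring hom form of the lifting lemma for formally smooth ring maps. -/
theorem exists_ringHom_lift {R B A A₀ : Type u} [CommRing R] [CommRing B] [CommRing A]
    [CommRing A₀] (ρ : R →+* B) (hρ : ρ.FormallySmooth) (α : R →+* A) (π : A →+* A₀)
    (hπ : Function.Surjective π) (hker : IsNilpotent (RingHom.ker π)) (φ₀ : B →+* A₀)
    (hcomm : φ₀.comp ρ = π.comp α) : ∃ φ : B →+* A, φ.comp ρ = α ∧ π.comp φ = φ₀ := by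
  letI := ρ.toAlgebra
  letI := α.toAlgebra
  letI : Algebra R A₀ := (π.comp α).toAlgebra
  haveI : Algebra.FormallySmooth R B := hρ
  let π' : A →ₐ[R] A₀ := { π with commutes' := fun r => rfl }
  let φ₀' : B →ₐ[R] A₀ := { φ₀ with commutes' := fun r => congr($hcomm r) }
  have hker' : IsNilpotent (RingHom.ker (π' : A →+* A₀)) := hker
  let φ := Algebra.FormallySmooth.liftOfSurjective φ₀' π' hπ hker'
  refine ⟨φ.toRingHom, ?_, ?_⟩
  · ext r; exact φ.commutes r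
  · ext b; exact Algebra.FormallySmooth.liftOfSurjective_apply φ₀' π' hπ hker' b

/-- Transfer of formal smoothness of sections from an open subscheme. -/
theorem formallySmooth_appLE_of_le {P T : Scheme.{u}} (prT : P ⟶ T) (W : P.Opens)
    (hW : MoreMor.IsFormallySmoothHom (W.ι ≫ prT)) {Q : P.Opens} {D : T.Opens}
    (hQ : IsAffineOpen Q) (hD : IsAffineOpen D) (hQW : Q ≤ W) (hQD : Q ≤ prT ⁻¹ᵁ D) :
    (prT.appLE D Q hQD).hom.FormallySmooth := by
  have hQr : Q ≤ W.ι.opensRange := by rw [Scheme.Opens.opensRange_ι]; exact hQW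
  have hQ' : IsAffineOpen (W.ι ⁻¹ᵁ Q) := hQ.preimage_of_isOpenImmersion W.ι hQr
  have hle : W.ι ⁻¹ᵁ Q ≤ (W.ι ≫ prT) ⁻¹ᵁ D := fun z hz => hQD hz
  have h1 := Groth.Agent.Lib.Helper48.OmegaAff.formallySmooth_appLE (W.ι ≫ prT) hW hQ' hD hle
  have h3 : prT.appLE D Q hQD ≫ W.ι.appLE Q (W.ι ⁻¹ᵁ Q) le_rfl =
      (W.ι ≫ prT).appLE D (W.ι ⁻¹ᵁ Q) hle :=
    Scheme.Hom.appLE_comp_appLE _ _ _ _ _ _ _
  haveI : IsIso (W.ι.appLE Q (W.ι ⁻¹ᵁ Q) le_rfl) := by
    rw [Scheme.Hom.appLE_eq_app]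
    exact W.ι.isIso_app Q hQr
  rw [← h3, CommRingCat.hom_comp] at h1
  exact (RingHom.FormallySmooth.respectsIso.cancel_right_isIso _ _).mp h1

open TensorProduct Groth.Agent.Lib.Helper57.UnivThickGlue in
/-- Local projectivity of the universal thickening of a section of a morphism which is locally
formally smooth. -/
theorem proj_chart {T₀ T P P' : Scheme.{u}} [IsAffine T₀] [IsAffine T] [IsAffine P']
    (i : T₀ ⟶ T) [IsClosedImmersion i] (hi : MoreMor.IsFirstOrderThickening i)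
    (σ₀ : T₀ ⟶ P) (ι' : T₀ ⟶ P') (h' : P' ⟶ P) (prT : P ⟶ T)
    (hfs : ∀ p : P, ∃ W : P.Opens, p ∈ W ∧ MoreMor.IsFormallySmoothHom (W.ι ≫ prT))
    (hu : OmegaSh.IsUnivThickening σ₀ ι' h') (hσT : σ₀ ≫ prT = i) (t₀ : T₀) :
    letI : Algebra Γ(T, ⊤) Γ(T₀, ⊤) := i.appTop.hom.toAlgebra
    letI : Algebra Γ(T, ⊤) Γ(P', ⊤) := (h' ≫ prT).appTop.hom.toAlgebra
    ∃ g : Γ(T, ⊤), t₀ ∈ T₀.basicOpen (i.appTop.hom g) ∧
      Module.Projective (Localization.Away (algebraMap Γ(T, ⊤) Γ(T₀, ⊤) g))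
        (Localization.Away (algebraMap Γ(T, ⊤) Γ(T₀, ⊤) g) ⊗[Γ(T, ⊤)] Γ(P', ⊤)) := by
  letI algA₀ : Algebra Γ(T, ⊤) Γ(T₀, ⊤) := i.appTop.hom.toAlgebra
  letI algC : Algebra Γ(T, ⊤) Γ(P', ⊤) := (h' ≫ prT).appTop.hom.toAlgebra
  have hι' := hu.1
  haveI : IsClosedImmersion ι' := hι'.1.1
  have hι'h' : ι' ≫ h' = σ₀ := hu.2.1
  have hιp : ι' ≫ (h' ≫ prT) = i := by rw [← Category.assoc, hι'h', hσT]
  obtain ⟨W₀, hW₀mem, hW₀fs⟩ := hfs (σ₀ t₀)
  obtain ⟨Q₁, hQ₁, ht₀Q₁, hQ₁W₀⟩ :=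
    exists_isAffineOpen_mem_and_subset (x := σ₀ t₀) (U := W₀) hW₀mem
  let W : T.Opens := thickOpen i hi.1 (σ₀ ⁻¹ᵁ Q₁)
  have hitW : i t₀ ∈ W := (mem_thickOpen i hi.1 _ t₀).mpr ht₀Q₁
  obtain ⟨g, hgW, hgt⟩ := (isAffineOpen_top T).exists_basicOpen_le ⟨i t₀, hitW⟩ (Set.mem_univ _)
  refine ⟨g, ?_, ?_⟩
  · have : t₀ ∈ i ⁻¹ᵁ T.basicOpen g := hgt
    rwa [Scheme.preimage_basicOpen_top] at this
  have hD : IsAffineOpen (T.basicOpen g) := (isAffineOpen_top T).basicOpen g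
  have hV' : IsAffineOpen (P'.basicOpen ((h' ≫ prT).appTop.hom g)) :=
    (isAffineOpen_top P').basicOpen _
  have hV'eq : P'.basicOpen ((h' ≫ prT).appTop.hom g) = (h' ≫ prT) ⁻¹ᵁ T.basicOpen g :=
    (Scheme.preimage_basicOpen_top (h' ≫ prT) g).symm
  have hQ : IsAffineOpen (P.basicOpen
      (P.presheaf.map (homOfLE (le_top : Q₁ ≤ ⊤)).op (prT.appTop g))) := hQ₁.basicOpen _
  have hQeq : P.basicOpen (P.presheaf.map (homOfLE (le_top : Q₁ ≤ ⊤)).op (prT.appTop g)) =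
      Q₁ ⊓ prT ⁻¹ᵁ T.basicOpen g := by
    rw [Scheme.basicOpen_res, Scheme.preimage_basicOpen_top]
  have hQD : P.basicOpen (P.presheaf.map (homOfLE (le_top : Q₁ ≤ ⊤)).op (prT.appTop g)) ≤
      prT ⁻¹ᵁ T.basicOpen g := hQeq ▸ inf_le_right
  have he : P'.basicOpen ((h' ≫ prT).appTop.hom g) ≤ h' ⁻¹ᵁ
      (P.basicOpen (P.presheaf.map (homOfLE (le_top : Q₁ ≤ ⊤)).op (prT.appTop g))) := by
    intro y' hy'
    obtain ⟨z, rfl⟩ := hι'.1.2.surj y'
    rw [hV'eq] at hy'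
    have h0 : (h' ≫ prT) (ι' z) = i z := by rw [← Scheme.Hom.comp_apply, hιp]
    have h1 : i z ∈ T.basicOpen g := by
      rw [← h0]; exact hy'
    have h2 : z ∈ σ₀ ⁻¹ᵁ Q₁ := (mem_thickOpen i hi.1 _ z).mp (hgW h1)
    rw [hQeq]
    refine ⟨?_, ?_⟩
    · have : h' (ι' z) = σ₀ z := by rw [← Scheme.Hom.comp_apply, hι'h']
      show h' (ι' z) ∈ Q₁
      rw [this]; exact h2
    · exact hy'
  have hV₀eq : ι' ⁻¹ᵁ P'.basicOpen ((h' ≫ prT).appTop.hom g) =
      T₀.basicOpen (i.appTop.hom g) := by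
    rw [Scheme.preimage_basicOpen_top]
    congr 1
    change (ι' ≫ (h' ≫ prT)).appTop.hom g = _
    rw [hιp]
  have hV₀D : ι' ⁻¹ᵁ P'.basicOpen ((h' ≫ prT).appTop.hom g) = i ⁻¹ᵁ T.basicOpen g := by
    rw [hV₀eq, Scheme.preimage_basicOpen_top]
  have e1 : (i.appLE (T.basicOpen g) (ι' ⁻¹ᵁ P'.basicOpen ((h' ≫ prT).appTop.hom g))
      hV₀D.le).hom.comp (T.presheaf.map (homOfLE (T.basicOpen_le g)).op).hom =
      (T₀.presheaf.map (homOfLE (le_top :
        ι' ⁻¹ᵁ P'.basicOpen ((h' ≫ prT).appTop.hom g) ≤ ⊤)).op).hom.comp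
        (algebraMap Γ(T, ⊤) Γ(T₀, ⊤)) := by
    have : T.presheaf.map (homOfLE (T.basicOpen_le g)).op ≫
        i.appLE (T.basicOpen g) (ι' ⁻¹ᵁ P'.basicOpen ((h' ≫ prT).appTop.hom g)) hV₀D.le =
        i.app ⊤ ≫ T₀.presheaf.map (homOfLE (le_top :
          ι' ⁻¹ᵁ P'.basicOpen ((h' ≫ prT).appTop.hom g) ≤ ⊤)).op := by
      rw [Scheme.Hom.map_appLE, Scheme.Hom.app_eq_appLE, Scheme.Hom.appLE_map]
    exact congrArg CommRingCat.Hom.hom this
  have e2 : ((h'.appLE _ _ he).hom.comp (prT.appLE (T.basicOpen g) _ hQD).hom).comp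
      (T.presheaf.map (homOfLE (T.basicOpen_le g)).op).hom =
      (P'.presheaf.map (homOfLE (P'.basicOpen_le ((h' ≫ prT).appTop.hom g))).op).hom.comp
        (algebraMap Γ(T, ⊤) Γ(P', ⊤)) := by
    have : T.presheaf.map (homOfLE (T.basicOpen_le g)).op ≫
        prT.appLE (T.basicOpen g) _ hQD ≫ h'.appLE _ _ he =
        (h' ≫ prT).app ⊤ ≫
          P'.presheaf.map (homOfLE (P'.basicOpen_le ((h' ≫ prT).appTop.hom g))).op := by
      rw [Scheme.Hom.appLE_comp_appLE, Scheme.Hom.map_appLE, Scheme.Hom.app_eq_appLE,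
        Scheme.Hom.appLE_map]
    exact congrArg CommRingCat.Hom.hom this
  have e4 : (((ι'.app (P'.basicOpen ((h' ≫ prT).appTop.hom g))).hom.comp
      (h'.appLE _ _ he).hom).comp (prT.appLE (T.basicOpen g) _ hQD).hom) =
      (i.appLE (T.basicOpen g) (ι' ⁻¹ᵁ P'.basicOpen ((h' ≫ prT).appTop.hom g)) hV₀D.le).hom := by
    have : prT.appLE (T.basicOpen g) _ hQD ≫ h'.appLE _ _ he ≫
        ι'.app (P'.basicOpen ((h' ≫ prT).appTop.hom g)) =
        i.appLE (T.basicOpen g) (ι' ⁻¹ᵁ P'.basicOpen ((h' ≫ prT).appTop.hom g)) hV₀D.le := by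
      rw [Scheme.Hom.app_eq_appLE, Scheme.Hom.appLE_comp_appLE, Scheme.Hom.appLE_comp_appLE]
      exact appLE_congr_hom (by rw [Category.assoc, hιp]) _ _ _
    exact congrArg CommRingCat.Hom.hom this
  have hξ : (prT.appLE (T.basicOpen g) _ hQD).hom.FormallySmooth :=
    formallySmooth_appLE_of_le prT W₀ hW₀fs hQ hD
      ((hQeq ▸ inf_le_left : _ ≤ Q₁).trans hQ₁W₀) hQD
  have hφ' : Function.Surjective (i.appLE (T.basicOpen g)
      (ι' ⁻¹ᵁ P'.basicOpen ((h' ≫ prT).appTop.hom g)) hV₀D.le).hom :=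
    appLE_surjective_of_eq i hD hV₀D
  exact proj_local_of_chart g
    (T.presheaf.map (homOfLE (T.basicOpen_le g)).op).hom
    (T₀.presheaf.map (homOfLE (le_top :
        ι' ⁻¹ᵁ P'.basicOpen ((h' ≫ prT).appTop.hom g) ≤ ⊤)).op).hom
    (P'.presheaf.map (homOfLE (P'.basicOpen_le ((h' ≫ prT).appTop.hom g))).op).hom
    (i.appLE (T.basicOpen g) (ι' ⁻¹ᵁ P'.basicOpen ((h' ≫ prT).appTop.hom g)) hV₀D.le).hom
    (prT.appLE (T.basicOpen g) _ hQD).hom
    (h'.appLE _ _ he).hom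
    (ι'.app (P'.basicOpen ((h' ≫ prT).appTop.hom g))).hom
    (isLocalization_away_of_isAffine g)
    ((isAffineOpen_top T₀).isLocalization_of_eq_basicOpen _ (homOfLE le_top) hV₀eq)
    (isLocalization_away_of_isAffine ((h' ≫ prT).appTop.hom g))
    e1 e2 e4 hξ hφ' (isUnivThickHom_of_affine hu hQ hV' he)

open TensorProduct Groth.Agent.Lib.Helper6.ThickIsAffine in
/-- **Core theorem (projective variant).** Local lifts along a first order thickening of an affine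
scheme against a morphism whose base change is locally formally smooth glue to a global lift. -/
theorem exists_lift_affine_proj {S X T T₀ : Scheme.{u}} (f : X ⟶ S)
    (i : T₀ ⟶ T) (hi : MoreMor.IsFirstOrderThickening i) [IsAffine T₀]
    (a : T ⟶ S) (a₀ : T₀ ⟶ X) (hsqr : a₀ ≫ f = i ≫ a)
    (hfs : ∀ p : ↑(pullback f a), ∃ W : (pullback f a).Opens, p ∈ W ∧
      MoreMor.IsFormallySmoothHom (W.ι ≫ pullback.snd f a))
    (hloc : ∀ t : T, ∃ (U : T.Opens) (b : (U : Scheme.{u}) ⟶ X), t ∈ U ∧ b ≫ f = U.ι ≫ a ∧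
      ∀ (Q : Scheme.{u}) (p₁ : Q ⟶ T₀) (p₂ : Q ⟶ U), p₁ ≫ i = p₂ ≫ U.ι → p₂ ≫ b = p₁ ≫ a₀) :
    ∃ b' : T ⟶ X, b' ≫ f = a ∧ i ≫ b' = a₀ := by
  haveI hcl : IsClosedImmersion i := hi.1.1
  haveI : IsAffine T := isAffine_of_thickening i hi.1.2.surj
  let σ₀ : T₀ ⟶ pullback f a := pullback.lift a₀ i hsqr
  have hσX : σ₀ ≫ pullback.fst f a = a₀ := pullback.lift_fst _ _ _
  have hσT : σ₀ ≫ pullback.snd f a = i := pullback.lift_snd _ _ _
  haveI : Mono σ₀ := mono_of_mono_fac hσT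
  haveI : FormallyUnramified σ₀ := inferInstance
  obtain ⟨P', ι', h', hu⟩ := Groth.Agent.S9731.result σ₀
  have hι' := hu.1
  haveI : IsClosedImmersion ι' := hι'.1.1
  haveI : IsAffine P' := isAffine_of_thickening ι' hι'.1.2.surj
  have hι'h' : ι' ≫ h' = σ₀ := hu.2.1
  have hιp : ι' ≫ (h' ≫ pullback.snd f a) = i := by rw [← Category.assoc, hι'h', hσT]
  suffices hsec : ∃ s : T ⟶ P', s ≫ (h' ≫ pullback.snd f a) = 𝟙 T ∧ i ≫ s = ι' by
    obtain ⟨s, hs1, hs2⟩ := hsec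
    refine ⟨s ≫ h' ≫ pullback.fst f a, ?_, ?_⟩
    · rw [Category.assoc, Category.assoc, pullback.condition, ← Category.assoc h',
        ← Category.assoc s, hs1, Category.id_comp]
    · rw [← Category.assoc, hs2, ← Category.assoc, hι'h', hσX]
  letI algA₀ : Algebra Γ(T, ⊤) Γ(T₀, ⊤) := i.appTop.hom.toAlgebra
  letI algC : Algebra Γ(T, ⊤) Γ(P', ⊤) := (h' ≫ pullback.snd f a).appTop.hom.toAlgebra
  let π : Γ(P', ⊤) →ₐ[Γ(T, ⊤)] Γ(T₀, ⊤) :=
    { ι'.appTop.hom with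
      commutes' := fun x => by
        change ι'.appTop.hom ((h' ≫ pullback.snd f a).appTop.hom x) = i.appTop.hom x
        rw [← hιp]
        rfl }
  have hπ : ∀ c, π c = ι'.appTop.hom c := fun c => rfl
  have hφ : Function.Surjective (algebraMap Γ(T, ⊤) Γ(T₀, ⊤)) :=
    i.app_surjective ⊤ (isAffineOpen_top T)
  have hJ : ∀ x y : Γ(P', ⊤), π x = 0 → π y = 0 → x * y = 0 := fun x y hx hy =>
    ker_app_sq hι' (isAffineOpen_top P') x y hx hy
  haveI : Module.Projective Γ(T₀, ⊤) (Γ(T₀, ⊤) ⊗[Γ(T, ⊤)] Γ(P', ⊤)) := by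
    apply proj_of_local
    intro 𝔪₀ h𝔪₀
    obtain ⟨r, hfp, hr⟩ := exists_notMem_of_cover
      {r : Γ(T₀, ⊤) | Module.Projective (Localization.Away r)
        (Localization.Away r ⊗[Γ(T, ⊤)] Γ(P', ⊤))}
      (fun t₀ => by
        obtain ⟨g, hg, hfp⟩ := proj_chart i hi σ₀ ι' h' (pullback.snd f a) hfs hu hσT t₀
        exact ⟨_, hfp, hg⟩) 𝔪₀ h𝔪₀.ne_top
    exact ⟨r, hr, hfp⟩
  -- local retractions
  have hcover : ∀ t : T, ∃ g ∈ {g : Γ(T, ⊤) | ∃ ρc : Γ(P', ⊤) ⟶ Γ(T, T.basicOpen g),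
      (h' ≫ pullback.snd f a).appTop ≫ ρc = T.presheaf.map (homOfLE (T.basicOpen_le g)).op ∧
      ρc ≫ i.app (T.basicOpen g) = ι'.appTop ≫ T₀.presheaf.map (homOfLE le_top).op},
      t ∈ T.basicOpen g := by
    intro t
    obtain ⟨U, b, htU, hb1, hb2⟩ := hloc t
    obtain ⟨g, hgU, hgt⟩ := (isAffineOpen_top T).exists_basicOpen_le ⟨t, htU⟩ (Set.mem_univ _)
    refine ⟨g, ?_, hgt⟩
    have hD : IsAffineOpen (T.basicOpen g) := (isAffineOpen_top T).basicOpen g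
    have hD₀ : IsAffineOpen (i ⁻¹ᵁ T.basicOpen g) := hD.preimage i
    have hfs : Spec.map (i.app (T.basicOpen g)) ≫ hD.fromSpec = hD₀.fromSpec ≫ i := by
      rw [← Scheme.Hom.appLE_eq_app]
      exact hD.SpecMap_appLE_fromSpec i hD₀ le_rfl
    have hw : (hD.isoSpec.inv ≫ T.homOfLE hgU ≫ b) ≫ f = hD.fromSpec ≫ a := by
      rw [Category.assoc, Category.assoc, hb1, Scheme.homOfLE_ι_assoc, ← Category.assoc,
        IsAffineOpen.isoSpec_inv_ι]
    let sD₀ : Spec Γ(T, T.basicOpen g) ⟶ pullback f a :=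
      pullback.lift (hD.isoSpec.inv ≫ T.homOfLE hgU ≫ b) hD.fromSpec hw
    have hs : Spec.map (i.app (T.basicOpen g)) ≫ sD₀ = hD₀.fromSpec ≫ σ₀ := by
      apply pullback.hom_ext
      · rw [Category.assoc, pullback.lift_fst, Category.assoc, hσX]
        have := hb2 _ hD₀.fromSpec
          (Spec.map (i.app (T.basicOpen g)) ≫ hD.isoSpec.inv ≫ T.homOfLE hgU) (by
            rw [Category.assoc, Category.assoc, Scheme.homOfLE_ι, IsAffineOpen.isoSpec_inv_ι,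
              hfs])
        rw [← this, Category.assoc, Category.assoc]
      · rw [Category.assoc, pullback.lift_snd, Category.assoc, hσT, hfs]
    obtain ⟨ρc, h1, h2⟩ := exists_local_retraction i hi σ₀ ι' h' hu hD sD₀ hs
    refine ⟨ρc, ?_, h2⟩
    apply Spec.map_injective
    have h3 : Spec.map ρc ≫ P'.isoSpec.inv ≫ (h' ≫ pullback.snd f a) = hD.fromSpec := by
      rw [show Spec.map ρc ≫ P'.isoSpec.inv ≫ (h' ≫ pullback.snd f a) =
        (Spec.map ρc ≫ P'.isoSpec.inv ≫ h') ≫ pullback.snd f a by simp only [Category.assoc], h1]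
      exact pullback.lift_snd _ _ _
    rw [← Scheme.isoSpec_inv_naturality, ← Category.assoc, ← Spec.map_comp, Iso.comp_inv_eq,
      Scheme.isoSpec_hom, IsAffineOpen.fromSpec_toSpecΓ] at h3
    exact h3
  obtain ⟨ρ, hρ⟩ := exists_retraction_proj hφ π hJ (by
    intro 𝔪 h𝔪
    obtain ⟨g, ⟨ρc, hρ1, hρ2⟩, hg⟩ := exists_notMem_of_cover _ hcover 𝔪 h𝔪.ne_top
    refine ⟨g, hg, Γ(T, T.basicOpen g), inferInstance, inferInstance,
      isLocalization_away_of_isAffine g,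
      { ρc.hom with commutes' := fun x => congrArg (fun k => k.hom x) hρ1 }, ?_⟩
    intro c x hcx
    have hD : IsAffineOpen (T.basicOpen g) := (isAffineOpen_top T).basicOpen g
    have hker : RingHom.ker (i.app (T.basicOpen g)).hom =
        Ideal.map (T.presheaf.map (homOfLE (T.basicOpen_le g)).op).hom
          (RingHom.ker i.appTop.hom) := by
      have h1 := i.ker.map_ideal_basicOpen ⟨⊤, isAffineOpen_top T⟩ g
      rw [Scheme.Hom.ker_apply, Scheme.Hom.ker_apply] at h1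
      exact h1.symm
    change ρc.hom c - (T.presheaf.map (homOfLE (T.basicOpen_le g)).op).hom x ∈
      Ideal.map (T.presheaf.map (homOfLE (T.basicOpen_le g)).op).hom (RingHom.ker i.appTop.hom)
    rw [← hker, RingHom.mem_ker, map_sub, sub_eq_zero]
    have e1 : (i.app (T.basicOpen g)).hom (ρc.hom c) =
        (T₀.presheaf.map (homOfLE le_top).op).hom (ι'.appTop.hom c) :=
      congrArg (fun k => k.hom c) hρ2
    have e2 : (i.app (T.basicOpen g)).hom
        ((T.presheaf.map (homOfLE (T.basicOpen_le g)).op).hom x) =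
        (T₀.presheaf.map (homOfLE le_top).op).hom (i.appTop.hom x) := by
      have := i.naturality (homOfLE (T.basicOpen_le g)).op
      exact congrArg (fun k => k.hom x) this
    rw [e1, e2]
    congr 1)
  -- the section
  let ρc : Γ(P', ⊤) ⟶ Γ(T, ⊤) := CommRingCat.ofHom ρ.toRingHom
  have hρα : (h' ≫ pullback.snd f a).appTop ≫ ρc = 𝟙 _ := by
    ext x
    exact ρ.commutes x
  have hρφ : ρc ≫ i.appTop = ι'.appTop := by
    ext c
    exact hρ c
  refine ⟨T.isoSpec.hom ≫ Spec.map ρc ≫ P'.isoSpec.inv, ?_, ?_⟩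
  · rw [Category.assoc, Category.assoc, ← Scheme.isoSpec_inv_naturality, ← Category.assoc (Spec.map ρc),
      ← Spec.map_comp, hρα, Spec.map_id, Category.id_comp, Iso.hom_inv_id]
  · rw [← Category.assoc, ← Scheme.isoSpec_hom_naturality, Category.assoc, ← Category.assoc (Spec.map _),
      ← Spec.map_comp, hρφ, ← Category.assoc, Scheme.isoSpec_hom_naturality, Category.assoc,
      Iso.hom_inv_id, Category.comp_id]

end Groth.Agent.Lib.Helper79.LiftGlueProjGeom
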