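import Mathlib
import Groth.Agent.Lib.Helper79.LiftGlueProjGeom
import Groth.Agent.Lib.Helper19.FormallyEtaleAffine

/-!
# Affine-locally formally smooth morphisms are formally smooth (helper79)
-/

set_option autoImplicit false
universe u
open CategoryTheory CategoryTheory.Limits AlgebraicGeometry Opposite

namespace Groth.Agent.Lib.Helper79.FormallySmoothLocal

open Groth.Agent.Lib.Helper79.SmoothLocalLift

/-- All ring maps on pairs of affine opens are formally smooth. -/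
def AffLocFS {X S : Scheme.{u}} (f : X ⟶ S) : Prop :=
  ∀ (U : X.Opens) (V : S.Opens) (_ : IsAffineOpen U) (_ : IsAffineOpen V) (e : U ≤ f ⁻¹ᵁ V),
    (f.appLE V U e).hom.FormallySmooth

open Groth.Agent.Lib.Helper57.FlatThick in
/-- **Local lifting for affine-locally formally smooth morphisms of schemes along a first order
thickening**: Zariski locally on the thickening, the dotted arrow exists. -/
theorem exists_local_lift {X₁ Y₁ W U : Scheme.{u}} (g : X₁ ⟶ Y₁) (hg : AffLocFS g) (i : W ⟶ U)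
    (hi' : MoreMor.IsFirstOrderThickening i) (a : W ⟶ X₁) (b : U ⟶ Y₁) (w : a ≫ g = i ≫ b) (u : U) :
    ∃ (U₃ : U.Opens) (l : (U₃ : Scheme.{u}) ⟶ X₁), IsAffineOpen U₃ ∧ u ∈ U₃ ∧
      l ≫ g = U₃.ι ≫ b ∧
      ∀ (Q : Scheme.{u}) (p₁ : Q ⟶ W) (p₂ : Q ⟶ U₃), p₁ ≫ i = p₂ ≫ U₃.ι → p₂ ≫ l = p₁ ≫ a := by
  have hi : MoreMor.IsThickening i := hi'.1
  haveI : IsClosedImmersion i := hi.1
  haveI : Surjective i := hi.2
  obtain ⟨w₀, rfl⟩ := i.surjective u
  obtain ⟨Y', hY', hyY', -⟩ := exists_affine_nbhd (⊤ : Y₁.Opens) (g (a w₀)) trivial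
  obtain ⟨X', hX', hxX', hX'le⟩ := exists_affine_nbhd (g ⁻¹ᵁ Y') (a w₀) hyY'
  let O : U.Opens := thickOpen i hi (a ⁻¹ᵁ X') ⊓ b ⁻¹ᵁ Y'
  have hO : i w₀ ∈ O := by
    refine ⟨(mem_thickOpen i hi _ w₀).2 hxX', ?_⟩
    change b (i w₀) ∈ Y'
    rw [← Scheme.Hom.comp_apply, ← w]
    exact hyY'
  obtain ⟨U₃, hU₃, huU₃, hU₃le⟩ := exists_affine_nbhd O (i w₀) hO
  have hW₃ : IsAffineOpen (i ⁻¹ᵁ U₃) := hU₃.preimage i
  have hW₃le : i ⁻¹ᵁ U₃ ≤ a ⁻¹ᵁ X' := by
    intro z hz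
    have : i z ∈ thickOpen i hi (a ⁻¹ᵁ X') := (hU₃le hz).1
    exact (mem_thickOpen i hi _ z).1 this
  have hU₃b : U₃ ≤ b ⁻¹ᵁ Y' := fun z hz => (hU₃le hz).2
  have hcomm : (a.appLE X' (i ⁻¹ᵁ U₃) hW₃le).hom.comp (g.appLE Y' X' hX'le).hom =
      (i.app U₃).hom.comp (b.appLE Y' U₃ hU₃b).hom := by
    rw [← CommRingCat.hom_comp, ← CommRingCat.hom_comp, Scheme.Hom.appLE_comp_appLE,
      Scheme.Hom.app_eq_appLE, Scheme.Hom.appLE_comp_appLE, appLE_congr_hom w]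
  have hnil : IsNilpotent (RingHom.ker (i.app U₃).hom) := by
    refine ⟨2, ?_⟩
    have h2 : RingHom.ker (i.app U₃).hom ^ 2 =
        RingHom.ker (i.app U₃).hom * RingHom.ker (i.app U₃).hom := pow_two _
    rw [Ideal.zero_eq_bot, eq_bot_iff, h2, Ideal.mul_le]
    intro x hx y hy
    rw [Ideal.mem_bot]
    exact Groth.Agent.Lib.Helper79.LiftGlueGeom.ker_app_sq hi' hU₃ x y hx hy
  obtain ⟨φ, hφ1, hφ2⟩ := Groth.Agent.Lib.Helper79.LiftGlueProjGeom.exists_ringHom_lift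
    (g.appLE Y' X' hX'le).hom
    (hg X' Y' hX' hY' hX'le) (b.appLE Y' U₃ hU₃b).hom (i.app U₃).hom
    (i.app_surjective U₃ hU₃) hnil
    (a.appLE X' (i ⁻¹ᵁ U₃) hW₃le).hom hcomm
  have hφ1' : g.appLE Y' X' hX'le ≫ CommRingCat.ofHom φ = b.appLE Y' U₃ hU₃b := by
    ext1; exact hφ1
  have hφ2' : CommRingCat.ofHom φ ≫ i.app U₃ = a.appLE X' (i ⁻¹ᵁ U₃) hW₃le := by
    ext1; exact hφ2
  refine ⟨U₃, hU₃.isoSpec.hom ≫ Spec.map (CommRingCat.ofHom φ) ≫ hX'.fromSpec, hU₃, huU₃, ?_, ?_⟩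
  · rw [Category.assoc, Category.assoc, ← IsAffineOpen.SpecMap_appLE_fromSpec g hY' hX' hX'le,
      ← Spec.map_comp_assoc, hφ1', IsAffineOpen.SpecMap_appLE_fromSpec b hY' hU₃ hU₃b,
      IsAffineOpen.isoSpec_hom_fromSpec_assoc]
  · have hnat : (i ∣_ U₃) ≫ hU₃.isoSpec.hom = hW₃.isoSpec.hom ≫ Spec.map (i.app U₃) := by
      rw [← cancel_mono hU₃.fromSpec, Category.assoc, IsAffineOpen.isoSpec_hom_fromSpec,
        morphismRestrict_ι, Category.assoc, Scheme.Hom.app_eq_appLE,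
        IsAffineOpen.SpecMap_appLE_fromSpec i hU₃ hW₃ le_rfl,
        IsAffineOpen.isoSpec_hom_fromSpec_assoc]
    have hcan : (i ∣_ U₃) ≫ hU₃.isoSpec.hom ≫ Spec.map (CommRingCat.ofHom φ) ≫ hX'.fromSpec =
        (i ⁻¹ᵁ U₃).ι ≫ a := by
      rw [reassoc_of% hnat, ← Spec.map_comp_assoc, hφ2',
        IsAffineOpen.SpecMap_appLE_fromSpec a hX' hW₃ hW₃le,
        IsAffineOpen.isoSpec_hom_fromSpec_assoc]
    intro Q p₁ p₂ hp
    obtain ⟨q, hq1, hq2⟩ : ∃ q : Q ⟶ (i ⁻¹ᵁ U₃ : Scheme.{u}),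
        q ≫ (i ∣_ U₃) = p₂ ∧ q ≫ (i ⁻¹ᵁ U₃).ι = p₁ :=
      ⟨(isPullback_morphismRestrict i U₃).lift p₂ p₁ hp.symm,
        (isPullback_morphismRestrict i U₃).lift_fst _ _ _,
        (isPullback_morphismRestrict i U₃).lift_snd _ _ _⟩
    rw [← hq1, ← hq2, Category.assoc, hcan, Category.assoc]

open Groth.Agent.Lib.Helper19.FEG in
/-- The base change of an affine-locally formally smooth chart is formally smooth (lifting
sense) on the preimage of the chart. -/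
theorem isFormallySmoothHom_chart {X S T : Scheme.{u}} (f : X ⟶ S) (a : T ⟶ S) {U : X.Opens}
    {V : S.Opens} (hU : IsAffineOpen U) (hV : IsAffineOpen V) (e : U ≤ f ⁻¹ᵁ V)
    (hfs : (f.appLE V U e).hom.FormallySmooth) :
    MoreMor.IsFormallySmoothHom (((pullback.fst f a) ⁻¹ᵁ U).ι ≫ pullback.snd f a) := by
  intro E _ L hL c₀ d hsq
  let W : (pullback f a).Opens := (pullback.fst f a) ⁻¹ᵁ U
  let j := Spec.map (CommRingCat.ofHom (Ideal.Quotient.mk L))
  have hjsurj : Function.Surjective j := specMap_mk_surjective L hL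
  let c₁ : Spec (CommRingCat.of (E ⧸ L)) ⟶ X := c₀ ≫ W.ι ≫ pullback.fst f a
  have hc₁mem : ∀ z, c₁ z ∈ U := by
    intro z
    have h1 : c₀ z ∈ W.ι ⁻¹ᵁ W := by rw [Scheme.Opens.ι_preimage_self]; trivial
    have h2 : c₁ z = pullback.fst f a (W.ι (c₀ z)) := by
      rw [← Scheme.Hom.comp_apply, ← Scheme.Hom.comp_apply]
    rw [h2]
    exact h1
  have hc₁U : Set.range c₁ ⊆ Set.range hU.fromSpec := by
    rw [hU.range_fromSpec]
    rintro _ ⟨z, rfl⟩
    exact hc₁mem z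
  obtain ⟨φ₀, hφ₀⟩ := Spec.map_surjective (IsOpenImmersion.lift hU.fromSpec c₁ hc₁U)
  have hφ₀' : Spec.map φ₀ ≫ hU.fromSpec = c₁ := by
    rw [hφ₀]; exact IsOpenImmersion.lift_fac _ _ _
  have hkey : j ≫ d ≫ a = c₁ ≫ f := by
    rw [← Category.assoc, hsq]
    simp only [Category.assoc, c₁]
    rw [pullback.condition]
  have hdaV : Set.range (d ≫ a) ⊆ Set.range hV.fromSpec := by
    rw [hV.range_fromSpec]
    rintro _ ⟨y, rfl⟩
    obtain ⟨z, rfl⟩ := hjsurj y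
    rw [← Scheme.Hom.comp_apply, hkey, Scheme.Hom.comp_apply]
    exact e (hc₁mem z)
  obtain ⟨α, hα⟩ := Spec.map_surjective (IsOpenImmersion.lift hV.fromSpec (d ≫ a) hdaV)
  have hα' : Spec.map α ≫ hV.fromSpec = d ≫ a := by
    rw [hα]; exact IsOpenImmersion.lift_fac _ _ _
  have hXV : Spec.map (f.appLE V U e) ≫ hV.fromSpec = hU.fromSpec ≫ f :=
    hV.SpecMap_appLE_fromSpec f hU e
  have hcomm : f.appLE V U e ≫ φ₀ = α ≫ CommRingCat.ofHom (Ideal.Quotient.mk L) := by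
    apply Spec.map_injective
    rw [← cancel_mono hV.fromSpec]
    calc Spec.map (f.appLE V U e ≫ φ₀) ≫ hV.fromSpec
        = Spec.map φ₀ ≫ Spec.map (f.appLE V U e) ≫ hV.fromSpec := by
          rw [Spec.map_comp, Category.assoc]
      _ = c₁ ≫ f := by rw [hXV, ← Category.assoc, hφ₀']
      _ = j ≫ d ≫ a := hkey.symm
      _ = Spec.map (α ≫ CommRingCat.ofHom (Ideal.Quotient.mk L)) ≫ hV.fromSpec := by
          rw [Spec.map_comp, Category.assoc, hα']
  have hnil : IsNilpotent (RingHom.ker (Ideal.Quotient.mk L)) := by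
    refine ⟨2, ?_⟩
    rw [Ideal.mk_ker, hL]
    rfl
  obtain ⟨φ, hφ1, hφ2⟩ := Groth.Agent.Lib.Helper79.LiftGlueProjGeom.exists_ringHom_lift
    (f.appLE V U e).hom hfs α.hom (Ideal.Quotient.mk L) Ideal.Quotient.mk_surjective hnil
    φ₀.hom (by
      ext x
      exact congrArg (fun k => k.hom x) hcomm)
  have hφ1' : f.appLE V U e ≫ CommRingCat.ofHom φ = α := by
    ext1; exact hφ1
  have hφ2' : CommRingCat.ofHom φ ≫ CommRingCat.ofHom (Ideal.Quotient.mk L) = φ₀ := by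
    ext1; exact hφ2
  let m : Spec (CommRingCat.of E) ⟶ X := Spec.map (CommRingCat.ofHom φ) ≫ hU.fromSpec
  have hmf : m ≫ f = d ≫ a := by
    change (Spec.map (CommRingCat.ofHom φ) ≫ hU.fromSpec) ≫ f = d ≫ a
    rw [Category.assoc, ← hXV, ← Category.assoc, ← Spec.map_comp, hφ1', hα']
  let l' : Spec (CommRingCat.of E) ⟶ pullback f a := pullback.lift m d hmf
  have hl'range : Set.range l' ⊆ Set.range W.ι := by
    rw [Scheme.Opens.range_ι]
    rintro _ ⟨y, rfl⟩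
    change pullback.fst f a (l' y) ∈ U
    rw [← Scheme.Hom.comp_apply, pullback.lift_fst]
    have : m y ∈ Set.range hU.fromSpec := ⟨_, (Scheme.Hom.comp_apply _ _ _).symm⟩
    rw [hU.range_fromSpec] at this
    exact this
  refine ⟨IsOpenImmersion.lift W.ι l' hl'range, ?_, ?_⟩
  · rw [← cancel_mono W.ι, Category.assoc, IsOpenImmersion.lift_fac]
    apply pullback.hom_ext
    · rw [Category.assoc, pullback.lift_fst, Category.assoc]
      change Spec.map (CommRingCat.ofHom (Ideal.Quotient.mk L)) ≫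
        Spec.map (CommRingCat.ofHom φ) ≫ hU.fromSpec = c₁
      rw [← Category.assoc, ← Spec.map_comp, hφ2', hφ₀']
    · rw [Category.assoc, pullback.lift_snd, Category.assoc]
      exact hsq
  · rw [← Category.assoc, IsOpenImmersion.lift_fac]
    exact pullback.lift_snd _ _ _

/-- **Affine-locally formally smooth morphisms are formally smooth** (lifting sense, no
finiteness). -/
theorem isFormallySmoothHom_of_affLocFS {X S : Scheme.{u}} (f : X ⟶ S) (hf : AffLocFS f) :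
    MoreMor.IsFormallySmoothHom f := by
  intro A _ I hI a b hsq
  have hi := Groth.Agent.Lib.Helper79.AlgSpFormalEtale.isFirstOrderThickening_specMk I hI
  obtain ⟨l, hl1, hl2⟩ := Groth.Agent.Lib.Helper79.LiftGlueProjGeom.exists_lift_affine_proj f
    (Spec.map (CommRingCat.ofHom (Ideal.Quotient.mk I))) hi b a hsq.symm
    (by
      intro p
      obtain ⟨V, hV, hpV, -⟩ := exists_affine_nbhd (⊤ : S.Opens) (f (pullback.fst f b p)) trivial
      obtain ⟨U, hU, hpU, hUV⟩ := exists_affine_nbhd (f ⁻¹ᵁ V) (pullback.fst f b p) hpV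
      exact ⟨(pullback.fst f b) ⁻¹ᵁ U, hpU,
        isFormallySmoothHom_chart f b hU hV hUV (hf U V hU hV hUV)⟩)
    (by
      intro t
      obtain ⟨U₃, l, -, hu, hl1, hl2⟩ :=
        exists_local_lift f hf (Spec.map (CommRingCat.ofHom (Ideal.Quotient.mk I))) hi a b
          hsq.symm t
      exact ⟨U₃, l, hu, hl1, hl2⟩)
  exact ⟨l, hl2, hl1⟩

end Groth.Agent.Lib.Helper79.FormallySmoothLocal
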