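import Mathlib

set_option autoImplicit false

namespace Groth.Agent.Lib.Helper79

open MvPolynomial KaehlerDifferential TensorProduct

theorem D_eq_sum {k : Type*} [Field k] (F : MvPolynomial (Fin 2) k) :
    D k (MvPolynomial (Fin 2) k) F =
      ∑ i, pderiv i F • D k (MvPolynomial (Fin 2) k) (X i) := by
  have := (mvPolynomialBasis k (Fin 2)).sum_repr (D k (MvPolynomial (Fin 2) k) F)
  rw [← this]
  apply Finset.sum_congr rfl
  intro i _
  rw [mvPolynomialBasis_repr_apply, mvPolynomialBasis_apply]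

theorem jac_of_formallySmooth {k : Type*} [Field k] (F : MvPolynomial (Fin 2) k) (hF : F ≠ 0)
    (h : Algebra.FormallySmooth k
      (MvPolynomial (Fin 2) k ⧸ Ideal.span ({F} : Set (MvPolynomial (Fin 2) k)))) :
    (1 : MvPolynomial (Fin 2) k) ∈
      Ideal.span ({F, pderiv 0 F, pderiv 1 F} : Set (MvPolynomial (Fin 2) k)) := by
  have hsurj : Function.Surjective (algebraMap (MvPolynomial (Fin 2) k)
      (MvPolynomial (Fin 2) k ⧸ Ideal.span ({F} : Set (MvPolynomial (Fin 2) k)))) :=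
    Ideal.Quotient.mk_surjective
  obtain ⟨l, hl⟩ := (Algebra.FormallySmooth.iff_split_injection (R := k)
    (P := MvPolynomial (Fin 2) k)
    (A := MvPolynomial (Fin 2) k ⧸ Ideal.span ({F} : Set (MvPolynomial (Fin 2) k))) hsurj).mp h
  have hker : RingHom.ker (algebraMap (MvPolynomial (Fin 2) k)
      (MvPolynomial (Fin 2) k ⧸ Ideal.span ({F} : Set (MvPolynomial (Fin 2) k)))) =
      Ideal.span ({F} : Set (MvPolynomial (Fin 2) k)) := Ideal.mk_ker
  have hFI : F ∈ RingHom.ker (algebraMap (MvPolynomial (Fin 2) k)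
      (MvPolynomial (Fin 2) k ⧸ Ideal.span ({F} : Set (MvPolynomial (Fin 2) k)))) := by
    rw [hker]; exact Ideal.subset_span rfl
  have h1 := LinearMap.congr_fun hl (Ideal.toCotangent _ ⟨F, hFI⟩)
  rw [LinearMap.comp_apply, kerCotangentToTensor_toCotangent, LinearMap.id_apply] at h1
  have hchoose : ∀ i : Fin 2, ∃ c : MvPolynomial (Fin 2) k,
      l ((1 : MvPolynomial (Fin 2) k ⧸ Ideal.span ({F} : Set (MvPolynomial (Fin 2) k)))
        ⊗ₜ[MvPolynomial (Fin 2) k] D k (MvPolynomial (Fin 2) k) (X i)) =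
      c • Ideal.toCotangent _ ⟨F, hFI⟩ := by
    intro i
    obtain ⟨⟨y, hy⟩, hy'⟩ := Ideal.toCotangent_surjective _
      (l ((1 : MvPolynomial (Fin 2) k ⧸ Ideal.span ({F} : Set (MvPolynomial (Fin 2) k)))
        ⊗ₜ[MvPolynomial (Fin 2) k] D k (MvPolynomial (Fin 2) k) (X i)))
    have hyI : y ∈ Ideal.span ({F} : Set (MvPolynomial (Fin 2) k)) := hker ▸ hy
    obtain ⟨c, rfl⟩ := Ideal.mem_span_singleton'.mp hyI
    refine ⟨c, ?_⟩
    rw [← hy', ← map_smul]
    rfl
  choose c hc using hchoose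
  have h2 : Ideal.toCotangent _ ⟨F, hFI⟩ =
      (∑ i, pderiv i F * c i) • Ideal.toCotangent _ ⟨F, hFI⟩ := by
    conv_lhs => rw [← h1]
    show l (1 ⊗ₜ[MvPolynomial (Fin 2) k] D k (MvPolynomial (Fin 2) k) F) = _
    rw [D_eq_sum, TensorProduct.tmul_sum, map_sum, Finset.sum_smul]
    apply Finset.sum_congr rfl
    intro i _
    rw [TensorProduct.tmul_smul, map_smul, hc i, mul_smul]
  rw [← map_smul, Ideal.toCotangent_eq] at h2
  have h2' : F - (∑ i, pderiv i F * c i) * F ∈
      Ideal.span ({F} : Set (MvPolynomial (Fin 2) k)) ^ 2 := by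
    rw [← hker]; exact h2
  rw [Ideal.span_singleton_pow, Ideal.mem_span_singleton'] at h2'
  obtain ⟨d, hd⟩ := h2'
  have h3 : F * (1 - (∑ i, pderiv i F * c i) - d * F) = 0 := by
    linear_combination (-1 : MvPolynomial (Fin 2) k) * hd
  have h4 : 1 - (∑ i, pderiv i F * c i) - d * F = 0 :=
    (mul_eq_zero.mp h3).resolve_left hF
  have h5 : (1 : MvPolynomial (Fin 2) k) = (∑ i, pderiv i F * c i) + d * F := by
    linear_combination h4
  rw [h5, Fin.sum_univ_two]
  refine Ideal.add_mem _ (Ideal.add_mem _ ?_ ?_) ?_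
  · exact Ideal.mul_mem_right _ _ (Ideal.subset_span (by simp))
  · exact Ideal.mul_mem_right _ _ (Ideal.subset_span (by simp))
  · exact Ideal.mul_mem_left _ _ (Ideal.subset_span (by simp))

end Groth.Agent.Lib.Helper79
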