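import Groth.Agent.Lib.Helper79.SmoothChart
import Groth.Agent.Lib.Helper79.PlaneJac

set_option autoImplicit false

namespace Groth.Agent.Lib.Helper79

open Polynomial

section
variable {k : Type*} [Field k]

noncomputable def io : k[X] →ₐ[k] MvPolynomial (Fin 2) k :=
  Polynomial.aeval (MvPolynomial.X 0)

theorem io_monomial (n : ℕ) (a : k) :
    io (Polynomial.monomial n a) = MvPolynomial.C a * MvPolynomial.X 0 ^ n := by
  simp [io, Polynomial.aeval_monomial, MvPolynomial.algebraMap_eq]

theorem pderiv1_io (f : k[X]) : MvPolynomial.pderiv (1 : Fin 2) (io f) = 0 := by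
  induction f using Polynomial.induction_on' with
  | add p q hp hq => rw [map_add, map_add, hp, hq, add_zero]
  | monomial n a =>
    rw [io_monomial]
    simp [MvPolynomial.pderiv_X]

theorem pderiv0_io (f : k[X]) :
    MvPolynomial.pderiv (0 : Fin 2) (io f) = io (Polynomial.derivative f) := by
  induction f using Polynomial.induction_on' with
  | add p q hp hq => rw [map_add, map_add, hp, hq, map_add, map_add]
  | monomial n a =>
    rw [Polynomial.derivative_monomial, io_monomial, io_monomial]
    simp [MvPolynomial.pderiv_X]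
    ring

theorem smooth_chart_a {a b : k[X]} (h : IsCoprime a b) :
    Algebra.Smooth k (MvPolynomial (Fin 2) k ⧸ Ideal.span
      ({io a + io b * MvPolynomial.X 1} : Set (MvPolynomial (Fin 2) k))) := by
  apply smooth_of_isUnit_pderiv _ 1
  obtain ⟨u, v, huv⟩ := h
  have hd : MvPolynomial.pderiv (1 : Fin 2) (io a + io b * MvPolynomial.X 1) = io b := by
    rw [map_add, pderiv1_io, Derivation.leibniz, pderiv1_io]
    simp [MvPolynomial.pderiv_X]
  rw [hd]
  refine IsUnit.of_mul_eq_one (Ideal.Quotient.mk _ (io v - io u * MvPolynomial.X 1)) ?_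
  rw [← map_mul, ← map_one (Ideal.Quotient.mk _), Ideal.Quotient.eq, Ideal.mem_span_singleton']
  refine ⟨- io u, ?_⟩
  have h1 : io u * io a + io v * io b = 1 := by
    rw [← map_mul, ← map_mul, ← map_add, huv, map_one]
  linear_combination (-1 : MvPolynomial (Fin 2) k) * h1

theorem smooth_chart_b {a b : k[X]} (h : IsCoprime a b) :
    Algebra.Smooth k (MvPolynomial (Fin 2) k ⧸ Ideal.span
      ({io a * MvPolynomial.X 1 + io b} : Set (MvPolynomial (Fin 2) k))) := by
  apply smooth_of_isUnit_pderiv _ 1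
  obtain ⟨u, v, huv⟩ := h
  have hd : MvPolynomial.pderiv (1 : Fin 2) (io a * MvPolynomial.X 1 + io b) = io a := by
    rw [map_add, pderiv1_io, Derivation.leibniz, pderiv1_io]
    simp [MvPolynomial.pderiv_X]
  rw [hd]
  refine IsUnit.of_mul_eq_one (Ideal.Quotient.mk _ (io u - io v * MvPolynomial.X 1)) ?_
  rw [← map_mul, ← map_one (Ideal.Quotient.mk _), Ideal.Quotient.eq, Ideal.mem_span_singleton']
  refine ⟨- io v, ?_⟩
  have h1 : io u * io a + io v * io b = 1 := by
    rw [← map_mul, ← map_mul, ← map_add, huv, map_one]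
  linear_combination (-1 : MvPolynomial (Fin 2) k) * h1

end

section
variable {k : Type*} [Field k] {K : Type*} [Field K] [Algebra k K]

noncomputable def psiK (θ : K) : MvPolynomial (Fin 2) k →ₐ[k] K[X] :=
  MvPolynomial.aeval ![Polynomial.C θ, Polynomial.X]

theorem psiK_io (θ : K) (f : k[X]) : psiK θ (io f) = Polynomial.C (Polynomial.aeval θ f) := by
  induction f using Polynomial.induction_on' with
  | add p q hp hq => rw [map_add, map_add, hp, hq, map_add, map_add]
  | monomial n a =>
    rw [io_monomial, Polynomial.aeval_monomial]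
    simp [psiK, Polynomial.algebraMap_apply]

theorem psiK_X1 (θ : K) : psiK (k := k) θ (MvPolynomial.X 1) = Polynomial.X := by
  simp [psiK]

theorem isUnit_of_one_mem (θ : K) (F : MvPolynomial (Fin 2) k)
    (h : (1 : MvPolynomial (Fin 2) k) ∈ Ideal.span
      ({F, MvPolynomial.pderiv 0 F, MvPolynomial.pderiv 1 F} : Set (MvPolynomial (Fin 2) k)))
    (h0 : psiK θ F = 0) (h1 : psiK θ (MvPolynomial.pderiv 1 F) = 0) :
    IsUnit (psiK θ (MvPolynomial.pderiv 0 F)) := by
  have hm := Ideal.mem_map_of_mem (psiK θ).toRingHom h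
  rw [Ideal.map_span] at hm
  have hle : Ideal.span ((psiK θ).toRingHom ''
      ({F, MvPolynomial.pderiv 0 F, MvPolynomial.pderiv 1 F} : Set (MvPolynomial (Fin 2) k))) ≤
      Ideal.span {psiK θ (MvPolynomial.pderiv 0 F)} := by
    rw [Ideal.span_le]
    rintro _ ⟨x, hx, rfl⟩
    simp only [Set.mem_insert_iff, Set.mem_singleton_iff] at hx
    rcases hx with rfl | rfl | rfl
    · show psiK θ x ∈ _
      rw [h0]; exact Ideal.zero_mem _
    · exact Ideal.subset_span rfl
    · show psiK θ _ ∈ _
      rw [h1]; exact Ideal.zero_mem _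
  have h2 := hle hm
  rw [Ideal.mem_span_singleton] at h2
  have h3 : (psiK (k := k) θ).toRingHom 1 = 1 := map_one _
  rw [h3] at h2
  exact isUnit_of_dvd_one h2

end

section
variable {k : Type*} [Field k]

theorem coprime_of_jac {a b : k[X]} (hab : a ≠ 0 ∨ b ≠ 0)
    (h1 : (1 : MvPolynomial (Fin 2) k) ∈ Ideal.span
      ({io a + io b * MvPolynomial.X 1,
        MvPolynomial.pderiv 0 (io a + io b * MvPolynomial.X 1),
        MvPolynomial.pderiv 1 (io a + io b * MvPolynomial.X 1)} : Set (MvPolynomial (Fin 2) k)))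
    (h2 : (1 : MvPolynomial (Fin 2) k) ∈ Ideal.span
      ({io a * MvPolynomial.X 1 + io b,
        MvPolynomial.pderiv 0 (io a * MvPolynomial.X 1 + io b),
        MvPolynomial.pderiv 1 (io a * MvPolynomial.X 1 + io b)} : Set (MvPolynomial (Fin 2) k))) :
    IsCoprime a b := by
  classical
  by_contra hnc
  have hd0 : EuclideanDomain.gcd a b ≠ 0 := by
    intro h
    rw [EuclideanDomain.gcd_eq_zero_iff] at h
    rcases hab with h' | h'
    · exact h' h.1
    · exact h' h.2
  have hdu : ¬ IsUnit (EuclideanDomain.gcd a b) := by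
    rw [EuclideanDomain.gcd_isUnit_iff]; exact hnc
  obtain ⟨π, hπ, hπd⟩ := WfDvdMonoid.exists_irreducible_factor hdu hd0
  have hπa : π ∣ a := hπd.trans (EuclideanDomain.gcd_dvd_left a b)
  have hπb : π ∣ b := hπd.trans (EuclideanDomain.gcd_dvd_right a b)
  have : Fact (Irreducible π) := ⟨hπ⟩
  let θ : AdjoinRoot π := AdjoinRoot.root π
  have ha0 : Polynomial.aeval θ a = 0 := by
    rw [AdjoinRoot.aeval_eq, AdjoinRoot.mk_eq_zero]; exact hπa
  have hb0 : Polynomial.aeval θ b = 0 := by
    rw [AdjoinRoot.aeval_eq, AdjoinRoot.mk_eq_zero]; exact hπb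
  have e1 : MvPolynomial.pderiv (0 : Fin 2) (io a + io b * MvPolynomial.X 1) =
      io (derivative a) + io (derivative b) * MvPolynomial.X 1 := by
    rw [map_add, pderiv0_io, Derivation.leibniz, pderiv0_io]
    simp [MvPolynomial.pderiv_X]
    ring
  have e1' : MvPolynomial.pderiv (1 : Fin 2) (io a + io b * MvPolynomial.X 1) = io b := by
    rw [map_add, pderiv1_io, Derivation.leibniz, pderiv1_io]
    simp [MvPolynomial.pderiv_X]
  have e2 : MvPolynomial.pderiv (0 : Fin 2) (io a * MvPolynomial.X 1 + io b) =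
      io (derivative a) * MvPolynomial.X 1 + io (derivative b) := by
    rw [map_add, pderiv0_io, Derivation.leibniz, pderiv0_io]
    simp [MvPolynomial.pderiv_X]
    ring
  have e2' : MvPolynomial.pderiv (1 : Fin 2) (io a * MvPolynomial.X 1 + io b) = io a := by
    rw [map_add, pderiv1_io, Derivation.leibniz, pderiv1_io]
    simp [MvPolynomial.pderiv_X]
  have u1 := isUnit_of_one_mem θ _ h1
    (by rw [map_add, map_mul, psiK_io, psiK_io, ha0, hb0]; simp)
    (by rw [e1', psiK_io, hb0]; simp)
  have u2 := isUnit_of_one_mem θ _ h2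
    (by rw [map_add, map_mul, psiK_io, psiK_io, ha0, hb0]; simp)
    (by rw [e2', psiK_io, ha0]; simp)
  rw [e1, map_add, map_mul, psiK_io, psiK_io, psiK_X1] at u1
  rw [e2, map_add, map_mul, psiK_io, psiK_io, psiK_X1] at u2
  set α := Polynomial.aeval θ (derivative a) with hα
  set β := Polynomial.aeval θ (derivative b) with hβ
  have hβ0 : β = 0 := by
    have hdeg := Polynomial.natDegree_eq_zero_of_isUnit u1
    have hc : (Polynomial.C α + Polynomial.C β * Polynomial.X : (AdjoinRoot π)[X]).coeff 1 = β := by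
      simp
    rw [← hc]
    exact Polynomial.coeff_eq_zero_of_natDegree_lt (by rw [hdeg]; exact Nat.one_pos)
  have hα0 : α = 0 := by
    have hdeg := Polynomial.natDegree_eq_zero_of_isUnit u2
    have hc : (Polynomial.C α * Polynomial.X + Polynomial.C β : (AdjoinRoot π)[X]).coeff 1 = α := by
      simp
    rw [← hc]
    exact Polynomial.coeff_eq_zero_of_natDegree_lt (by rw [hdeg]; exact Nat.one_pos)
  rw [hα0, hβ0] at u1
  simp at u1

end

section
variable {k : Type*} [Field k]

theorem resultant_ne_zero_iff {a b : k[X]} {m n : ℕ} (hm : 0 < m)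
    (ha : a.natDegree ≤ m) (hb : b.natDegree ≤ n) :
    resultant a b m n ≠ 0 ↔ IsCoprime a b ∧ ¬ (a.coeff m = 0 ∧ b.coeff n = 0) := by
  constructor
  · intro hr
    constructor
    · obtain ⟨p, q, _, _, e⟩ := exists_mul_add_mul_eq_C_resultant a b ha hb (Or.inl hm.ne')
      refine ⟨C (resultant a b m n)⁻¹ * p, C (resultant a b m n)⁻¹ * q, ?_⟩
      have : C (resultant a b m n)⁻¹ * C (resultant a b m n) = (1 : k[X]) := by
        rw [← C_mul, inv_mul_cancel₀ hr, C_1]
      rw [← this, ← e]; ring
    · rintro ⟨h1, h2⟩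
      apply hr
      by_cases hn : n = 0
      · subst hn
        have hb' : b = C (b.coeff 0) := Polynomial.eq_C_of_natDegree_le_zero hb
        rw [h2, C_0] at hb'
        subst hb'
        rw [resultant_zero_right]
        simp [hm.ne']
      · apply resultant_eq_zero_of_lt_lt
        · refine lt_of_le_of_ne ha (fun h => ?_)
          rw [← h, Polynomial.coeff_natDegree, Polynomial.leadingCoeff_eq_zero] at h1
          rw [h1, natDegree_zero] at h
          omega
        · refine lt_of_le_of_ne hb (fun h => ?_)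
          rw [← h, Polynomial.coeff_natDegree, Polynomial.leadingCoeff_eq_zero] at h2
          rw [h2, natDegree_zero] at h
          omega
  · rintro ⟨hc, hnz⟩
    have hres : resultant a b ≠ 0 := resultant_ne_zero a b hc
    by_cases ham : a.coeff m = 0
    · have hbn : b.coeff n ≠ 0 := fun h => hnz ⟨ham, h⟩
      have hnb : b.natDegree = n := le_antisymm hb (Polynomial.le_natDegree_of_ne_zero hbn)
      obtain ⟨k', hk⟩ := Nat.exists_eq_add_of_le ha
      rw [hk, resultant_add_left_deg _ _ _ _ _ le_rfl]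
      rw [← hnb] at hbn ⊢
      exact mul_ne_zero (mul_ne_zero (pow_ne_zero _ (by norm_num)) (pow_ne_zero _ hbn)) hres
    · have hna : a.natDegree = m := le_antisymm ha (Polynomial.le_natDegree_of_ne_zero ham)
      obtain ⟨k', hk⟩ := Nat.exists_eq_add_of_le hb
      rw [hk, resultant_add_right_deg _ _ _ _ _ le_rfl]
      rw [← hna] at ham ⊢
      exact mul_ne_zero (pow_ne_zero _ ham) hres

theorem not_both_zero_of_coprime_reflect {a b : k[X]} {m n : ℕ}
    (hc : IsCoprime (reflect m a) (reflect n b)) : ¬ (a.coeff m = 0 ∧ b.coeff n = 0) := by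
  rintro ⟨h1, h2⟩
  have d1 : (X : k[X]) ∣ reflect m a := by
    rw [Polynomial.X_dvd_iff, coeff_reflect, revAt_zero]; exact h1
  have d2 : (X : k[X]) ∣ reflect n b := by
    rw [Polynomial.X_dvd_iff, coeff_reflect, revAt_zero]; exact h2
  exact Polynomial.not_isUnit_X (hc.isUnit_of_dvd' d1 d2)

theorem coprime_of_X_pow_mem {A' B' U V : k[X]} {d : ℕ} (e : U * A' + V * B' = X ^ d)
    (h : A'.coeff 0 ≠ 0) : IsCoprime A' B' := by
  have h1 : IsCoprime (X : k[X]) A' := by
    rw [Polynomial.irreducible_X.coprime_iff_not_dvd, Polynomial.X_dvd_iff]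
    exact h
  obtain ⟨s, t, hst⟩ := h1.pow_left (m := d)
  refine ⟨s * U + t, s * V, ?_⟩
  rw [← hst, ← e]; ring

theorem coprime_reflect {a b : k[X]} {m n : ℕ} (ha : a.natDegree ≤ m) (hb : b.natDegree ≤ n)
    (hc : IsCoprime a b) (hnz : ¬ (a.coeff m = 0 ∧ b.coeff n = 0)) :
    IsCoprime (reflect m a) (reflect n b) := by
  obtain ⟨u, v, huv⟩ := hc
  set d := max (u.natDegree + m) (v.natDegree + n) with hd
  have hdu : u.natDegree ≤ d - m := by omega
  have hdv : v.natDegree ≤ d - n := by omega
  have e1 : d = (d - m) + m := by omega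
  have e2 : d = (d - n) + n := by omega
  have key : reflect (d - m) u * reflect m a + reflect (d - n) v * reflect n b = X ^ d := by
    rw [← reflect_mul u a hdu ha, ← reflect_mul v b hdv hb, ← e1, ← e2, ← reflect_add, huv,
      reflect_one]
  by_cases ham : a.coeff m = 0
  · have hbn : b.coeff n ≠ 0 := fun h => hnz ⟨ham, h⟩
    have key' : reflect (d - n) v * reflect n b + reflect (d - m) u * reflect m a = X ^ d := by
      rw [add_comm]; exact key
    exact (coprime_of_X_pow_mem key' (by rw [coeff_reflect, revAt_zero]; exact hbn)).symm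
  · exact coprime_of_X_pow_mem key (by rw [coeff_reflect, revAt_zero]; exact ham)

theorem reflect_sum {ι : Type*} (s : Finset ι) (f : ι → k[X]) (N : ℕ) :
    reflect N (∑ i ∈ s, f i) = ∑ i ∈ s, reflect N (f i) := by
  classical
  induction s using Finset.induction_on with
  | empty => simp
  | insert a s ha ih => rw [Finset.sum_insert ha, Finset.sum_insert ha, reflect_add, ih]

theorem reflect_finSum (N : ℕ) (c : Fin (N + 1) → k) :
    reflect N (∑ j : Fin (N + 1), C (c j) * X ^ (j : ℕ)) =
      ∑ j : Fin (N + 1), C (c j) * X ^ (N - (j : ℕ)) := by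
  rw [reflect_sum]
  apply Finset.sum_congr rfl
  intro j _
  rw [reflect_C_mul_X_pow, revAt_le (Nat.lt_succ_iff.mp j.2)]

theorem natDegree_finSum_le (N : ℕ) (c : Fin (N + 1) → k) :
    (∑ j : Fin (N + 1), C (c j) * X ^ (j : ℕ)).natDegree ≤ N := by
  apply Polynomial.natDegree_sum_le_of_forall_le
  intro j _
  exact (Polynomial.natDegree_C_mul_X_pow_le _ _).trans (Nat.lt_succ_iff.mp j.2)

theorem coeff_finSum (N : ℕ) (c : Fin (N + 1) → k) (i : Fin (N + 1)) :
    (∑ j : Fin (N + 1), C (c j) * X ^ (j : ℕ)).coeff (i : ℕ) = c i := by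
  rw [Polynomial.finsetSum_coeff, Finset.sum_eq_single i]
  · simp
  · intro j _ hji
    rw [Polynomial.coeff_C_mul_X_pow, if_neg]
    exact fun h => hji (Fin.ext h.symm)
  · intro h; exact absurd (Finset.mem_univ i) h

theorem finSum_ne_zero (N : ℕ) (c : Fin (N + 1) → k) (hc : c ≠ 0) :
    (∑ j : Fin (N + 1), C (c j) * X ^ (j : ℕ)) ≠ 0 := by
  intro h
  apply hc
  funext i
  have := coeff_finSum N c i
  rw [h, coeff_zero] at this
  exact this.symm

theorem io_finSum (N : ℕ) (c : Fin (N + 1) → k) (e : Fin (N + 1) → ℕ) :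
    io (∑ j : Fin (N + 1), C (c j) * X ^ (e j)) =
      ∑ j : Fin (N + 1), MvPolynomial.C (c j) * MvPolynomial.X 0 ^ (e j) := by
  rw [map_sum]
  apply Finset.sum_congr rfl
  intro j _
  rw [Polynomial.C_mul_X_pow_eq_monomial, io_monomial]

noncomputable def chi (c : k[X]) : MvPolynomial (Fin 2) k →ₐ[k] k[X] :=
  MvPolynomial.aeval ![Polynomial.X, c]

theorem chi_io (c : k[X]) (f : k[X]) : chi c (io f) = f := by
  have : (chi c).comp io = AlgHom.id k k[X] := by
    apply Polynomial.algHom_ext
    simp [chi, io]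
  exact DFunLike.congr_fun this f

theorem chartA_ne_zero {a b : k[X]} (h : a ≠ 0 ∨ b ≠ 0) :
    io a + io b * MvPolynomial.X 1 ≠ 0 := by
  intro h0
  have h1 := congrArg (chi (0 : k[X])) h0
  have h2 := congrArg (chi (1 : k[X])) h0
  simp only [map_add, map_mul, chi_io, map_zero] at h1 h2
  have e0 : chi (0 : k[X]) (MvPolynomial.X 1) = 0 := by simp [chi]
  have e1 : chi (1 : k[X]) (MvPolynomial.X 1) = 1 := by simp [chi]
  rw [e0, mul_zero, add_zero] at h1
  rw [e1, mul_one, h1, zero_add] at h2
  rcases h with h | h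
  · exact h h1
  · exact h h2

theorem chartB_ne_zero {a b : k[X]} (h : a ≠ 0 ∨ b ≠ 0) :
    io a * MvPolynomial.X 1 + io b ≠ 0 := by
  intro h0
  have h1 := congrArg (chi (0 : k[X])) h0
  have h2 := congrArg (chi (1 : k[X])) h0
  simp only [map_add, map_mul, chi_io, map_zero] at h1 h2
  have e0 : chi (0 : k[X]) (MvPolynomial.X 1) = 0 := by simp [chi]
  have e1 : chi (1 : k[X]) (MvPolynomial.X 1) = 1 := by simp [chi]
  rw [e0, mul_zero, zero_add] at h1
  rw [e1, mul_one, h1, add_zero] at h2
  rcases h with h | h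
  · exact h h2
  · exact h h1

theorem coprime_of_smooth {a b : k[X]} (hab : a ≠ 0 ∨ b ≠ 0)
    (h1 : Algebra.Smooth k (MvPolynomial (Fin 2) k ⧸ Ideal.span
      ({io a + io b * MvPolynomial.X 1} : Set (MvPolynomial (Fin 2) k))))
    (h2 : Algebra.Smooth k (MvPolynomial (Fin 2) k ⧸ Ideal.span
      ({io a * MvPolynomial.X 1 + io b} : Set (MvPolynomial (Fin 2) k)))) :
    IsCoprime a b :=
  coprime_of_jac hab
    (jac_of_formallySmooth _ (chartA_ne_zero hab) h1.formallySmooth)
    (jac_of_formallySmooth _ (chartB_ne_zero hab) h2.formallySmooth)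

end

end Groth.Agent.Lib.Helper79
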