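import Mathlib.AlgebraicGeometry.Morphisms.Proper
import Mathlib.AlgebraicGeometry.Morphisms.Integral
import Mathlib.AlgebraicGeometry.Morphisms.QuasiSeparated
import Mathlib.AlgebraicGeometry.Morphisms.Immersion

/-!
# Properties of `r : P ⟶ S` detected on a jointly surjective pair `a : X ⟶ P`, `b : Y ⟶ P`
-/

set_option autoImplicit false
universe u

open AlgebraicGeometry CategoryTheory Limits TopologicalSpace Opposite MorphismProperty

namespace Groth.Agent.Lib.Helper79.JointSurj

variable {X Y P S : Scheme.{u}} (a : X ⟶ P) (b : Y ⟶ P) (r : P ⟶ S)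

/-- the map `X ×_S X ⟶ P ×_S P`. -/
noncomputable abbrev sq : pullback (a ≫ r) (a ≫ r) ⟶ pullback r r :=
  pullback.map (a ≫ r) (a ≫ r) r r a a (𝟙 S) ((Category.comp_id _).trans rfl)
    ((Category.comp_id _).trans rfl)

@[reassoc]
theorem diagonal_sq : pullback.diagonal (a ≫ r) ≫ sq a r = a ≫ pullback.diagonal r := by
  apply pullback.hom_ext
  · rw [Category.assoc, pullback.lift_fst, pullback.diagonal_fst_assoc, Category.assoc,
      pullback.diagonal_fst, Category.comp_id]
  · rw [Category.assoc, pullback.lift_snd, pullback.diagonal_snd_assoc, Category.assoc,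
      pullback.diagonal_snd, Category.comp_id]

theorem diagonal_sq_apply (x : X) :
    sq a r (pullback.diagonal (a ≫ r) x) = pullback.diagonal r (a x) := by
  rw [← Scheme.Hom.comp_apply, diagonal_sq, Scheme.Hom.comp_apply]

variable (hs : ∀ p : P, (∃ y : Y, b y = p) ∨ (∃ x : X, a x = p))

include hs

theorem quasiCompact [QuasiCompact (a ≫ r)] [QuasiCompact (b ≫ r)] : QuasiCompact r := by
  constructor
  intro U hU hU'
  have h1 := QuasiCompact.isCompact_preimage (f := a ≫ r) U hU hU'
  have h2 := QuasiCompact.isCompact_preimage (f := b ≫ r) U hU hU'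
  have : r ⁻¹' U = a '' ((a ≫ r) ⁻¹' U) ∪ b '' ((b ≫ r) ⁻¹' U) := by
    ext p
    constructor
    · intro hp
      rcases hs p with ⟨y, rfl⟩ | ⟨x, rfl⟩
      · exact Or.inr ⟨y, hp, rfl⟩
      · exact Or.inl ⟨x, hp, rfl⟩
    · rintro (⟨x, hx, rfl⟩ | ⟨y, hy, rfl⟩)
      · exact hx
      · exact hy
  rw [this]
  exact (h1.image a.continuous).union (h2.image b.continuous)

theorem range_diagonal :
    Set.range (pullback.diagonal r) =
      sq a r '' Set.range (pullback.diagonal (a ≫ r)) ∪
        sq b r '' Set.range (pullback.diagonal (b ≫ r)) := by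
  ext w
  constructor
  · rintro ⟨p, rfl⟩
    rcases hs p with ⟨y, rfl⟩ | ⟨x, rfl⟩
    · exact Or.inr ⟨_, ⟨y, rfl⟩, diagonal_sq_apply b r y⟩
    · exact Or.inl ⟨_, ⟨x, rfl⟩, diagonal_sq_apply a r x⟩
  · rintro (⟨_, ⟨x, rfl⟩, rfl⟩ | ⟨_, ⟨y, rfl⟩, rfl⟩)
    · exact ⟨a x, (diagonal_sq_apply a r x).symm⟩
    · exact ⟨b y, (diagonal_sq_apply b r y).symm⟩

theorem isSeparated [UniversallyClosed a] [UniversallyClosed b] [IsSeparated (a ≫ r)]
    [IsSeparated (b ≫ r)] : IsSeparated r := by
  constructor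
  apply IsClosedImmersion.of_isPreimmersion
  rw [range_diagonal a b r hs]
  have ha : UniversallyClosed (sq a r) :=
    MorphismProperty.pullbackMap (P := @UniversallyClosed) ‹_› ‹_› rfl rfl
  have hb : UniversallyClosed (sq b r) :=
    MorphismProperty.pullbackMap (P := @UniversallyClosed) ‹_› ‹_› rfl rfl
  exact ((sq a r).isClosedMap _ (pullback.diagonal (a ≫ r)).isClosedMap.isClosed_range).union
    ((sq b r).isClosedMap _ (pullback.diagonal (b ≫ r)).isClosedMap.isClosed_range)

theorem quasiSeparated [QuasiCompact a] [QuasiCompact b] [QuasiSeparated (a ≫ r)]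
    [QuasiSeparated (b ≫ r)] : QuasiSeparated r := by
  constructor
  constructor
  intro W hW hW'
  have ha : QuasiCompact (sq a r) :=
    MorphismProperty.pullbackMap (P := @QuasiCompact) ‹_› ‹_› rfl rfl
  have hb : QuasiCompact (sq b r) :=
    MorphismProperty.pullbackMap (P := @QuasiCompact) ‹_› ‹_› rfl rfl
  have h1 := QuasiCompact.isCompact_preimage (f := pullback.diagonal (a ≫ r)) _
    (hW.preimage (sq a r).continuous) (QuasiCompact.isCompact_preimage (f := sq a r) W hW hW')
  have h2 := QuasiCompact.isCompact_preimage (f := pullback.diagonal (b ≫ r)) _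
    (hW.preimage (sq b r).continuous) (QuasiCompact.isCompact_preimage (f := sq b r) W hW hW')
  have : pullback.diagonal r ⁻¹' W =
      a '' (pullback.diagonal (a ≫ r) ⁻¹' (sq a r ⁻¹' W)) ∪
        b '' (pullback.diagonal (b ≫ r) ⁻¹' (sq b r ⁻¹' W)) := by
    ext p
    constructor
    · intro hp
      rcases hs p with ⟨y, rfl⟩ | ⟨x, rfl⟩
      · refine Or.inr ⟨y, ?_, rfl⟩
        change sq b r (pullback.diagonal (b ≫ r) y) ∈ W
        rw [diagonal_sq_apply]
        exact hp
      · refine Or.inl ⟨x, ?_, rfl⟩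
        change sq a r (pullback.diagonal (a ≫ r) x) ∈ W
        rw [diagonal_sq_apply]
        exact hp
    · rintro (⟨x, hx, rfl⟩ | ⟨y, hy, rfl⟩)
      · change sq a r (pullback.diagonal (a ≫ r) x) ∈ W at hx
        rw [diagonal_sq_apply] at hx
        exact hx
      · change sq b r (pullback.diagonal (b ≫ r) y) ∈ W at hy
        rw [diagonal_sq_apply] at hy
        exact hy
  rw [this]
  exact (h1.image a.continuous).union (h2.image b.continuous)

theorem universallyClosed [UniversallyClosed (a ≫ r)] [UniversallyClosed (b ≫ r)] :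
    UniversallyClosed r := by
  constructor
  intro P' S' i₁ i₂ r' H
  -- `H : IsPullback r' i₁ i₂ r`
  intro F hF
  -- base change of `a` and `b`
  have Ha := UniversallyClosed.universally_isClosedMap (f := a ≫ r) _ _ _
    ((IsPullback.of_hasPullback i₁ a).paste_horiz H)
  have Hb := UniversallyClosed.universally_isClosedMap (f := b ≫ r) _ _ _
    ((IsPullback.of_hasPullback i₁ b).paste_horiz H)
  have hsa : ∀ p' : P', (∃ y, pullback.fst i₁ b y = p') ∨ (∃ x, pullback.fst i₁ a x = p') := by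
    intro p'
    rcases hs (i₁ p') with ⟨y, hy⟩ | ⟨x, hx⟩
    · obtain ⟨z, hz, -⟩ := Scheme.Pullback.exists_preimage_pullback p' y hy.symm
      exact Or.inl ⟨z, hz⟩
    · obtain ⟨z, hz, -⟩ := Scheme.Pullback.exists_preimage_pullback p' x hx.symm
      exact Or.inr ⟨z, hz⟩
  have : r' '' F = (pullback.fst i₁ a ≫ r') '' (pullback.fst i₁ a ⁻¹' F) ∪
      (pullback.fst i₁ b ≫ r') '' (pullback.fst i₁ b ⁻¹' F) := by
    ext s
    constructor
    · rintro ⟨p', hp', rfl⟩
      rcases hsa p' with ⟨y, rfl⟩ | ⟨x, rfl⟩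
      · exact Or.inr ⟨y, hp', rfl⟩
      · exact Or.inl ⟨x, hp', rfl⟩
    · rintro (⟨x, hx, rfl⟩ | ⟨y, hy, rfl⟩)
      · exact ⟨_, hx, rfl⟩
      · exact ⟨_, hy, rfl⟩
  rw [this]
  exact (Ha _ (hF.preimage (pullback.fst i₁ a).continuous)).union
    (Hb _ (hF.preimage (pullback.fst i₁ b).continuous))

end Groth.Agent.Lib.Helper79.JointSurj
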