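import Groth.Agent.Lib.Helper94.FibG
import Groth.Agent.Lib.Helper79.AlgSpLCI

/-!
# The Koszul locus of a morphism of schemes via open neighbourhoods (helper79)

`KosNear h u`: some open neighbourhood of `u` is a local complete intersection over the target.
This is the same as helper94's `InK h u` (one affine pair with an lci ring map).
-/

set_option autoImplicit false
universe u
open CategoryTheory CategoryTheory.Limits AlgebraicGeometry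

namespace Groth.Agent.Lib.Helper79.KosNear

open Groth.Agent.Lib.Helper43 Groth.Agent.Lib.Helper43.KRComp Groth.Agent.Lib.Helper43.LCIDescent
  Groth.Agent.Lib.Helper43.KRLocalProp Groth.Agent.Lib.Helper43.KRCodescent
  Groth.Agent.Lib.Helper94.FibG Groth.Agent.Lib.Helper79.AlgSpLCI

/-- some open neighbourhood of `u` is lci over the target. -/
def KosNear {U V : Scheme.{u}} (h : U ⟶ V) (u : U) : Prop :=
  ∃ (W : Scheme.{u}) (ι : W ⟶ U), IsOpenImmersion ι ∧ u ∈ Set.range ι ∧ AlgSp.lci (ι ≫ h)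

lemma hQs : RingHom.StableUnderCompositionWithLocalizationAwaySource @IsLCIHom :=
  (isLCIHom_stableUnderComposition.stableUnderCompositionWithLocalizationAway
    isLCIHom_holdsForLocalizationAway).1

theorem inK_of_kosNear {U V : Scheme.{u}} (h : U ⟶ V) (u : U) (hk : KosNear h u) : InK h u := by
  obtain ⟨W, ι, hι, ⟨w, rfl⟩, hl⟩ := hk
  rw [lci_iff_lciMor, HasRingHomProperty.iff_exists_appLE (P := lciMor) hQs] at hl
  obtain ⟨V₀, W₀, hw, e, hQ⟩ := hl w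
  -- the image of `W₀`
  have hU₀ : IsAffineOpen (ι ''ᵁ W₀.1) := W₀.2.image_of_isOpenImmersion ι
  have hle : ι ''ᵁ W₀.1 ≤ h ⁻¹ᵁ V₀.1 := by
    rintro _ ⟨z, hz, rfl⟩
    exact e hz
  refine ⟨ι ''ᵁ W₀.1, V₀.1, hU₀, V₀.2, hle, ⟨w, hw, rfl⟩, ?_⟩
  have hpre : ι ⁻¹ᵁ (ι ''ᵁ W₀.1) = W₀.1 := ι.preimage_image_eq W₀.1
  have hle2 : W₀.1 ≤ ι ⁻¹ᵁ (ι ''ᵁ W₀.1) := by rw [hpre]
  have h3 : h.appLE V₀.1 (ι ''ᵁ W₀.1) hle ≫ ι.appLE (ι ''ᵁ W₀.1) W₀.1 hle2 =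
      (ι ≫ h).appLE V₀.1 W₀.1 e :=
    Scheme.Hom.appLE_comp_appLE _ _ _ _ _ _ _
  haveI : IsIso (ι.appLE (ι ''ᵁ W₀.1) W₀.1 hle2) := by
    have : ι.appLE (ι ''ᵁ W₀.1) W₀.1 hle2 = (ι.appIso W₀.1).hom := by
      rw [Scheme.Hom.appIso_hom']
    rw [this]
    infer_instance
  rw [← h3, CommRingCat.hom_comp] at hQ
  exact (isLCIHom_respectsIso.cancel_right_isIso _ _).mp hQ

theorem kosNear_of_inK {U V : Scheme.{u}} (h : U ⟶ V) (u : U) (hk : InK h u) : KosNear h u := by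
  obtain ⟨U₀, V₀, hU₀, hV₀, hUV, hu, hQ⟩ := hk
  refine ⟨U₀, U₀.ι, inferInstance, ⟨⟨u, hu⟩, rfl⟩, ?_⟩
  rw [lci_iff_lciMor, HasRingHomProperty.iff_exists_appLE (P := lciMor) hQs]
  intro x
  haveI : IsAffine U₀ := hU₀
  have hle : (⊤ : (U₀ : Scheme.{u}).Opens) ≤ (U₀.ι ≫ h) ⁻¹ᵁ V₀ := by
    intro z _
    exact hUV z.2
  refine ⟨⟨V₀, hV₀⟩, ⟨⊤, isAffineOpen_top _⟩, trivial, hle, ?_⟩
  have hle2 : (⊤ : (U₀ : Scheme.{u}).Opens) ≤ U₀.ι ⁻¹ᵁ U₀ := by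
    intro z _
    exact z.2
  have h3 : h.appLE V₀ U₀ hUV ≫ U₀.ι.appLE U₀ ⊤ hle2 = (U₀.ι ≫ h).appLE V₀ ⊤ hle :=
    Scheme.Hom.appLE_comp_appLE _ _ _ _ _ _ _
  haveI : IsIso (U₀.ι.appLE U₀ ⊤ hle2) := by
    have e : U₀.ι ⁻¹ᵁ U₀ = ⊤ := by
      ext z
      simp
    have : U₀.ι.appLE U₀ ⊤ hle2 = U₀.ι.app U₀ ≫ (U₀ : Scheme.{u}).presheaf.map (eqToHom e.symm).op := by
      rw [Scheme.Hom.appLE]
      rfl
    rw [this]
    haveI : IsIso (U₀.ι.app U₀) := U₀.ι.isIso_app U₀ (by rw [Scheme.Opens.opensRange_ι])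
    infer_instance
  show IsLCIHom ((U₀.ι ≫ h).appLE V₀ ⊤ hle).hom
  rw [← h3, CommRingCat.hom_comp]
  exact (isLCIHom_respectsIso.cancel_right_isIso _ _).mpr hQ

theorem kosNear_iff_inK {U V : Scheme.{u}} (h : U ⟶ V) (u : U) : KosNear h u ↔ InK h u :=
  ⟨inK_of_kosNear h u, kosNear_of_inK h u⟩

end Groth.Agent.Lib.Helper79.KosNear
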