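import Mathlib

/-!
# Kummer coverings (helper79)

* `exists_kummer_algebra`: for a unit `a` of a ring `A` in which `n` is invertible there is a
  faithfully flat étale `A`-algebra in which `a` has an `n`-th root (a unit).
* `exists_kummer_cover`: for a unit `a` of `Γ(U, ⊤)` with `n` invertible there is a surjective
  étale `k : V ⟶ U` and a unit `b` of `Γ(V, ⊤)` with `b ^ n = k^* a`.
-/

set_option autoImplicit false
universe u
open CategoryTheory CategoryTheory.Limits AlgebraicGeometry Opposite Polynomial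

namespace Groth.Agent.Lib.Helper79.KummerCover

section algebra

variable {A : Type u} [CommRing A]

/-- the standard étale pair `(X ^ (m+1) - a, 1)` -/
noncomputable def pairOf (a : Aˣ) (m : ℕ) (hn : IsUnit ((m + 1 : ℕ) : A)) : StandardEtalePair A where
  f := X ^ (m + 1) - C (a : A)
  monic_f := monic_X_pow_sub_C _ (Nat.succ_ne_zero m)
  g := 1
  cond := by
    refine ⟨C ((↑(hn.unit⁻¹) : A) * (↑a⁻¹ : A)) * X, - C (↑a⁻¹ : A), 1, ?_⟩
    have h1 : ((m + 1 : ℕ) : A) * (↑(hn.unit⁻¹) : A) = 1 := by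
      have := hn.unit.mul_inv
      simpa using congrArg Units.val this
    have h2 : (a : A) * (↑a⁻¹ : A) = 1 := by simp
    rw [derivative_sub, derivative_C, sub_zero, derivative_X_pow, Nat.add_sub_cancel, pow_one]
    have e1 : C ((m + 1 : ℕ) : A) * X ^ m * (C ((↑(hn.unit⁻¹) : A) * (↑a⁻¹ : A)) * X) =
        C (↑a⁻¹ : A) * X ^ (m + 1) := by
      rw [C_mul, pow_succ]
      have : C ((m + 1 : ℕ) : A) * C (↑(hn.unit⁻¹) : A) = 1 := by
        rw [← C_mul, h1, C_1]
      calc C ((m + 1 : ℕ) : A) * X ^ m * (C (↑(hn.unit⁻¹) : A) * C (↑a⁻¹ : A) * X)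
          = (C ((m + 1 : ℕ) : A) * C (↑(hn.unit⁻¹) : A)) * (C (↑a⁻¹ : A) * (X ^ m * X)) := by ring
        _ = C (↑a⁻¹ : A) * (X ^ m * X) := by rw [this, one_mul]
    have e2 : (X ^ (m + 1) - C (a : A)) * (- C (↑a⁻¹ : A)) =
        - (C (↑a⁻¹ : A) * X ^ (m + 1)) + 1 := by
      have : C (a : A) * C (↑a⁻¹ : A) = 1 := by rw [← C_mul, h2, C_1]
      calc (X ^ (m + 1) - C (a : A)) * (- C (↑a⁻¹ : A))
          = - (C (↑a⁻¹ : A) * X ^ (m + 1)) + C (a : A) * C (↑a⁻¹ : A) := by ring
        _ = _ := by rw [this]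
    rw [e1, e2]
    ring

/-- the standard étale algebra of `pairOf` is `AdjoinRoot (X ^ (m+1) - a)` -/
noncomputable def pairEquiv (a : Aˣ) (m : ℕ) (hn : IsUnit ((m + 1 : ℕ) : A)) :
    (pairOf a m hn).Ring ≃ₐ[A] AdjoinRoot (X ^ (m + 1) - C (a : A)) := by
  let f : A[X] := X ^ (m + 1) - C (a : A)
  have H : Submonoid.powers (AdjoinRoot.mk f (1 : A[X])) ≤ IsUnit.submonoid (AdjoinRoot f) := by
    rintro x ⟨k, rfl⟩
    change IsUnit _
    simp
  exact (pairOf a m hn).equivAwayAdjoinRoot.trans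
    ((IsLocalization.atUnits (AdjoinRoot f) (Submonoid.powers (AdjoinRoot.mk f (1 : A[X])))
      (S := Localization.Away (AdjoinRoot.mk f (1 : A[X]))) H).symm.restrictScalars A)

theorem exists_kummer_algebra (a : Aˣ) (n : ℕ) (hn : IsUnit (n : A)) :
    ∃ (B : Type u) (_ : CommRing B) (_ : Algebra A B) (b : Bˣ),
      Algebra.Etale A B ∧ Module.FaithfullyFlat A B ∧ (b : B) ^ n = algebraMap A B a := by
  rcases subsingleton_or_nontrivial A with hA | hA
  · exact ⟨A, inferInstance, inferInstance, 1, inferInstance, inferInstance, Subsingleton.elim _ _⟩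
  · obtain ⟨m, rfl⟩ : ∃ m, n = m + 1 := by
      rcases n with _ | m
      · exfalso
        simp at hn
      · exact ⟨m, rfl⟩
    let f : A[X] := X ^ (m + 1) - C (a : A)
    have hf : f.Monic := monic_X_pow_sub_C _ (Nat.succ_ne_zero m)
    have hdeg : f.natDegree = m + 1 := natDegree_X_pow_sub_C
    haveI : Module.Free A (AdjoinRoot f) := hf.free_adjoinRoot
    haveI : Nontrivial (AdjoinRoot f) := by
      refine Ideal.Quotient.nontrivial_iff.mpr ?_
      rw [Ne, Ideal.span_singleton_eq_top, hf.isUnit_iff]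
      intro h1
      have : f.natDegree = 0 := by rw [h1, natDegree_one]
      omega
    haveI : Algebra.Etale A (AdjoinRoot f) := Algebra.Etale.of_equiv (pairEquiv a m hn)
    have hroot : (AdjoinRoot.root f) ^ (m + 1) = algebraMap A (AdjoinRoot f) a := by
      have h0 : AdjoinRoot.mk f f = 0 := AdjoinRoot.mk_self
      have h1 : AdjoinRoot.mk f (X ^ (m + 1) - C (a : A)) =
          (AdjoinRoot.root f) ^ (m + 1) - AdjoinRoot.of f (a : A) := by
        rw [map_sub, map_pow, AdjoinRoot.mk_X, AdjoinRoot.mk_C]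
      have h2 : AdjoinRoot.mk f (X ^ (m + 1) - C (a : A)) = 0 := h0
      rw [h2] at h1
      exact (sub_eq_zero.1 h1.symm)
    have hunit : IsUnit (AdjoinRoot.root f) := by
      have : IsUnit ((AdjoinRoot.root f) ^ (m + 1)) := by
        rw [hroot]
        exact (a.isUnit).map _
      exact (isUnit_pow_iff (Nat.succ_ne_zero m)).1 this
    exact ⟨AdjoinRoot f, inferInstance, inferInstance, hunit.unit, inferInstance, inferInstance,
      hroot⟩

end algebra

/-- a surjective étale cover on which a unit acquires an `n`-th root -/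
theorem exists_kummer_cover {U : Scheme.{u}} (a : (Γ(U, ⊤))ˣ) (n : ℕ)
    (hn : IsUnit (n : Γ(U, ⊤))) :
    ∃ (V : Scheme.{u}) (k : V ⟶ U) (b : (Γ(V, ⊤))ˣ), Etale k ∧ Surjective k ∧
      (b : Γ(V, ⊤)) ^ n = k.appTop.hom (a : Γ(U, ⊤)) := by
  obtain ⟨B, _, _, b, hB1, hB2, hb⟩ := exists_kummer_algebra a n hn
  let φ : Γ(U, ⊤) ⟶ CommRingCat.of B := CommRingCat.ofHom (algebraMap Γ(U, ⊤) B)
  have hφe : φ.hom.Etale := RingHom.etale_algebraMap.2 hB1
  have hφf : φ.hom.FaithfullyFlat := RingHom.faithfullyFlat_algebraMap_iff.2 hB2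
  haveI : Etale (Spec.map φ) := HasRingHomProperty.Spec_iff.mpr hφe
  haveI : Surjective (Spec.map φ) := ((flat_and_surjective_SpecMap_iff φ).2 hφf).2
  let V := pullback U.toSpecΓ (Spec.map φ)
  let k : V ⟶ U := pullback.fst _ _
  let s : V ⟶ Spec (CommRingCat.of B) := pullback.snd _ _
  -- the root, as a function on `V`
  let ψ : CommRingCat.of B ⟶ Γ(V, ⊤) := (Scheme.ΓSpecIso (CommRingCat.of B)).inv ≫ s.appTop
  have hcomm : φ ≫ ψ = k.appTop := by
    have h1 : k ≫ U.toSpecΓ = s ≫ Spec.map φ := pullback.condition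
    have h2 := congrArg Scheme.Hom.appTop h1
    rw [Scheme.Hom.comp_appTop, Scheme.Hom.comp_appTop, Scheme.toSpecΓ_appTop] at h2
    -- h2 : (ΓSpecIso Γ(U,⊤)).hom ≫ k.appTop = (Spec.map φ).appTop ≫ s.appTop
    have h3 : (Spec.map φ).appTop =
        (Scheme.ΓSpecIso Γ(U, ⊤)).hom ≫ φ ≫ (Scheme.ΓSpecIso (CommRingCat.of B)).inv := by
      rw [← Category.assoc, ← Scheme.ΓSpecIso_naturality, Category.assoc, Iso.hom_inv_id,
        Category.comp_id]
    rw [h3] at h2
    simp only [Category.assoc] at h2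
    exact ((cancel_epi (Scheme.ΓSpecIso Γ(U, ⊤)).hom).1 h2).symm
  refine ⟨V, k, Units.map ψ.hom.toMonoidHom b, inferInstance, inferInstance, ?_⟩
  change (ψ.hom (b : B)) ^ n = _
  rw [← map_pow, hb, ← hcomm]
  rfl

end Groth.Agent.Lib.Helper79.KummerCover
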