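import Groth.Agent.Lib.Helper79.AlgSpLCI
import Groth.Agent.Lib.Helper79.RegImmOpenDescent
import Groth.Agent.Lib.Helper43.KoszulAtDescent
import Groth.Agent.Lib.Helper30.EtaleLiftOpen
import Groth.Agent.Lib.Helper46.EtLocalLFT

/-!
# lci morphisms are etale local on the source (helper79)

* `lft_of_lci`
* `krImm` : "immersion ⇒ Koszul-regular immersion", with fppf descent
* `lci_of_etale_cover` : `g` etale surjective and `g ≫ q` lci imply `q` lci
-/

set_option autoImplicit false
set_option linter.style.haveILetI false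
universe u
open CategoryTheory CategoryTheory.Limits AlgebraicGeometry Opposite

namespace Groth.Agent.Lib.Helper79.LCIEtaleSource

open Groth.Agent.Lib.Helper79.AlgSpLCI Groth.Agent.Lib.Helper79.RegImmOpenDescent
open Groth.Agent.Lib.Helper43.LCIDescent Groth.Agent.Lib.Helper43.KoszulAtLCI
open Groth.Agent.Lib.Helper43.LCICancel Groth.Agent.Lib.Helper43.KRComp
open Groth.Agent.Lib.Helper43.KoszulAtDescent Groth.Agent.Lib.Helper43.KoszulAtFactor
open Groth.Agent.Lib.Helper46

theorem lft_of_lci {X Y : Scheme.{u}} (f : X ⟶ Y) (hf : AlgSp.lci f) : LocallyOfFiniteType f := by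
  haveI : IsZariskiLocalAtSource @LocallyOfFiniteType.{u} :=
    HasRingHomProperty.instIsZariskiLocalAtSource (P := @LocallyOfFiniteType)
      (Q := @RingHom.FiniteType)
  choose U P i π hx hlft _ _ _ using hf
  refine IsZariskiLocalAtSource.of_iSup_eq_top (P := @LocallyOfFiniteType) U ?_ hlft
  rw [eq_top_iff]
  intro x _
  rw [TopologicalSpace.Opens.mem_iSup]
  exact ⟨x, hx x⟩

/-- "if an immersion, then a Koszul-regular immersion" -/
def krImm : MorphismProperty Scheme.{u} := fun _ _ i =>
  IsImmersion i → RegImm.IsRegularImmersion .koszul i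

instance krImm_descendsAlong :
    krImm.{u}.DescendsAlong (@Surjective ⊓ @Flat ⊓ @LocallyOfFinitePresentation) where
  of_isPullback {A X Y Z fst snd f g} sq hf hfst := by
    intro himm
    haveI := himm
    obtain ⟨⟨hs, hfl⟩, hfp⟩ := hf
    haveI := hs
    haveI := hfl
    haveI := hfp
    have h1 : IsImmersion fst := MorphismProperty.of_isPullback sq.flip himm
    exact regImm_descent_open .koszul (by simp) g f f.isOpenMap fst snd sq.flip (hfst h1)

/-- **lci is etale local on the source.** -/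
theorem lci_of_etale_cover {U' U V : Scheme.{u}} (g : U' ⟶ U) (q : U ⟶ V) [Etale g]
    [Surjective g] (h : AlgSp.lci (g ≫ q)) : AlgSp.lci q := by
  haveI hlft : LocallyOfFiniteType q :=
    lft_of_etale_cover g q inferInstance inferInstance (lft_of_lci _ h)
  haveI : IsZariskiLocalAtSource lciMor.{u} :=
    HasRingHomProperty.instIsZariskiLocalAtSource (P := lciMor.{u}) (Q := @IsLCIHom)
  have key : ∀ x : U, ∃ N : U.Opens, x ∈ N ∧ lciMor (N.ι ≫ q) := by
    intro x
    obtain ⟨u', rfl⟩ := g.surjective x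
    obtain ⟨U₀, P, i, π, hxU₀, hi, hπ, hfac⟩ := exists_factorisation q (g u')
    haveI := hi
    haveI := hπ
    haveI : Etale (g ∣_ U₀) :=
      MorphismProperty.of_isPullback (P := @Etale) (isPullback_morphismRestrict g U₀).flip
        inferInstance
    obtain ⟨V'', hh, hhet, hVaff, m, hm, hmg, v, hv⟩ :=
      Groth.Agent.Lib.Helper30.EtaleLiftOpen.exists_etale_lift i (g ∣_ U₀) ⟨u', hxU₀⟩
    haveI := hhet
    haveI := hm
    have e1 : pullback.fst hh i ≫ (hh ≫ π) = (m ≫ (g ⁻¹ᵁ U₀).ι) ≫ (g ≫ q) := by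
      rw [← Category.assoc, pullback.condition, Category.assoc, hfac, ← hmg, Category.assoc,
        Category.assoc, ← Category.assoc (g ∣_ U₀), morphismRestrict_ι, Category.assoc]
    have h1 : AlgSp.lci ((m ≫ (g ⁻¹ᵁ U₀).ι) ≫ (g ≫ q)) := lci_comp _ _ (lci_of_smooth _) h
    have h2 : RegImm.IsRegularImmersion .koszul (pullback.fst hh i) :=
      regImm_of_koszulAt _ (by rw [e1]; exact h1) (hh ≫ π) (pullback.fst hh i) rfl
    have h2' : RegImm.IsRegularImmersion .koszul (pullback.snd i hh) := by
      have e : pullback.snd i hh = (pullbackSymmetry i hh).hom ≫ pullback.fst hh i := by simp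
      rw [e]
      exact regImm_openImmersion_comp _ _ h2
    have h3 : krImm (i ∣_ openRange hh) := descent_over_range krImm i hh (fun _ => h2')
    have h4 : RegImm.IsRegularImmersion .koszul (i ∣_ openRange hh) := h3 inferInstance
    refine ⟨U₀.ι ''ᵁ (i ⁻¹ᵁ openRange hh), ?_, ?_⟩
    · refine ⟨⟨g u', hxU₀⟩, ?_, rfl⟩
      change i ⟨g u', hxU₀⟩ ∈ Set.range hh
      refine ⟨pullback.fst hh i v, ?_⟩
      rw [← Scheme.Hom.comp_apply, pullback.condition, ← hmg, Scheme.Hom.comp_apply,
        Scheme.Hom.comp_apply, hv]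
      congr 1
      apply U₀.ι.injective
      rw [← Scheme.Hom.comp_apply, morphismRestrict_ι]
      rfl
    · have e2 : (U₀.ι ''ᵁ (i ⁻¹ᵁ openRange hh)).ι ≫ q =
          (U₀.ι.isoImage (i ⁻¹ᵁ openRange hh)).inv ≫
            ((i ∣_ openRange hh) ≫ ((openRange hh).ι ≫ π)) := by
        rw [← Scheme.Hom.isoImage_inv_ι, Category.assoc, Category.assoc, ← hfac,
          ← Category.assoc (i ∣_ openRange hh), morphismRestrict_ι, Category.assoc]
      rw [e2, ← lci_iff_lciMor]
      refine lci_comp _ _ (lci_of_smooth _) (lci_comp _ _ ?_ (lci_of_smooth _))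
      exact fun y => isKoszulAt_of_regImm _ h4 y
  choose N hxN hN using key
  rw [lci_iff_lciMor]
  refine IsZariskiLocalAtSource.of_iSup_eq_top (P := lciMor.{u}) N ?_ hN
  rw [eq_top_iff]
  intro x _
  rw [TopologicalSpace.Opens.mem_iSup]
  exact ⟨x, hxN x⟩

end Groth.Agent.Lib.Helper79.LCIEtaleSource
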