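import Mathlib.AlgebraicGeometry.Morphisms.QuasiFinite
import Mathlib.AlgebraicGeometry.Morphisms.Etale
import Mathlib.AlgebraicGeometry.Morphisms.LocalFlatDescent
import Mathlib.AlgebraicGeometry.PullbackCarrier
import Mathlib.RingTheory.Unramified.LocalStructure

/-!
# Local quasi-finiteness: etale morphisms, descent along etale surjective base change (helper79)
-/

set_option autoImplicit false
universe u
open CategoryTheory CategoryTheory.Limits AlgebraicGeometry

namespace Groth.Agent.Lib.Helper79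

/-- Topological descent of discreteness of fibres. -/
theorem isDiscrete_fibre_of_cover {U V U' V' : Type*} [TopologicalSpace U] [TopologicalSpace V]
    [TopologicalSpace U'] [TopologicalSpace V'] (k : U → V) (e : V' → V) (k' : U' → V') (q : U' → U)
    (hk'c : Continuous k')
    (hcomm : ∀ x, k (q x) = e (k' x)) (hq : IsOpenMap q)
    (hsurj : ∀ u v', k u = e v' → ∃ u', q u' = u ∧ k' u' = v')
    (he : Function.Surjective e) (hed : ∀ v, IsDiscrete (e ⁻¹' {v}))
    (hk' : ∀ v', IsDiscrete (k' ⁻¹' {v'})) (v : V) : IsDiscrete (k ⁻¹' {v}) := by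
  rw [isDiscrete_iff_forall_mem_exists_isOpen]
  intro u hu
  have hu' : k u = v := hu
  obtain ⟨v', hv'⟩ := he v
  obtain ⟨u', hu'1, hu'2⟩ := hsurj u v' (hu'.trans hv'.symm)
  obtain ⟨W', hW'o, hW'⟩ := (isDiscrete_iff_forall_mem_exists_isOpen.mp (hk' v')) u' hu'2
  obtain ⟨O, hOo, hO⟩ := (isDiscrete_iff_forall_mem_exists_isOpen.mp (hed v)) v' hv'
  refine ⟨q '' (W' ∩ k' ⁻¹' O), hq _ (hW'o.inter (hOo.preimage hk'c)), ?_⟩
  ext x
  simp only [Set.mem_inter_iff, Set.mem_image, Set.mem_preimage, Set.mem_singleton_iff]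
  constructor
  · rintro ⟨⟨w, ⟨hwW, hwO⟩, rfl⟩, hx⟩
    have h1 : k' w ∈ O ∩ e ⁻¹' {v} := ⟨hwO, by
      simp only [Set.mem_preimage, Set.mem_singleton_iff]; rw [← hcomm]; exact hx⟩
    rw [hO] at h1
    have h2 : w ∈ W' ∩ k' ⁻¹' {v'} := ⟨hwW, h1⟩
    rw [hW'] at h2
    rw [Set.mem_singleton_iff.mp h2, hu'1]
  · rintro rfl
    have h3 : u' ∈ W' ∩ k' ⁻¹' {v'} := by rw [hW']; rfl
    have h4 : v' ∈ O ∩ e ⁻¹' {v} := by rw [hO]; rfl
    exact ⟨⟨u', ⟨h3.1, by rw [hu'2]; exact h4.1⟩, hu'1⟩, hu'⟩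

/-- Etale morphisms are locally quasi-finite. -/
theorem locallyQuasiFinite_of_etale {X Y : Scheme.{u}} (f : X ⟶ Y) [Etale f] :
    LocallyQuasiFinite f := by
  rw [HasRingHomProperty.iff_appLE (P := @LocallyQuasiFinite)]
  intro U V e
  have h : RingHom.Etale (f.appLE U.1 V.1 e).hom :=
    HasRingHomProperty.appLE @Etale f inferInstance U V e
  algebraize [(f.appLE U.1 V.1 e).hom]
  rw [RingHom.QuasiFinite]
  infer_instance

/-- Local quasi-finiteness descends along etale surjective base change (for lft morphisms). -/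
theorem lqf_descend {U V U' V' : Scheme.{u}} {k : U ⟶ V} {e : V' ⟶ V} {k' : U' ⟶ V'}
    {q : U' ⟶ U} (sq : IsPullback k' q e k) [Etale e] [Surjective e] [LocallyOfFiniteType k]
    [LocallyQuasiFinite k'] : LocallyQuasiFinite k := by
  rw [locallyQuasiFinite_iff_isDiscrete_preimage_singleton]
  have hq : Etale q := MorphismProperty.of_isPullback (P := @Etale) sq ‹Etale e›
  haveI := locallyQuasiFinite_of_etale e
  intro v
  refine isDiscrete_fibre_of_cover (fun x => k x) (fun x => e x) (fun x => k' x) (fun x => q x)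
    k'.continuous ?_ q.isOpenMap ?_ e.surjective (fun v => e.isDiscrete_preimage_singleton v)
    (fun v' => k'.isDiscrete_preimage_singleton v') v
  · intro x
    rw [← Scheme.Hom.comp_apply, ← Scheme.Hom.comp_apply, sq.w]
  · intro u v' huv
    obtain ⟨z, hz1, hz2⟩ := Scheme.Pullback.exists_preimage_pullback (f := e) (g := k) v' u huv.symm
    refine ⟨sq.isoPullback.inv z, ?_, ?_⟩
    · rw [← Scheme.Hom.comp_apply, sq.isoPullback_inv_snd, hz2]
    · rw [← Scheme.Hom.comp_apply, sq.isoPullback_inv_fst, hz1]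

end Groth.Agent.Lib.Helper79
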