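import Groth.Agent.S2019
import Groth.Agent.S2020
import Groth.Agent.S14952
import Groth.Agent.Lib.Helper63.Milnor
import Groth.Agent.Lib.Helper6.PinchAlg
import Mathlib

/-!
# Algebra properties over a Milnor square (Stacks 08KG ff.)

`B' = B ×_A A'` with `A' → A` surjective, `D' = D ×_C C'`, `C = D ⊗_B A = C' ⊗_{A'} A`.
-/

set_option autoImplicit false
universe u
open TensorProduct

namespace Groth.Agent.Lib.Helper79.MilnorAlg

open Groth.Agent.Lib.Helper63.Milnor

section partA

variable (B' B A' A : Type u) [CommRing B'] [CommRing B] [CommRing A'] [CommRing A]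
    [Algebra B' B] [Algebra B' A'] [Algebra B A] [Algebra A' A] [Algebra B' A] [IsScalarTower B' B A] [IsScalarTower B' A' A]
    (hsq : EtMil.IsFibreSquare B' B A' A)
    (D' D C' C : Type u) [CommRing D'] [CommRing D] [CommRing C'] [CommRing C]
    [Algebra D' D] [Algebra D' C'] [Algebra D C] [Algebra C' C] [Algebra D' C] [IsScalarTower D' D C] [IsScalarTower D' C' C]
    (hsq' : EtMil.IsFibreSquare D' D C' C)
    [Algebra B' D'] [Algebra B D] [Algebra A' C'] [Algebra A C]
    [Algebra B' D] [IsScalarTower B' B D] [IsScalarTower B' D' D]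
    [Algebra B' C'] [IsScalarTower B' A' C'] [IsScalarTower B' D' C']
    [Algebra B C] [IsScalarTower B A C] [IsScalarTower B D C]
    [Algebra A' C] [IsScalarTower A' A C] [IsScalarTower A' C' C]
    [Algebra.IsPushout B D A C] [Algebra.IsPushout A' C' A C]

/-- the gluing isomorphism `A ⊗_B D ≅ C ≅ A ⊗_{A'} C'`. -/
noncomputable def φ : A ⊗[B] D ≃ₗ[A] A ⊗[A'] C' :=
  ((inferInstance : Algebra.IsPushout B D A C).symm.out.equiv).trans
    ((inferInstance : Algebra.IsPushout A' C' A C).symm.out.equiv).symm

theorem mem_glue_iff (x : D × C') :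
    x ∈ EtMil.glue B' (φ B A' A D C' C) ↔ algebraMap D C x.1 = algebraMap C' C x.2 := by
  change (φ B A' A D C' C) ((1 : A) ⊗ₜ[B] x.1) = (1 : A) ⊗ₜ[A'] x.2 ↔ _
  rw [φ, LinearEquiv.trans_apply, LinearEquiv.symm_apply_eq, IsBaseChange.equiv_tmul,
    IsBaseChange.equiv_tmul, one_smul, one_smul]
  rfl

include hsq' in
/-- `D'` is the glued module. -/
theorem exists_equiv_glue : ∃ ψ : D' ≃ₗ[B'] EtMil.glue B' (φ B A' A D C' C),
    ∀ d', ((ψ d' : D × C')).1 = algebraMap D' D d' ∧ ((ψ d' : D × C')).2 = algebraMap D' C' d' := by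
  let f : D' →ₗ[B'] D × C' :=
    (IsScalarTower.toAlgHom B' D' D).toLinearMap.prod (IsScalarTower.toAlgHom B' D' C').toLinearMap
  have hf : ∀ d', f d' ∈ EtMil.glue B' (φ B A' A D C' C) := by
    intro d'
    rw [mem_glue_iff]
    exact compat d'
  let g : D' →ₗ[B'] EtMil.glue B' (φ B A' A D C' C) := f.codRestrict _ hf
  have hg : Function.Bijective g := by
    constructor
    · intro x y hxy
      have h1 := congrArg (fun z : EtMil.glue B' (φ B A' A D C' C) => (z : D × C')) hxy
      have h2 : f x = f y := h1
      exact ext' hsq' (congrArg Prod.fst h2) (congrArg Prod.snd h2)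
    · rintro ⟨⟨d, c'⟩, hdc⟩
      rw [mem_glue_iff] at hdc
      refine ⟨lift hsq' d c' hdc, ?_⟩
      apply Subtype.ext
      change (algebraMap D' D (lift hsq' d c' hdc), algebraMap D' C' (lift hsq' d c' hdc)) = (d, c')
      rw [lift_fst, lift_snd]
  exact ⟨LinearEquiv.ofBijective g hg, fun d' => ⟨rfl, rfl⟩⟩

include hsq hsq' in
theorem isPushout_left : Algebra.IsPushout B' B D' D := by
  obtain ⟨ψ, hψ⟩ := exists_equiv_glue B' B A' A D' D C' C hsq'
  have h := (Groth.Agent.S2019.result B' B A' A hsq D C' (φ B A' A D C' C)).1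
  constructor
  let T : B ⊗[B'] D' →ₗ[B] D :=
    LinearMap.liftBaseChange B (IsScalarTower.toAlgHom B' D' D).toLinearMap
  have hT : ∀ x, T x = LinearMap.liftBaseChange B (EtMil.glueFst B' (φ B A' A D C' C))
      (ψ.toLinearMap.baseChange B x) := by
    intro x
    induction x using TensorProduct.induction_on with
    | zero => simp
    | tmul b d' =>
      rw [LinearMap.baseChange_tmul, LinearMap.liftBaseChange_tmul, LinearMap.liftBaseChange_tmul]
      congr 1
      exact (hψ d').1.symm
    | add x y hx hy => rw [map_add, map_add, map_add, hx, hy]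
  have hbc : Function.Bijective (ψ.toLinearMap.baseChange B) :=
    (LinearEquiv.baseChange B' B _ _ ψ).bijective
  have hTb : Function.Bijective T := by
    have : (T : B ⊗[B'] D' → D) = (LinearMap.liftBaseChange B
        (EtMil.glueFst B' (φ B A' A D C' C))) ∘ (ψ.toLinearMap.baseChange B) := funext hT
    rw [this]
    exact h.comp hbc
  exact IsBaseChange.of_equiv (LinearEquiv.ofBijective T hTb) (fun x => by
    change T (1 ⊗ₜ x) = _
    rw [LinearMap.liftBaseChange_tmul, one_smul])

include hsq hsq' in
theorem isPushout_right : Algebra.IsPushout B' A' D' C' := by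
  obtain ⟨ψ, hψ⟩ := exists_equiv_glue B' B A' A D' D C' C hsq'
  have h := (Groth.Agent.S2019.result B' B A' A hsq D C' (φ B A' A D C' C)).2
  constructor
  let T : A' ⊗[B'] D' →ₗ[A'] C' :=
    LinearMap.liftBaseChange A' (IsScalarTower.toAlgHom B' D' C').toLinearMap
  have hT : ∀ x, T x = LinearMap.liftBaseChange A' (EtMil.glueSnd B' (φ B A' A D C' C))
      (ψ.toLinearMap.baseChange A' x) := by
    intro x
    induction x using TensorProduct.induction_on with
    | zero => simp
    | tmul b d' =>
      rw [LinearMap.baseChange_tmul, LinearMap.liftBaseChange_tmul, LinearMap.liftBaseChange_tmul]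
      congr 1
      exact (hψ d').2.symm
    | add x y hx hy => rw [map_add, map_add, map_add, hx, hy]
  have hbc : Function.Bijective (ψ.toLinearMap.baseChange A') :=
    (LinearEquiv.baseChange B' A' _ _ ψ).bijective
  have hTb : Function.Bijective T := by
    have : (T : A' ⊗[B'] D' → C') = (LinearMap.liftBaseChange A'
        (EtMil.glueSnd B' (φ B A' A D C' C))) ∘ (ψ.toLinearMap.baseChange A') := funext hT
    rw [this]
    exact h.comp hbc
  exact IsBaseChange.of_equiv (LinearEquiv.ofBijective T hTb) (fun x => by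
    change T (1 ⊗ₜ x) = _
    rw [LinearMap.liftBaseChange_tmul, one_smul])

end partA

section partB

variable (R S R' S' : Type u) [CommRing R] [CommRing S] [CommRing R'] [CommRing S']
  [Algebra R S] [Algebra R' S'] [Algebra R S'] [Algebra R R'] [Algebra S S']
  [IsScalarTower R R' S'] [IsScalarTower R S S'] [Algebra.IsPushout R S R' S']

theorem finiteType_of_isPushout (h : Algebra.FiniteType R R') : Algebra.FiniteType S S' :=
  Algebra.FiniteType.equiv (Algebra.FiniteType.baseChange S) (Algebra.IsPushout.equiv R S R' S')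

theorem flat_of_isPushout (h : Module.Flat R R') : Module.Flat S S' :=
  Module.Flat.of_linearEquiv (Algebra.IsPushout.equiv R S R' S').symm.toLinearEquiv

theorem finitePresentation_of_isPushout (h : Algebra.FinitePresentation R R') :
    Algebra.FinitePresentation S S' :=
  Algebra.FinitePresentation.equiv (Algebra.IsPushout.equiv R S R' S')

theorem smooth_of_isPushout (h : Algebra.Smooth R R') : Algebra.Smooth S S' :=
  Algebra.Smooth.of_equiv (Algebra.IsPushout.equiv R S R' S')

theorem etale_of_isPushout (h : Algebra.Etale R R') : Algebra.Etale S S' :=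
  Algebra.Etale.of_equiv (Algebra.IsPushout.equiv R S R' S')

end partB

end Groth.Agent.Lib.Helper79.MilnorAlg
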