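import Groth.Agent.Lib.Helper79.MilnorAlgFT

/-!
# Finite presentation over a Milnor square
-/

set_option autoImplicit false
universe u
open TensorProduct

namespace Groth.Agent.Lib.Helper79.MilnorAlg

open Groth.Agent.Lib.Helper63.Milnor

/-- if `Q/K` is flat over `R` then `K ∩ IQ = IK`. -/
theorem mem_smul_ker_of_flat {R Q E : Type*} [CommRing R] [CommRing Q] [CommRing E] [Algebra R Q]
    [Algebra R E] (π : Q →ₐ[R] E) (hπ : Function.Surjective π) [Module.Flat R E] (I : Ideal R)
    (u : Q) (hu1 : π u = 0) (hu2 : u ∈ I • (⊤ : Submodule R Q)) :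
    u ∈ I • (LinearMap.ker π.toLinearMap) := by
  let μQ : I ⊗[R] Q →ₗ[R] Q := (TensorProduct.lid R Q).toLinearMap ∘ₗ (I.subtype.rTensor Q)
  let μE : I ⊗[R] E →ₗ[R] E := (TensorProduct.lid R E).toLinearMap ∘ₗ (I.subtype.rTensor E)
  rw [← Ideal.subtype_rTensor_range] at hu2
  obtain ⟨t, ht⟩ := hu2
  have ht' : μQ t = u := ht
  have hnat : ∀ t, π (μQ t) = μE (π.toLinearMap.lTensor I t) := by
    intro t
    induction t using TensorProduct.induction_on with
    | zero => simp
    | tmul i q => simp [μQ, μE]
    | add x y hx hy => rw [map_add, map_add, hx, hy, map_add, map_add]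
  have hμE : Function.Injective μE :=
    (TensorProduct.lid R E).injective.comp
      (Module.Flat.rTensor_preserves_injective_linearMap I.subtype Subtype.val_injective)
  have h0 : π.toLinearMap.lTensor I t = 0 := by
    apply hμE
    rw [← hnat, ht', hu1, map_zero]
  have hex := lTensor_exact I (LinearMap.exact_subtype_ker_map π.toLinearMap) hπ
  obtain ⟨s, hs⟩ := (hex t).mp h0
  rw [← ht', ← hs]
  clear hs h0 ht' ht
  induction s using TensorProduct.induction_on with
  | zero => simp
  | tmul i k =>
    have : μQ ((LinearMap.lTensor (↥I) (LinearMap.ker π.toLinearMap).subtype) (i ⊗ₜ[R] k)) =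
        (i : R) • (k : Q) := by simp [μQ]
    rw [this]
    exact Submodule.smul_mem_smul i.2 k.2
  | add x y hx hy =>
    rw [map_add, map_add]
    exact Submodule.add_mem _ hx hy

section generic

variable {R S P D : Type u} [CommRing R] [CommRing S] [CommRing P] [CommRing D] [Algebra R S]
    [Algebra R P] [Algebra R D] (π' : P →ₐ[R] D)

theorem map_id_surjective (hπ' : Function.Surjective π') :
    Function.Surjective (Algebra.TensorProduct.map (AlgHom.id S S) π') := by
  intro x
  induction x using TensorProduct.induction_on with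
  | zero => exact ⟨0, map_zero _⟩
  | tmul s d =>
    obtain ⟨p, rfl⟩ := hπ' d
    exact ⟨s ⊗ₜ p, by simp⟩
  | add x y hx hy =>
    obtain ⟨px, rfl⟩ := hx
    obtain ⟨py, rfl⟩ := hy
    exact ⟨px + py, map_add _ _ _⟩

theorem map_id_eq (x : S ⊗[R] P) :
    Algebra.TensorProduct.map (AlgHom.id S S) π' x =
      Algebra.TensorProduct.map (AlgHom.id R S) π' x := by
  induction x using TensorProduct.induction_on with
  | zero => simp
  | tmul b p => simp
  | add x y hx hy => rw [map_add, map_add, hx, hy]

theorem ker_map_id (hπ' : Function.Surjective π') :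
    RingHom.ker (Algebra.TensorProduct.map (AlgHom.id S S) π').toRingHom =
      Ideal.map (Algebra.TensorProduct.includeRight : P →ₐ[R] S ⊗[R] P)
        (RingHom.ker π'.toRingHom) := by
  have h := Algebra.TensorProduct.lTensor_ker (A := S) π' hπ'
  ext x
  rw [RingHom.mem_ker]
  have h2 : x ∈ RingHom.ker (Algebra.TensorProduct.map (AlgHom.id R S) π') ↔
      x ∈ Ideal.map (Algebra.TensorProduct.includeRight : P →ₐ[R] S ⊗[R] P) (RingHom.ker π') := by
    rw [h]
  rw [RingHom.mem_ker] at h2
  rw [← map_id_eq π' x] at h2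
  exact h2

theorem includeRight_surjective (hS : Function.Surjective (algebraMap R S)) :
    Function.Surjective (Algebra.TensorProduct.includeRight : P →ₐ[R] S ⊗[R] P) := by
  intro x
  induction x using TensorProduct.induction_on with
  | zero => exact ⟨0, map_zero _⟩
  | tmul b p =>
    obtain ⟨b', rfl⟩ := hS b
    refine ⟨b' • p, ?_⟩
    change (1 : S) ⊗ₜ[R] (b' • p) = _
    rw [TensorProduct.tmul_smul, TensorProduct.smul_tmul', Algebra.smul_def, mul_one]
  | add x y hx hy =>
    obtain ⟨px, rfl⟩ := hx
    obtain ⟨py, rfl⟩ := hy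
    exact ⟨px + py, map_add _ _ _⟩

/-- a finitely generated extended ideal is generated by the images of finitely many elements. -/
theorem exists_finset_of_map_fg (I : Ideal P)
    (h : (Ideal.map (Algebra.TensorProduct.includeRight : P →ₐ[R] S ⊗[R] P) I).FG) :
    ∃ F : Finset P, (F : Set P) ⊆ I ∧
      Ideal.map (Algebra.TensorProduct.includeRight : P →ₐ[R] S ⊗[R] P) I =
        Ideal.span ((Algebra.TensorProduct.includeRight : P →ₐ[R] S ⊗[R] P) '' (F : Set P)) := by
  classical
  obtain ⟨sB, hsB1, hsB2⟩ := (Submodule.fg_span_iff_fg_span_finset_subset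
    ((Algebra.TensorProduct.includeRight : P →ₐ[R] S ⊗[R] P) '' (I : Set P))).mp h
  obtain ⟨F, hFK, hF⟩ := Finset.subset_set_image_iff.mp hsB1
  refine ⟨F, hFK, ?_⟩
  refine hsB2.trans ?_
  rw [← hF, Finset.coe_image]

end generic

end Groth.Agent.Lib.Helper79.MilnorAlg
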