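import Groth.Agent.Lib.Helper79.MilnorAlgFP

/-!
# Finite presentation over a Milnor square, main step
-/

set_option autoImplicit false
universe u
open TensorProduct

namespace Groth.Agent.Lib.Helper79.MilnorAlg

open Groth.Agent.Lib.Helper63.Milnor

section partE

variable (B' B A' A : Type u) [CommRing B'] [CommRing B] [CommRing A'] [CommRing A]
    [Algebra B' B] [Algebra B' A'] [Algebra B A] [Algebra A' A] [Algebra B' A] [IsScalarTower B' B A] [IsScalarTower B' A' A]
    (hsq : EtMil.IsFibreSquare B' B A' A)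
    (P' D' : Type u) [CommRing P'] [CommRing D'] [Algebra B' P'] [Algebra B' D']

/-- the restriction `A' ⊗ P' → A ⊗ P'`. -/
noncomputable def ρ : A' ⊗[B'] P' →ₐ[B'] A ⊗[B'] P' :=
  Algebra.TensorProduct.map (IsScalarTower.toAlgHom B' A' A) (AlgHom.id B' P')

theorem ρ_eq (x : A' ⊗[B'] P') :
    (IsScalarTower.toAlgHom B' A' A).toLinearMap.rTensor P' x = ρ B' A' A P' x := by
  induction x using TensorProduct.induction_on with
  | zero => simp
  | tmul b p => simp [ρ]
  | add x y hx hy => rw [map_add, map_add, hx, hy]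

theorem ρ_algebraMap (i : A') (hi : algebraMap A' A i = 0) :
    ρ B' A' A P' (algebraMap A' (A' ⊗[B'] P') i) = 0 := by
  have : algebraMap A' (A' ⊗[B'] P') i = i ⊗ₜ 1 := rfl
  rw [this, ρ, Algebra.TensorProduct.map_tmul, IsScalarTower.coe_toAlgHom', hi,
    TensorProduct.zero_tmul]

theorem ρ_includeRight (z : P')
    (hzB : (Algebra.TensorProduct.includeRight : P' →ₐ[B'] B ⊗[B'] P') z = 0) :
    ρ B' A' A P' ((Algebra.TensorProduct.includeRight : P' →ₐ[B'] A' ⊗[B'] P') z) = 0 := by
  change ρ B' A' A P' ((1 : A') ⊗ₜ[B'] z) = 0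
  rw [ρ, Algebra.TensorProduct.map_tmul, map_one, AlgHom.coe_id, id_eq]
  have h2 := congrArg ((IsScalarTower.toAlgHom B' B A).toLinearMap.rTensor P') hzB
  rw [map_zero] at h2
  change (IsScalarTower.toAlgHom B' B A).toLinearMap.rTensor P' ((1 : B) ⊗ₜ[B'] z) = 0 at h2
  rw [LinearMap.rTensor_tmul] at h2
  simpa using h2

/-- the kernel of `ρ` is contained in `I • ⊤`. -/
theorem mem_smul_top_of_ρ (hs : Function.Surjective (algebraMap A' A)) (u : A' ⊗[B'] P')
    (hu : ρ B' A' A P' u = 0) :
    u ∈ RingHom.ker (algebraMap A' A) • (⊤ : Submodule A' (A' ⊗[B'] P')) := by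
  have hexI : Function.Exact (Submodule.restrictScalars B' (RingHom.ker (algebraMap A' A))).subtype
      (IsScalarTower.toAlgHom B' A' A).toLinearMap := by
    intro x
    constructor
    · intro hx
      exact ⟨⟨x, hx⟩, rfl⟩
    · rintro ⟨y, rfl⟩
      exact y.2
  have hex := rTensor_exact P' hexI hs
  have h0 : (IsScalarTower.toAlgHom B' A' A).toLinearMap.rTensor P' u = 0 := by rw [ρ_eq, hu]
  obtain ⟨t, ht⟩ := (hex _).mp h0
  rw [← ht]
  clear ht h0
  induction t using TensorProduct.induction_on with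
  | zero => simp
  | tmul i p =>
    have : (LinearMap.rTensor P'
        (Submodule.restrictScalars B' (RingHom.ker (algebraMap A' A))).subtype)
        (i ⊗ₜ[B'] p) = (i : A') • ((1 : A') ⊗ₜ[B'] p) := by
      rw [LinearMap.rTensor_tmul, TensorProduct.smul_tmul', smul_eq_mul, mul_one]
      rfl
    rw [this]
    exact Submodule.smul_mem_smul i.2 trivial
  | add x y hx hy =>
    rw [map_add]
    exact Submodule.add_mem _ hx hy

end partE

end Groth.Agent.Lib.Helper79.MilnorAlg
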