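import Groth.Agent.Lib.Helper79.MilnorAlgFP2

/-!
# Finite presentation over a Milnor square, main theorem
-/

set_option autoImplicit false
universe u
open TensorProduct

namespace Groth.Agent.Lib.Helper79.MilnorAlg

open Groth.Agent.Lib.Helper63.Milnor

section partE

variable (B' B A' A : Type u) [CommRing B'] [CommRing B] [CommRing A'] [CommRing A]
    [Algebra B' B] [Algebra B' A'] [Algebra B A] [Algebra A' A] [Algebra B' A] [IsScalarTower B' B A] [IsScalarTower B' A' A]
    (hsq : EtMil.IsFibreSquare B' B A' A)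
    (P' D' : Type u) [CommRing P'] [CommRing D'] [Algebra B' P'] [Algebra B' D']

local notation "iB" => (Algebra.TensorProduct.includeRight : P' →ₐ[B'] B ⊗[B'] P')
local notation "iA" => (Algebra.TensorProduct.includeRight : P' →ₐ[B'] A' ⊗[B'] P')

include hsq in
theorem ker_fg [Module.Flat B' P'] [Algebra.FinitePresentation B' P'] (π' : P' →ₐ[B'] D')
    (hπ' : Function.Surjective π') [Algebra.FinitePresentation B (B ⊗[B'] D')]
    [Algebra.FinitePresentation A' (A' ⊗[B'] D')] [Module.Flat A' (A' ⊗[B'] D')] :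
    (RingHom.ker π'.toRingHom).FG := by
  classical
  obtain ⟨hinj, hlift⟩ := (Groth.Agent.S2020.result B' B A' A hsq).2 P' inferInstance
  have hβ : Function.Surjective (algebraMap B' B) := surjective_left hsq
  have hkerB := ker_map_id (S := B) π' hπ'
  have hkerA := ker_map_id (S := A') π' hπ'
  have hKB : (Ideal.map iB (RingHom.ker π'.toRingHom)).FG := by
    rw [← hkerB]
    exact Algebra.FinitePresentation.ker_fG_of_surjective _ (map_id_surjective π' hπ')
  have hKA : (Ideal.map iA (RingHom.ker π'.toRingHom)).FG := by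
    rw [← hkerA]
    exact Algebra.FinitePresentation.ker_fG_of_surjective _ (map_id_surjective π' hπ')
  obtain ⟨F₁, hF₁K, hF₁⟩ := exists_finset_of_map_fg _ hKB
  obtain ⟨F₂, hF₂K, hF₂⟩ := exists_finset_of_map_fg _ hKA
  have hiB : Function.Surjective iB := includeRight_surjective hβ
  have hFK : Ideal.span ((F₁ ∪ F₂ : Finset P') : Set P') ≤ RingHom.ker π'.toRingHom := by
    rw [Ideal.span_le, Finset.coe_union]
    exact Set.union_subset hF₁K hF₂K
  have hF₁le : Ideal.span (F₁ : Set P') ≤ Ideal.span ((F₁ ∪ F₂ : Finset P') : Set P') :=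
    Ideal.span_mono (by rw [Finset.coe_union]; exact Set.subset_union_left)
  have hF₂le : Ideal.span (F₂ : Set P') ≤ Ideal.span ((F₁ ∪ F₂ : Finset P') : Set P') :=
    Ideal.span_mono (by rw [Finset.coe_union]; exact Set.subset_union_right)
  refine ⟨F₁ ∪ F₂, le_antisymm hFK ?_⟩
  intro k hk
  -- first correction
  have h1 : iB k ∈ Ideal.map iB (Ideal.span (F₁ : Set P')) := by
    rw [Ideal.map_span, ← hF₁]
    exact Ideal.mem_map_of_mem iB hk
  obtain ⟨k₁, hk₁, hk₁k⟩ := (Ideal.mem_map_iff_of_surjective iB hiB).mp h1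
  have hz : k - k₁ ∈ RingHom.ker π'.toRingHom := Ideal.sub_mem _ hk (hFK (hF₁le hk₁))
  have hzB : iB (k - k₁) = 0 := by rw [map_sub, hk₁k, sub_self]
  -- second correction
  have hu1 : (Algebra.TensorProduct.map (AlgHom.id A' A') π') (iA (k - k₁)) = 0 := by
    have : iA (k - k₁) ∈ RingHom.ker
        (Algebra.TensorProduct.map (AlgHom.id A' A') π').toRingHom := by
      rw [hkerA]
      exact Ideal.mem_map_of_mem iA hz
    exact this
  have hρu : ρ B' A' A P' (iA (k - k₁)) = 0 := ρ_includeRight B' B A' A P' _ hzB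
  have hu2 := mem_smul_top_of_ρ B' A' A P' hsq.1 _ hρu
  have hu3 := mem_smul_ker_of_flat (Algebra.TensorProduct.map (AlgHom.id A' A') π')
    (map_id_surjective π' hπ') (RingHom.ker (algebraMap A' A)) (iA (k - k₁)) hu1 hu2
  have hu4 : iA (k - k₁) ∈ (RingHom.ker (ρ B' A' A P').toRingHom) •
      Submodule.span (A' ⊗[B'] P') (Set.range (fun x : ((F₂ : Set P')) => iA x.1)) := by
    have hrange : Set.range (fun x : ((F₂ : Set P')) => iA x.1) =
        (iA : P' → _) '' (F₂ : Set P') := (Set.image_eq_range _ _).symm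
    rw [hrange]
    refine Submodule.smul_induction_on hu3 ?_ ?_
    · intro i hi m hm
      rw [Algebra.smul_def]
      apply Submodule.smul_mem_smul
      · exact (RingHom.mem_ker).mpr (ρ_algebraMap B' A' A P' i hi)
      · have hm' : m ∈ RingHom.ker
            (Algebra.TensorProduct.map (AlgHom.id A' A') π').toRingHom := hm
        rw [hkerA, hF₂] at hm'
        exact hm'
    · intro x y hx hy
      exact Submodule.add_mem _ hx hy
  obtain ⟨a, ha, hau⟩ := (Submodule.mem_ideal_smul_span_iff_exists_sum _ _ _).mp hu4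
  have hlift' : ∀ i, ∃ l : P', iB l = 0 ∧ iA l = a i := by
    intro i
    have hai : ρ B' A' A P' (a i) = 0 := ha i
    obtain ⟨l, hl1, hl2⟩ := hlift 0 (a i) (by rw [map_zero, ρ_eq, hai])
    exact ⟨l, hl1, hl2⟩
  choose l hl1 hl2 using hlift'
  have hk₂ : (a.sum (fun i _ => l i * i.1)) ∈ Ideal.span (F₂ : Set P') := by
    apply Ideal.sum_mem
    intro i _
    exact Ideal.mul_mem_left _ _ (Ideal.subset_span i.2)
  have hk₂B : iB (a.sum (fun i _ => l i * i.1)) = 0 := by
    rw [Finsupp.sum, map_sum]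
    apply Finset.sum_eq_zero
    intro i _
    rw [map_mul, hl1, zero_mul]
  have hk₂A : iA (a.sum (fun i _ => l i * i.1)) = iA (k - k₁) := by
    rw [← hau, Finsupp.sum, Finsupp.sum, map_sum]
    apply Finset.sum_congr rfl
    intro i _
    rw [map_mul, hl2, smul_eq_mul]
  have hzk : k - k₁ = a.sum (fun i _ => l i * i.1) := by
    apply hinj
    exact Prod.ext (hzB.trans hk₂B.symm) hk₂A.symm
  have : k = k₁ + a.sum (fun i _ => l i * i.1) := by rw [← hzk]; ring
  rw [this]
  exact Ideal.add_mem _ (hF₁le hk₁) (hF₂le hk₂)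

end partE

end Groth.Agent.Lib.Helper79.MilnorAlg
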