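import Groth.Agent.Lib.Helper79.MilnorAlg

/-!
# Finite type over a Milnor square
-/

set_option autoImplicit false
universe u
open TensorProduct

namespace Groth.Agent.Lib.Helper79.MilnorAlg

open Groth.Agent.Lib.Helper63.Milnor

section partC

variable (B' B A' A : Type u) [CommRing B'] [CommRing B] [CommRing A'] [CommRing A]
    [Algebra B' B] [Algebra B' A'] [Algebra B A] [Algebra A' A] [Algebra B' A] [IsScalarTower B' B A] [IsScalarTower B' A' A]
    (hsq : EtMil.IsFibreSquare B' B A' A)
    (D' D C' C : Type u) [CommRing D'] [CommRing D] [CommRing C'] [CommRing C]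
    [Algebra D' D] [Algebra D' C'] [Algebra D C] [Algebra C' C] [Algebra D' C] [IsScalarTower D' D C] [IsScalarTower D' C' C]
    (hsq' : EtMil.IsFibreSquare D' D C' C)
    [Algebra B' D'] [Algebra B D] [Algebra A' C'] [Algebra A C]
    [Algebra B' D] [IsScalarTower B' B D] [IsScalarTower B' D' D]
    [Algebra B' C'] [IsScalarTower B' A' C'] [IsScalarTower B' D' C']
    [Algebra B C] [IsScalarTower B A C] [IsScalarTower B D C]
    [Algebra A' C] [IsScalarTower A' A C] [IsScalarTower A' C' C]
    [Algebra.IsPushout B D A C] [Algebra.IsPushout A' C' A C]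

include hsq hsq' in
/-- `C'` is spanned over `A'` by the image of `D'`. -/
theorem mem_span_range (c' : C') : c' ∈ Submodule.span A' (Set.range (algebraMap D' C')) := by
  have hR : Algebra.IsPushout B' A' D' C' := isPushout_right B' B A' A hsq D' D C' C hsq'
  refine hR.out.inductionOn c' (fun x => x ∈ Submodule.span A' (Set.range (algebraMap D' C')))
    (Submodule.zero_mem _) ?_ ?_ ?_
  · intro m
    exact Submodule.subset_span ⟨m, rfl⟩
  · intro s n hn
    exact Submodule.smul_mem _ s hn
  · intro n₁ n₂ h₁ h₂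
    exact Submodule.add_mem _ h₁ h₂

/-- the kernel of `C' → C` is `I C'`. -/
theorem mem_ker_smul_top (hs : Function.Surjective (algebraMap A' A)) (w : C')
    (hw : algebraMap C' C w = 0) :
    w ∈ RingHom.ker (algebraMap A' A) • (⊤ : Submodule A' C') := by
  apply mem_smul_top_of_tmul_eq_zero hs C' w
  apply ((inferInstance : Algebra.IsPushout A' C' A C).symm.out.equiv).injective
  rw [IsBaseChange.equiv_tmul, map_zero, one_smul]
  exact hw

include hsq hsq' in
/-- **finite type over a Milnor square.** -/
theorem finiteType_glue (hD : Algebra.FiniteType B D) (hC' : Algebra.FiniteType A' C') :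
    Algebra.FiniteType B' D' := by
  classical
  have hπ : Function.Surjective (algebraMap D' D) := surjective_left hsq'
  have hβ : Function.Surjective (algebraMap B' B) := surjective_left hsq
  -- generators for `D`
  obtain ⟨sD, hsD⟩ := hD.out
  let S₁ : Finset D' := sD.image (Function.surjInv hπ)
  have hS₁ : (algebraMap D' D) '' (S₁ : Set D') = (sD : Set D) := by
    rw [Finset.coe_image, Set.image_image]
    simp only [Function.surjInv_eq hπ, Set.image_id']
  -- generators for `C'`
  obtain ⟨sC, hsC⟩ := hC'.out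
  choose T hT1 hT2 using fun c' : C' => Submodule.mem_span_finite_of_mem_span
    (mem_span_range B' B A' A hsq D' D C' C hsq' c')
  let Tall : Finset C' := sC.biUnion T
  have hTall : ∀ y ∈ Tall, y ∈ Set.range (algebraMap D' C') := by
    intro y hy
    obtain ⟨c', -, hy'⟩ := Finset.mem_biUnion.mp hy
    exact hT1 c' hy'
  let r : C' → D' := fun y => if h : y ∈ Set.range (algebraMap D' C') then h.choose else 0
  have hr : ∀ y ∈ Tall, algebraMap D' C' (r y) = y := by
    intro y hy
    have h := hTall y hy
    simp only [r, dif_pos h]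
    exact h.choose_spec
  let S₂ : Finset D' := Tall.image r
  have hS₂ : (algebraMap D' C') '' (S₂ : Set D') = (Tall : Set C') := by
    rw [Finset.coe_image, Set.image_image]
    ext y
    constructor
    · rintro ⟨x, hx, rfl⟩
      change algebraMap D' C' (r x) ∈ _
      rw [hr x hx]
      exact hx
    · intro hy
      exact ⟨y, hy, hr y hy⟩
  have hTop : Algebra.adjoin A' (Tall : Set C') = ⊤ := by
    rw [eq_top_iff, ← hsC]
    apply Algebra.adjoin_le
    intro c' hc'
    have h1 : c' ∈ Submodule.span A' ((T c' : Finset C') : Set C') := hT2 c'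
    have h2 : Submodule.span A' ((T c' : Finset C') : Set C') ≤
        Subalgebra.toSubmodule (Algebra.adjoin A' (Tall : Set C')) := by
      rw [Submodule.span_le]
      intro y hy
      apply Algebra.subset_adjoin
      exact Finset.mem_biUnion.mpr ⟨c', hc', hy⟩
    exact h2 h1
  -- the subalgebra
  let E : Subalgebra B' D' := Algebra.adjoin B' ((S₁ ∪ S₂ : Finset D') : Set D')
  have hS₁E : ∀ x ∈ S₁, x ∈ E := fun x hx =>
    Algebra.subset_adjoin (Finset.mem_coe.mpr (Finset.mem_union_left _ hx))
  have hS₂E : ∀ x ∈ S₂, x ∈ E := fun x hx =>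
    Algebra.subset_adjoin (Finset.mem_coe.mpr (Finset.mem_union_right _ hx))
  -- (3) `E → D` is surjective
  have h3 : ∀ d : D, ∃ e ∈ E, algebraMap D' D e = d := by
    intro d
    have hd : d ∈ Algebra.adjoin B ((algebraMap D' D) '' (S₁ : Set D')) := by
      rw [hS₁, hsD]; trivial
    induction hd using Algebra.adjoin_induction with
    | mem x hx =>
      obtain ⟨y, hy, rfl⟩ := hx
      exact ⟨y, hS₁E y hy, rfl⟩
    | algebraMap b =>
      obtain ⟨b', rfl⟩ := hβ b
      refine ⟨algebraMap B' D' b', Subalgebra.algebraMap_mem E b', ?_⟩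
      rw [← IsScalarTower.algebraMap_apply, ← IsScalarTower.algebraMap_apply]
    | add x y _ _ hx hy =>
      obtain ⟨ex, hex, rfl⟩ := hx
      obtain ⟨ey, hey, rfl⟩ := hy
      exact ⟨ex + ey, E.add_mem hex hey, map_add _ _ _⟩
    | mul x y _ _ hx hy =>
      obtain ⟨ex, hex, rfl⟩ := hx
      obtain ⟨ey, hey, rfl⟩ := hy
      exact ⟨ex * ey, E.mul_mem hex hey, map_mul _ _ _⟩
  -- (4) `C'` is spanned by the image of `E`
  have h4 : ∀ c' : C', c' ∈ Submodule.span A' ((algebraMap D' C') '' (E : Set D')) := by
    intro c'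
    have hc' : c' ∈ Subalgebra.toSubmodule (Algebra.adjoin A' (Tall : Set C')) := by
      rw [hTop]; trivial
    rw [Algebra.adjoin_eq_span] at hc'
    refine Submodule.span_mono ?_ hc'
    have hle : Submonoid.closure (Tall : Set C') ≤
        E.toSubmonoid.map (algebraMap D' C' : D' →* C') := by
      rw [Submonoid.closure_le]
      intro y hy
      rw [← hS₂] at hy
      obtain ⟨x, hx, rfl⟩ := hy
      exact ⟨x, hS₂E x hx, rfl⟩
    intro y hy
    obtain ⟨x, hx, rfl⟩ := hle hy
    exact ⟨x, hx, rfl⟩
  -- (5) elements of `0 × I C'` lie in `E`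
  have h5' : ∀ n : C', n ∈ Submodule.span A' ((algebraMap D' C') '' (E : Set D')) →
      ∀ i ∈ RingHom.ker (algebraMap A' A), ∃ e ∈ E, algebraMap D' D e = 0 ∧
        algebraMap D' C' e = i • n := by
    intro n hn
    induction hn using Submodule.span_induction with
    | mem n hn =>
      obtain ⟨e₀, he₀, rfl⟩ := hn
      intro i hi
      obtain ⟨j, hj1, hj2⟩ := exists_of_mem_ker hsq i hi
      refine ⟨j • e₀, E.smul_mem he₀ j, ?_, ?_⟩
      · rw [Algebra.smul_def, map_mul, ← IsScalarTower.algebraMap_apply,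
          IsScalarTower.algebraMap_apply B' B D, hj1, map_zero, zero_mul]
      · rw [Algebra.smul_def, map_mul, ← IsScalarTower.algebraMap_apply,
          IsScalarTower.algebraMap_apply B' A' C', hj2, Algebra.smul_def]
    | zero =>
      intro i _
      exact ⟨0, E.zero_mem, map_zero _, by rw [map_zero, smul_zero]⟩
    | add x y _ _ hx hy =>
      intro i hi
      obtain ⟨ex, hex, hex1, hex2⟩ := hx i hi
      obtain ⟨ey, hey, hey1, hey2⟩ := hy i hi
      exact ⟨ex + ey, E.add_mem hex hey, by rw [map_add, hex1, hey1, add_zero],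
        by rw [map_add, hex2, hey2, smul_add]⟩
    | smul a' x _ hx =>
      intro i hi
      obtain ⟨e, he, he1, he2⟩ := hx (i * a') (Ideal.mul_mem_right a' _ hi)
      exact ⟨e, he, he1, by rw [he2, mul_smul]⟩
  have h5 : ∀ w : C', w ∈ RingHom.ker (algebraMap A' A) • (⊤ : Submodule A' C') →
      ∃ e ∈ E, algebraMap D' D e = 0 ∧ algebraMap D' C' e = w := by
    intro w hw
    refine Submodule.smul_induction_on hw ?_ ?_
    · intro i hi n _
      exact h5' n (h4 n) i hi
    · intro x y hx hy
      obtain ⟨ex, hex, hex1, hex2⟩ := hx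
      obtain ⟨ey, hey, hey1, hey2⟩ := hy
      exact ⟨ex + ey, E.add_mem hex hey, by rw [map_add, hex1, hey1, add_zero],
        by rw [map_add, hex2, hey2]⟩
  -- (6) conclusion
  refine ⟨⟨S₁ ∪ S₂, ?_⟩⟩
  rw [eq_top_iff]
  rintro d' -
  change d' ∈ E
  obtain ⟨e, he, hed⟩ := h3 (algebraMap D' D d')
  have hz : algebraMap D' D (d' - e) = 0 := by rw [map_sub, hed, sub_self]
  have hw : algebraMap C' C (algebraMap D' C' (d' - e)) = 0 := by
    rw [← compat (B' := D') (B := D) (A' := C') (A := C) (d' - e), hz, map_zero]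
  obtain ⟨e₂, he₂, he₂1, he₂2⟩ := h5 _ (mem_ker_smul_top A' A C' C hsq.1 _ hw)
  have : d' - e = e₂ := ext' hsq' (by rw [hz, he₂1]) he₂2.symm
  have hd' : d' = e + e₂ := by rw [← this]; ring
  rw [hd']
  exact E.add_mem he he₂

end partC

end Groth.Agent.Lib.Helper79.MilnorAlg
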