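import Groth.Agent.Lib.Helper79.MilnorAlgFP3

/-!
# Flat / finitely presented / étale over a Milnor square
-/

set_option autoImplicit false
universe u
open TensorProduct

namespace Groth.Agent.Lib.Helper79.MilnorAlg

open Groth.Agent.Lib.Helper63.Milnor

section tensor

variable (B' B A' A : Type u) [CommRing B'] [CommRing B] [CommRing A'] [CommRing A]
    [Algebra B' B] [Algebra B' A'] [Algebra B A] [Algebra A' A] [Algebra B' A] [IsScalarTower B' B A] [IsScalarTower B' A' A]
    (hsq : EtMil.IsFibreSquare B' B A' A)

include hsq in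
/-- **finite presentation descends along a Milnor square** (for algebras flat over `A'`). -/
theorem finitePresentation_of_tensor (D' : Type u) [CommRing D'] [Algebra B' D']
    [Algebra.FiniteType B' D'] [Algebra.FinitePresentation B (B ⊗[B'] D')]
    [Algebra.FinitePresentation A' (A' ⊗[B'] D')] [Module.Flat A' (A' ⊗[B'] D')] :
    Algebra.FinitePresentation B' D' := by
  obtain ⟨n, π', hπ'⟩ := Algebra.FiniteType.iff_quotient_mvPolynomial''.mp
    (inferInstance : Algebra.FiniteType B' D')
  exact Algebra.FinitePresentation.of_surjective hπ'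
    (ker_fg B' B A' A hsq (MvPolynomial (Fin n) B') D' π' hπ')

include hsq in
/-- a module over a Milnor square vanishes if both base changes do. -/
theorem subsingleton_of_tensor (L' : Type u) [AddCommGroup L'] [Module B' L']
    [Subsingleton (B ⊗[B'] L')] [Subsingleton (A' ⊗[B'] L')] : Subsingleton L' := by
  refine ⟨fun x y => ?_⟩
  rw [← sub_eq_zero]
  generalize x - y = l
  have h1 := mem_smul_top_of_tmul_eq_zero (surjective_left hsq) L' l (Subsingleton.elim _ _)
  refine Submodule.smul_induction_on h1 ?_ ?_
  · intro j hj m _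
    exact smul_eq_zero_of_tmul_eq_zero hsq L' m (Subsingleton.elim _ _) j hj
  · intro x y hx hy
    rw [hx, hy, add_zero]

end tensor

section glue

variable (B' B A' A : Type u) [CommRing B'] [CommRing B] [CommRing A'] [CommRing A]
    [Algebra B' B] [Algebra B' A'] [Algebra B A] [Algebra A' A] [Algebra B' A] [IsScalarTower B' B A] [IsScalarTower B' A' A]
    (hsq : EtMil.IsFibreSquare B' B A' A)
    (D' D C' C : Type u) [CommRing D'] [CommRing D] [CommRing C'] [CommRing C]
    [Algebra D' D] [Algebra D' C'] [Algebra D C] [Algebra C' C] [Algebra D' C] [IsScalarTower D' D C] [IsScalarTower D' C' C]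
    (hsq' : EtMil.IsFibreSquare D' D C' C)
    [Algebra B' D'] [Algebra B D] [Algebra A' C'] [Algebra A C]
    [Algebra B' D] [IsScalarTower B' B D] [IsScalarTower B' D' D]
    [Algebra B' C'] [IsScalarTower B' A' C'] [IsScalarTower B' D' C']
    [Algebra B C] [IsScalarTower B A C] [IsScalarTower B D C]
    [Algebra A' C] [IsScalarTower A' A C] [IsScalarTower A' C' C]
    [Algebra.IsPushout B D A C] [Algebra.IsPushout A' C' A C]

include hsq hsq' in
theorem flat_glue (hD : Module.Flat B D) (hC' : Module.Flat A' C') : Module.Flat B' D' := by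
  have hL : Algebra.IsPushout B' B D' D := isPushout_left B' B A' A hsq D' D C' C hsq'
  have hR : Algebra.IsPushout B' A' D' C' := isPushout_right B' B A' A hsq D' D C' C hsq'
  have h1 : Module.Flat B (B ⊗[B'] D') :=
    Module.Flat.of_linearEquiv (Algebra.IsPushout.equiv B' B D' D).toLinearEquiv
  have h2 : Module.Flat A' (A' ⊗[B'] D') :=
    Module.Flat.of_linearEquiv (Algebra.IsPushout.equiv B' A' D' C').toLinearEquiv
  exact Groth.Agent.S14952.result B' B A' A hsq D'

include hsq hsq' in
theorem finitePresentation_glue (hD : Algebra.FinitePresentation B D)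
    (hC' : Algebra.FinitePresentation A' C') (hC'f : Module.Flat A' C') :
    Algebra.FinitePresentation B' D' := by
  have hL : Algebra.IsPushout B' B D' D := isPushout_left B' B A' A hsq D' D C' C hsq'
  have hR : Algebra.IsPushout B' A' D' C' := isPushout_right B' B A' A hsq D' D C' C hsq'
  have h0 : Algebra.FiniteType B' D' :=
    finiteType_glue B' B A' A hsq D' D C' C hsq' inferInstance inferInstance
  have h1 : Algebra.FinitePresentation B (B ⊗[B'] D') :=
    Algebra.FinitePresentation.equiv (Algebra.IsPushout.equiv B' B D' D).symm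
  have h2 : Algebra.FinitePresentation A' (A' ⊗[B'] D') :=
    Algebra.FinitePresentation.equiv (Algebra.IsPushout.equiv B' A' D' C').symm
  have h3 : Module.Flat A' (A' ⊗[B'] D') :=
    Module.Flat.of_linearEquiv (Algebra.IsPushout.equiv B' A' D' C').toLinearEquiv
  exact finitePresentation_of_tensor B' B A' A hsq D'

include hsq hsq' in
theorem formallyUnramified_glue (hD : Algebra.FormallyUnramified B D)
    (hC' : Algebra.FormallyUnramified A' C') : Algebra.FormallyUnramified B' D' := by
  have hL : Algebra.IsPushout B' B D' D := isPushout_left B' B A' A hsq D' D C' C hsq'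
  have hR : Algebra.IsPushout B' A' D' C' := isPushout_right B' B A' A hsq D' D C' C hsq'
  constructor
  have h1 : Subsingleton (D ⊗[D'] Ω[D'⁄B']) :=
    (KaehlerDifferential.tensorKaehlerEquiv B' B D' D).toEquiv.subsingleton
  have h2 : Subsingleton (C' ⊗[D'] Ω[D'⁄B']) :=
    (KaehlerDifferential.tensorKaehlerEquiv B' A' D' C').toEquiv.subsingleton
  exact subsingleton_of_tensor D' D C' C hsq' Ω[D'⁄B']

end glue

end Groth.Agent.Lib.Helper79.MilnorAlg
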