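import Groth.Agent.Lib.Helper79.MilnorAlgMain

/-!
# Smooth / étale over a Milnor square
-/

set_option autoImplicit false
universe u
open TensorProduct

namespace Groth.Agent.Lib.Helper79.MilnorAlg

open Groth.Agent.Lib.Helper63.Milnor

/-- formal smoothness of a fibre can be checked after a field extension through which a smooth
base change factors. -/
theorem formallySmooth_fiber_of_smooth {R S k K R₁ : Type*} [CommRing R] [CommRing S] [Algebra R S]
    [Field k] [Field K] [Algebra R k] [Algebra k K] [Algebra R K] [IsScalarTower R k K]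
    [CommRing R₁] [Algebra R R₁] [Algebra R₁ K] [IsScalarTower R R₁ K]
    [Algebra.Smooth R₁ (R₁ ⊗[R] S)] : Algebra.FormallySmooth k (k ⊗[R] S) := by
  have h1 : Algebra.Smooth K (K ⊗[R₁] (R₁ ⊗[R] S)) := inferInstance
  have h2 : Algebra.Smooth K (K ⊗[R] S) :=
    .of_equiv (Algebra.TensorProduct.cancelBaseChange R R₁ K K S)
  have h3 : Algebra.Smooth K (K ⊗[k] (k ⊗[R] S)) :=
    .of_equiv (Algebra.TensorProduct.cancelBaseChange R k K K S).symm
  have h4 : Algebra.Smooth k (k ⊗[R] S) :=
    Algebra.Smooth.of_smooth_tensorProduct_of_faithfullyFlat K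
  exact h4.1

section glue

variable (B' B A' A : Type u) [CommRing B'] [CommRing B] [CommRing A'] [CommRing A]
    [Algebra B' B] [Algebra B' A'] [Algebra B A] [Algebra A' A] [Algebra B' A] [IsScalarTower B' B A] [IsScalarTower B' A' A]
    (hsq : EtMil.IsFibreSquare B' B A' A)

include hsq in
/-- smoothness descends along a Milnor square. -/
theorem smooth_of_tensor (D' : Type u) [CommRing D'] [Algebra B' D'] [Module.Flat B' D']
    [Algebra.FinitePresentation B' D'] [Algebra.Smooth B (B ⊗[B'] D')]
    [Algebra.Smooth A' (A' ⊗[B'] D')] : Algebra.Smooth B' D' := by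
  apply Algebra.Smooth.of_formallySmooth_fiber
  intro 𝔭 h𝔭
  rcases Groth.Agent.Lib.Helper6.PinchAlg.prime_dichotomy (algebraMap B' B) (algebraMap B' A')
    (algebraMap B A) (algebraMap A' A) (fun c => compat c)
    (fun b a' h => ⟨lift hsq b a' h, lift_fst hsq b a' h, lift_snd hsq b a' h⟩)
    (fun c h1 h2 => ext' hsq (by rw [h1, map_zero]) (by rw [h2, map_zero])) hsq.1 𝔭 with
    ⟨Q, hQ, hQP⟩ | ⟨e, -, -, Q', hQ', hQP⟩
  · letI : Algebra 𝔭.ResidueField Q.ResidueField :=
      (Ideal.ResidueField.map 𝔭 Q (algebraMap B' B) hQP.symm).toAlgebra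
    letI : Algebra B' Q.ResidueField :=
      ((algebraMap B Q.ResidueField).comp (algebraMap B' B)).toAlgebra
    haveI : IsScalarTower B' B Q.ResidueField := .of_algebraMap_eq (fun _ => rfl)
    haveI : IsScalarTower B' 𝔭.ResidueField Q.ResidueField := .of_algebraMap_eq (fun r =>
      (Ideal.ResidueField.map_algebraMap 𝔭 Q (algebraMap B' B) hQP.symm r).symm)
    exact formallySmooth_fiber_of_smooth (R := B') (S := D') (k := 𝔭.ResidueField)
      (K := Q.ResidueField) (R₁ := B)
  · letI : Algebra 𝔭.ResidueField Q'.ResidueField :=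
      (Ideal.ResidueField.map 𝔭 Q' (algebraMap B' A') hQP.symm).toAlgebra
    letI : Algebra B' Q'.ResidueField :=
      ((algebraMap A' Q'.ResidueField).comp (algebraMap B' A')).toAlgebra
    haveI : IsScalarTower B' A' Q'.ResidueField := .of_algebraMap_eq (fun _ => rfl)
    haveI : IsScalarTower B' 𝔭.ResidueField Q'.ResidueField := .of_algebraMap_eq (fun r =>
      (Ideal.ResidueField.map_algebraMap 𝔭 Q' (algebraMap B' A') hQP.symm r).symm)
    exact formallySmooth_fiber_of_smooth (R := B') (S := D') (k := 𝔭.ResidueField)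
      (K := Q'.ResidueField) (R₁ := A')

variable (D' D C' C : Type u) [CommRing D'] [CommRing D] [CommRing C'] [CommRing C]
    [Algebra D' D] [Algebra D' C'] [Algebra D C] [Algebra C' C] [Algebra D' C] [IsScalarTower D' D C] [IsScalarTower D' C' C]
    (hsq' : EtMil.IsFibreSquare D' D C' C)
    [Algebra B' D'] [Algebra B D] [Algebra A' C'] [Algebra A C]
    [Algebra B' D] [IsScalarTower B' B D] [IsScalarTower B' D' D]
    [Algebra B' C'] [IsScalarTower B' A' C'] [IsScalarTower B' D' C']
    [Algebra B C] [IsScalarTower B A C] [IsScalarTower B D C]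
    [Algebra A' C] [IsScalarTower A' A C] [IsScalarTower A' C' C]
    [Algebra.IsPushout B D A C] [Algebra.IsPushout A' C' A C]

include hsq hsq' in
theorem smooth_glue (hD : Algebra.Smooth B D) (hC' : Algebra.Smooth A' C') :
    Algebra.Smooth B' D' := by
  have hL : Algebra.IsPushout B' B D' D := isPushout_left B' B A' A hsq D' D C' C hsq'
  have hR : Algebra.IsPushout B' A' D' C' := isPushout_right B' B A' A hsq D' D C' C hsq'
  have h0 : Module.Flat B' D' :=
    flat_glue B' B A' A hsq D' D C' C hsq' inferInstance inferInstance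
  have h1 : Algebra.FinitePresentation B' D' :=
    finitePresentation_glue B' B A' A hsq D' D C' C hsq' inferInstance inferInstance inferInstance
  have h2 : Algebra.Smooth B (B ⊗[B'] D') :=
    .of_equiv (Algebra.IsPushout.equiv B' B D' D).symm
  have h3 : Algebra.Smooth A' (A' ⊗[B'] D') :=
    .of_equiv (Algebra.IsPushout.equiv B' A' D' C').symm
  exact smooth_of_tensor B' B A' A hsq D'

include hsq hsq' in
theorem etale_glue (hD : Algebra.Etale B D) (hC' : Algebra.Etale A' C') :
    Algebra.Etale B' D' := by
  have h0 : Module.Flat B' D' :=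
    flat_glue B' B A' A hsq D' D C' C hsq' inferInstance inferInstance
  have h1 : Algebra.FinitePresentation B' D' :=
    finitePresentation_glue B' B A' A hsq D' D C' C hsq' inferInstance inferInstance inferInstance
  have h2 : Algebra.FormallyUnramified B' D' :=
    formallyUnramified_glue B' B A' A hsq D' D C' C hsq' inferInstance inferInstance
  exact Algebra.Etale.of_formallyUnramified_of_flat

end glue

end Groth.Agent.Lib.Helper79.MilnorAlg
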