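import Mathlib
import Groth.Agent.Lib.Helper6.FlatRegular

/-!
# Module lemmas for the relative Milnor glueing of finitely presented modules
-/

set_option autoImplicit false
universe u
open TensorProduct

namespace Groth.Agent.Lib.Helper79.MilnorRelFP

section L1

variable (R₀ S₀ R S : Type u) [CommRing R₀] [CommRing S₀] [CommRing R] [CommRing S]
  [Algebra R₀ S₀] [Algebra R₀ R] [Algebra R S] [Algebra S₀ S] [Algebra R₀ S]
  [IsScalarTower R₀ R S] [IsScalarTower R₀ S₀ S] [Algebra.IsPushout R₀ S₀ R S]
  {K F L : Type u} [AddCommGroup K] [Module R K] [Module R₀ K] [IsScalarTower R₀ R K]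
  [AddCommGroup F] [Module R F] [Module R₀ F] [IsScalarTower R₀ R F]
  [AddCommGroup L] [Module R L] [Module R₀ L] [IsScalarTower R₀ R L]

include S₀ in
/-- `Tor₁^R(S, L) = Tor₁^{R₀}(S₀, L) = 0` when `S = S₀ ⊗_{R₀} R` and `L` is `R₀`-flat. -/
theorem baseChange_injective_of_isPushout (ι : K →ₗ[R] F) (π : F →ₗ[R] L)
    (hι : Function.Injective ι) (hex : Function.Exact ι π) (hπ : Function.Surjective π)
    [Module.Flat R₀ L] : Function.Injective (ι.baseChange S) := by
  have h0 : Function.Injective ((ι.restrictScalars R₀).lTensor S₀) :=
    Groth.Agent.Lib.Helper6.FlatRegular.lTensor_injective_of_exact_of_flat (A := R₀)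
      (ι.restrictScalars R₀) (π.restrictScalars R₀) hι hex hπ S₀
  let eK := Algebra.IsPushout.cancelBaseChange R₀ S₀ R S K
  let eF := Algebra.IsPushout.cancelBaseChange R₀ S₀ R S F
  have comm : ∀ y : S₀ ⊗[R₀] K, ι.baseChange S (eK.symm y) =
      eF.symm ((ι.restrictScalars R₀).lTensor S₀ y) := by
    intro y
    induction y using TensorProduct.induction_on with
    | zero => simp
    | tmul s k =>
      rw [Algebra.IsPushout.cancelBaseChange_symm_tmul, LinearMap.lTensor_tmul,
        Algebra.IsPushout.cancelBaseChange_symm_tmul, LinearMap.baseChange_tmul]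
      rfl
    | add x y hx hy => rw [map_add, map_add, map_add, map_add, hx, hy]
  intro x y hxy
  apply eK.injective
  apply h0
  apply eF.symm.injective
  rw [← comm, ← comm, LinearEquiv.symm_apply_apply, LinearEquiv.symm_apply_apply, hxy]

end L1

section L2

variable (R S : Type u) [CommRing R] [CommRing S] [Algebra R S]
  {K F L : Type u} [AddCommGroup K] [Module R K] [AddCommGroup F] [Module R F]
  [AddCommGroup L] [Module R L]

theorem finite_baseChange_ker (ι : K →ₗ[R] F) (π : F →ₗ[R] L)
    (hex : Function.Exact ι π) (hπ : Function.Surjective π)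
    [Module.Finite R F] [Module.FinitePresentation S (S ⊗[R] L)]
    (hinj : Function.Injective (ι.baseChange S)) : Module.Finite S (S ⊗[R] K) := by
  have hex' : Function.Exact (ι.baseChange S) (π.baseChange S) := lTensor_exact S hex hπ
  have hsurj : Function.Surjective (π.baseChange S) := LinearMap.lTensor_surjective S hπ
  have hfg : (LinearMap.ker (π.baseChange S)).FG :=
    Module.FinitePresentation.fg_ker (π.baseChange S) hsurj
  rw [LinearMap.exact_iff] at hex'
  rw [hex'] at hfg
  haveI : Module.Finite S (LinearMap.range (ι.baseChange S)) := Module.Finite.of_fg hfg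
  exact Module.Finite.equiv (LinearEquiv.ofInjective (ι.baseChange S) hinj).symm

end L2

section U

/-- finite presentation passes to a quotient ring acting on the module. -/
theorem finitePresentation_of_surjective_algebraMap (P D' L' : Type u) [CommRing P] [CommRing D']
    [Algebra P D'] [AddCommGroup L'] [Module P L'] [Module D' L'] [IsScalarTower P D' L']
    (hs : Function.Surjective (algebraMap P D')) [Module.FinitePresentation P L'] :
    Module.FinitePresentation D' L' := by
  have h : IsBaseChange D' (LinearMap.id : L' →ₗ[P] L') := by
    apply IsBaseChange.of_lift_unique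
    intro Q _ _ _ _ g
    refine ⟨{ toFun := g, map_add' := g.map_add, map_smul' := ?_ }, ?_, ?_⟩
    · intro d x
      obtain ⟨p, rfl⟩ := hs d
      simp only [algebraMap_smul, RingHom.id_apply]
      exact g.map_smul p x
    · ext x; rfl
    · intro g' hg'
      ext x
      have := LinearMap.congr_fun hg' x
      exact this
  exact _root_.FinitePresentation.of_isBaseChange (LinearMap.id : L' →ₗ[P] L') h

/-- finite presentation over a quotient by a finitely generated ideal gives finite presentation
over the ring. -/
theorem finitePresentation_of_ker_fg (E D N : Type u) [CommRing E] [CommRing D] [Algebra E D]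
    [AddCommGroup N] [Module E N] [Module D N] [IsScalarTower E D N]
    (hs : Function.Surjective (algebraMap E D)) (hk : (RingHom.ker (algebraMap E D)).FG)
    [Module.FinitePresentation D N] : Module.FinitePresentation E N := by
  haveI : Module.FinitePresentation E D :=
    Module.finitePresentation_of_surjective (Algebra.linearMap E D) hs hk
  exact Module.FinitePresentation.trans E N D

end U

end Groth.Agent.Lib.Helper79.MilnorRelFP
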