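import Groth.Agent.S2020
import Groth.Agent.Lib.Helper79.MilnorRelFP1

/-!
# The base change of a fibre square of rings along a flat algebra is a fibre square
-/

set_option autoImplicit false
universe u
open TensorProduct

namespace Groth.Agent.Lib.Helper79.MilnorRelFP

section

variable (B' B A' A : Type u) [CommRing B'] [CommRing B] [CommRing A'] [CommRing A]
    [Algebra B' B] [Algebra B' A'] [Algebra B A] [Algebra A' A] [Algebra B' A] [IsScalarTower B' B A] [IsScalarTower B' A' A]
    (hsq : EtMil.IsFibreSquare B' B A' A)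
    (D' D C' C : Type u) [CommRing D'] [CommRing D] [CommRing C'] [CommRing C]
    [Algebra B' D'] [Algebra B D] [Algebra A' C'] [Algebra A C]
    [Algebra D' D] [Algebra B' D] [IsScalarTower B' B D] [IsScalarTower B' D' D] [Algebra.IsPushout B' B D' D]
    [Algebra D' C'] [Algebra B' C'] [IsScalarTower B' A' C'] [IsScalarTower B' D' C'] [Algebra.IsPushout B' A' D' C']
    [Algebra D' C] [Algebra B' C] [IsScalarTower B' A C] [IsScalarTower B' D' C] [Algebra.IsPushout B' A D' C]
    [Algebra D C] [IsScalarTower D' D C] [Algebra B C] [IsScalarTower B A C] [IsScalarTower B D C]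
    [Algebra C' C] [IsScalarTower D' C' C] [Algebra A' C] [IsScalarTower A' A C] [IsScalarTower A' C' C]

include hsq in
theorem isFibreSquare_of_flat [Module.Flat B' D'] : EtMil.IsFibreSquare D' D C' C := by
  obtain ⟨hinj, hexi⟩ := (Groth.Agent.S2020.result B' B A' A hsq).2 D' inferInstance
  have hpoD : Algebra.IsPushout B' B D' D := inferInstance
  have hpoC' : Algebra.IsPushout B' A' D' C' := inferInstance
  have hpoC : Algebra.IsPushout B' A D' C := inferInstance
  have hbD := hpoD.out
  have hbC' := hpoC'.out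
  have hbC := hpoC.out
  let gA : A' →ₗ[B'] A := (IsScalarTower.toAlgHom B' A' A).toLinearMap
  let gB : B →ₗ[B'] A := (IsScalarTower.toAlgHom B' B A).toLinearMap
  have key2 : ∀ z : A' ⊗[B'] D', algebraMap C' C (hbC'.equiv z) = hbC.equiv (gA.rTensor D' z) := by
    intro z
    induction z using TensorProduct.induction_on with
    | zero => simp
    | tmul a d =>
      rw [LinearMap.rTensor_tmul, IsBaseChange.equiv_tmul, IsBaseChange.equiv_tmul]
      change algebraMap C' C (a • algebraMap D' C' d) = (algebraMap A' A a) • algebraMap D' C d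
      rw [algebraMap_smul, Algebra.smul_def, Algebra.smul_def, map_mul,
        ← IsScalarTower.algebraMap_apply, ← IsScalarTower.algebraMap_apply D' C' C]
    | add x y hx hy => rw [map_add, map_add, map_add, map_add, hx, hy]
  have key1 : ∀ z : B ⊗[B'] D', algebraMap D C (hbD.equiv z) = hbC.equiv (gB.rTensor D' z) := by
    intro z
    induction z using TensorProduct.induction_on with
    | zero => simp
    | tmul b d =>
      rw [LinearMap.rTensor_tmul, IsBaseChange.equiv_tmul, IsBaseChange.equiv_tmul]
      change algebraMap D C (b • algebraMap D' D d) = (algebraMap B A b) • algebraMap D' C d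
      rw [algebraMap_smul, Algebra.smul_def, Algebra.smul_def, map_mul,
        ← IsScalarTower.algebraMap_apply, ← IsScalarTower.algebraMap_apply D' D C]
    | add x y hx hy => rw [map_add, map_add, map_add, map_add, hx, hy]
  have hone : ∀ l : D', hbD.equiv ((1 : B) ⊗ₜ[B'] l) = algebraMap D' D l := by
    intro l
    rw [IsBaseChange.equiv_tmul, one_smul]; rfl
  have hone' : ∀ l : D', hbC'.equiv ((1 : A') ⊗ₜ[B'] l) = algebraMap D' C' l := by
    intro l
    rw [IsBaseChange.equiv_tmul, one_smul]; rfl
  refine ⟨?_, ?_⟩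
  · -- surjectivity of C' → C
    intro x
    refine hpoC.out.inductionOn x (fun x => ∃ y, algebraMap C' C y = x) ⟨0, map_zero _⟩ ?_ ?_ ?_
    · intro d
      refine ⟨algebraMap D' C' d, ?_⟩
      rw [← IsScalarTower.algebraMap_apply]
      rfl
    · rintro a n ⟨y, rfl⟩
      obtain ⟨a', rfl⟩ := hsq.1 a
      refine ⟨a' • y, ?_⟩
      rw [algebraMap_smul, Algebra.smul_def, Algebra.smul_def, map_mul,
        ← IsScalarTower.algebraMap_apply]
    · rintro _ _ ⟨y₁, rfl⟩ ⟨y₂, rfl⟩
      exact ⟨y₁ + y₂, map_add _ _ _⟩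
  · intro d c' hdc
    have hcond : gB.rTensor D' (hbD.equiv.symm d) = gA.rTensor D' (hbC'.equiv.symm c') := by
      apply hbC.equiv.injective
      rw [← key1, ← key2, LinearEquiv.apply_symm_apply, LinearEquiv.apply_symm_apply, hdc]
    obtain ⟨l, hl1, hl2⟩ := hexi _ _ hcond
    refine ⟨l, ⟨?_, ?_⟩, ?_⟩
    · rw [← hone, hl1, LinearEquiv.apply_symm_apply]
    · rw [← hone', hl2, LinearEquiv.apply_symm_apply]
    · rintro l' ⟨h1, h2⟩
      apply hinj
      have e1 : (1 : B) ⊗ₜ[B'] l' = (1 : B) ⊗ₜ[B'] l := by
        apply hbD.equiv.injective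
        rw [hone, hone, h1, ← hone, hl1, LinearEquiv.apply_symm_apply]
      have e2 : (1 : A') ⊗ₜ[B'] l' = (1 : A') ⊗ₜ[B'] l := by
        apply hbC'.equiv.injective
        rw [hone', hone', h2, ← hone', hl2, LinearEquiv.apply_symm_apply]
      exact Prod.ext e1 e2

end

end Groth.Agent.Lib.Helper79.MilnorRelFP
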