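import Groth.Agent.S14953
import Groth.Agent.Lib.Helper79.MilnorRelFP2

/-!
# Finite presentation descends along a flat relative Milnor square
-/

set_option autoImplicit false
universe u
open TensorProduct

namespace Groth.Agent.Lib.Helper79.MilnorRelFP

section

variable (B' B A' A : Type u) [CommRing B'] [CommRing B] [CommRing A'] [CommRing A]
    [Algebra B' B] [Algebra B' A'] [Algebra B A] [Algebra A' A] [Algebra B' A] [IsScalarTower B' B A] [IsScalarTower B' A' A]
    (hsq : EtMil.IsFibreSquare B' B A' A)
    (D' D C' C : Type u) [CommRing D'] [CommRing D] [CommRing C'] [CommRing C]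
    [Algebra B' D'] [Algebra B D] [Algebra A' C'] [Algebra A C]
    [Algebra D' D] [Algebra B' D] [IsScalarTower B' B D] [IsScalarTower B' D' D] [Algebra.IsPushout B' B D' D]
    [Algebra D' C'] [Algebra B' C'] [IsScalarTower B' A' C'] [IsScalarTower B' D' C'] [Algebra.IsPushout B' A' D' C']
    [Algebra D' C] [Algebra B' C] [IsScalarTower B' A C] [IsScalarTower B' D' C] [Algebra.IsPushout B' A D' C]
    [Algebra D C] [IsScalarTower D' D C] [Algebra B C] [IsScalarTower B A C] [IsScalarTower B D C]
    [Algebra C' C] [IsScalarTower D' C' C] [Algebra A' C] [IsScalarTower A' A C] [IsScalarTower A' C' C]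

include hsq C in
theorem finitePresentation_of_flat_relative [Module.Flat B' D']
    (L' : Type u) [AddCommGroup L'] [Module D' L'] [Module B' L'] [IsScalarTower B' D' L']
    [Module.Finite D' L'] [Module.Flat B' L']
    [Module.FinitePresentation D (D ⊗[D'] L')] [Module.FinitePresentation C' (C' ⊗[D'] L')] :
    Module.FinitePresentation D' L' := by
  obtain ⟨n, π, hπ⟩ := Module.Finite.exists_fin' D' L'
  let K := LinearMap.ker π
  let ι : K →ₗ[D'] (Fin n → D') := K.subtype
  have hι : Function.Injective ι := Subtype.val_injective
  have hex : Function.Exact ι π := LinearMap.exact_subtype_ker_map π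
  have hinjD : Function.Injective (ι.baseChange D) :=
    baseChange_injective_of_isPushout B' B D' D ι π hι hex hπ
  have hinjC' : Function.Injective (ι.baseChange C') :=
    baseChange_injective_of_isPushout B' A' D' C' ι π hι hex hπ
  haveI finD : Module.Finite D (D ⊗[D'] K) := finite_baseChange_ker D' D ι π hex hπ hinjD
  haveI finC' : Module.Finite C' (C' ⊗[D'] K) := finite_baseChange_ker D' C' ι π hex hπ hinjC'
  have hsqD : EtMil.IsFibreSquare D' D C' C := isFibreSquare_of_flat B' B A' A hsq D' D C' C
  haveI : Module.Finite D' K := Groth.Agent.S14953.result D' D C' C hsqD K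
  exact Module.finitePresentation_of_surjective π hπ (Module.Finite.fg_top (R := D') (M := K) |>
    fun h => by
      have := (Submodule.fg_top K).mp h
      exact this)

end

end Groth.Agent.Lib.Helper79.MilnorRelFP
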