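import Groth.Agent.S2019
import Groth.Agent.Lib.Helper79.MilnorRelFP3

/-!
# The relative glued module as an absolute glued module
-/

set_option autoImplicit false
universe u
open TensorProduct

namespace Groth.Agent.Lib.Helper79.MilnorRelFP

theorem tower_of_two (R R' S' T' : Type u) [CommRing R] [CommRing R'] [CommRing S'] [CommRing T']
    [Algebra R R'] [Algebra R S'] [Algebra R T'] [Algebra R' S'] [Algebra R' T'] [Algebra S' T']
    [IsScalarTower R R' T'] [IsScalarTower R' S' T'] [IsScalarTower R R' S'] :
    IsScalarTower R S' T' :=
  IsScalarTower.of_algebraMap_eq fun x => by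
    rw [IsScalarTower.algebraMap_apply R R' T', IsScalarTower.algebraMap_apply R' S' T',
      ← IsScalarTower.algebraMap_apply R R' S']

/-- the right-hand square of a horizontal composite of pushout squares is a pushout. -/
theorem isPushout_right_of_comp (R S T R' S' T' : Type u) [CommRing R] [CommRing S] [CommRing T]
    [CommRing R'] [CommRing S'] [CommRing T']
    [Algebra R S] [Algebra R T] [Algebra S T] [IsScalarTower R S T]
    [Algebra R R'] [Algebra S S'] [Algebra T T'] [Algebra R' S'] [Algebra R S']
    [IsScalarTower R R' S'] [IsScalarTower R S S']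
    [Algebra R T'] [Algebra S' T'] [Algebra S T'] [Algebra R' T']
    [IsScalarTower R T T'] [IsScalarTower S T T'] [IsScalarTower S S' T']
    [IsScalarTower R R' T'] [IsScalarTower R' S' T']
    [Algebra.IsPushout R S R' S'] [Algebra.IsPushout R T R' T'] : Algebra.IsPushout S T S' T' := by
  haveI : IsScalarTower R S' T' := tower_of_two R R' S' T'
  exact (Algebra.IsPushout.comp_iff R S R' (S' := S') (T := T) (T' := T')).mp inferInstance

end Groth.Agent.Lib.Helper79.MilnorRelFP
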