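import Groth.Agent.Lib.Helper79.MilnorRelFP4

/-!
# The relative glueing isomorphism as an absolute glueing isomorphism
-/

set_option autoImplicit false
universe u
open TensorProduct

namespace Groth.Agent.Lib.Helper79.MilnorRelFP

section

variable (B A D C A' C' : Type u) [CommRing B] [CommRing A] [CommRing D] [CommRing C]
  [CommRing A'] [CommRing C']
  [Algebra B A] [Algebra B D] [Algebra D C] [Algebra A C] [Algebra B C]
  [IsScalarTower B A C] [IsScalarTower B D C] [Algebra.IsPushout B A D C]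
  [Algebra A' A] [Algebra A' C'] [Algebra C' C] [Algebra A' C]
  [IsScalarTower A' A C] [IsScalarTower A' C' C] [Algebra.IsPushout A' A C' C]
  {N M' : Type u} [AddCommGroup N] [Module D N] [Module B N] [IsScalarTower B D N]
  [AddCommGroup M'] [Module C' M'] [Module A' M'] [IsScalarTower A' C' M']

/-- the absolute glueing isomorphism attached to a relative one. -/
noncomputable def φA (φ : C ⊗[D] N ≃ₗ[C] C ⊗[C'] M') : A ⊗[B] N ≃ₗ[A] A ⊗[A'] M' :=
  (Algebra.IsPushout.cancelBaseChange B A D C N).symm ≪≫ₗ (φ.restrictScalars A) ≪≫ₗ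
    (Algebra.IsPushout.cancelBaseChange A' A C' C M')

theorem φA_one_tmul_eq_iff (φ : C ⊗[D] N ≃ₗ[C] C ⊗[C'] M') (n : N) (m' : M') :
    φA B A D C A' C' φ ((1 : A) ⊗ₜ[B] n) = (1 : A) ⊗ₜ[A'] m' ↔
      φ ((1 : C) ⊗ₜ[D] n) = (1 : C) ⊗ₜ[C'] m' := by
  have h1 : φA B A D C A' C' φ ((1 : A) ⊗ₜ[B] n) =
      Algebra.IsPushout.cancelBaseChange A' A C' C M' (φ ((1 : C) ⊗ₜ[D] n)) := by
    change Algebra.IsPushout.cancelBaseChange A' A C' C M'
      (φ ((Algebra.IsPushout.cancelBaseChange B A D C N).symm ((1 : A) ⊗ₜ[B] n))) = _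
    rw [Algebra.IsPushout.cancelBaseChange_symm_tmul, map_one]
  rw [h1, ← Algebra.IsPushout.cancelBaseChange_tmul A' A C' C M' m']
  exact (Algebra.IsPushout.cancelBaseChange A' A C' C M').injective.eq_iff

end

end Groth.Agent.Lib.Helper79.MilnorRelFP
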