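import Groth.Agent.S14949
import Groth.Agent.Lib.Helper79.MilnorRelFP5

/-!
# The relative glued module: flatness and base changes
-/

set_option autoImplicit false
universe u
open TensorProduct

namespace Groth.Agent.Lib.Helper79.MilnorRelFP

section

variable (B' B A' A : Type u) [CommRing B'] [CommRing B] [CommRing A'] [CommRing A]
    [Algebra B' B] [Algebra B' A'] [Algebra B A] [Algebra A' A] [Algebra B' A] [IsScalarTower B' B A] [IsScalarTower B' A' A]
    (hsq : EtMil.IsFibreSquare B' B A' A)
    (D' D C' C : Type u) [CommRing D'] [CommRing D] [CommRing C'] [CommRing C]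
    [Algebra B' D'] [Algebra B D] [Algebra A' C'] [Algebra A C]
    [Algebra D' D] [Algebra B' D] [IsScalarTower B' B D] [IsScalarTower B' D' D] [Algebra.IsPushout B' B D' D]
    [Algebra D' C'] [Algebra B' C'] [IsScalarTower B' A' C'] [IsScalarTower B' D' C'] [Algebra.IsPushout B' A' D' C']
    [Algebra D' C] [Algebra B' C] [IsScalarTower B' A C] [IsScalarTower B' D' C] [Algebra.IsPushout B' A D' C]
    [Algebra D C] [IsScalarTower D' D C] [Algebra B C] [IsScalarTower B A C] [IsScalarTower B D C]
    [Algebra C' C] [IsScalarTower D' C' C] [Algebra A' C] [IsScalarTower A' A C] [IsScalarTower A' C' C]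
    {N M' : Type u} [AddCommGroup N] [Module D N] [Module D' N] [IsScalarTower D' D N]
    [AddCommGroup M'] [Module C' M'] [Module D' M'] [IsScalarTower D' C' M'] (φ : C ⊗[D] N ≃ₗ[C] C ⊗[C'] M')
    [Module B N] [IsScalarTower B D N] [Module A' M'] [IsScalarTower A' C' M']
    [Module B' N] [IsScalarTower B' D' N] [IsScalarTower B' B N]
    [Module B' M'] [IsScalarTower B' D' M'] [IsScalarTower B' A' M']

/-- the absolute glueing isomorphism in the full relative context. -/
noncomputable def φ₀ : A ⊗[B] N ≃ₗ[A] A ⊗[A'] M' :=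
  haveI : Algebra.IsPushout B A D C := isPushout_right_of_comp B' B A D' D C
  haveI : Algebra.IsPushout A' A C' C := isPushout_right_of_comp B' A' A D' C' C
  φA B A D C A' C' φ

theorem mem_glue_φ₀_iff (x : N × M') :
    x ∈ EtMil.glue B' (φ₀ B' B A' A D' D C' C φ) ↔ x ∈ EtMil.glue D' φ := by
  haveI : Algebra.IsPushout B A D C := isPushout_right_of_comp B' B A D' D C
  haveI : Algebra.IsPushout A' A C' C := isPushout_right_of_comp B' A' A D' C' C
  exact φA_one_tmul_eq_iff B A D C A' C' φ x.1 x.2

/-- the relative glued module is the absolute one. -/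
noncomputable def ψ : ↥(EtMil.glue D' φ) ≃ₗ[B'] ↥(EtMil.glue B' (φ₀ B' B A' A D' D C' C φ)) where
  toFun x := ⟨x.1, (mem_glue_φ₀_iff B' B A' A D' D C' C φ x.1).mpr x.2⟩
  invFun x := ⟨x.1, (mem_glue_φ₀_iff B' B A' A D' D C' C φ x.1).mp x.2⟩
  left_inv _ := rfl
  right_inv _ := rfl
  map_add' _ _ := rfl
  map_smul' _ _ := rfl

include hsq in
theorem flat_glue [Module.Flat B N] [Module.Flat A' M'] : Module.Flat B' ↥(EtMil.glue D' φ) := by
  haveI : Module.Flat B' ↥(EtMil.glue B' (φ₀ B' B A' A D' D C' C φ)) :=
    (Groth.Agent.S2020.result B' B A' A hsq).1 N M' (φ₀ B' B A' A D' D C' C φ)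
      inferInstance inferInstance
  exact Module.Flat.of_linearEquiv (ψ B' B A' A D' D C' C φ)

include hsq in
theorem bijective_liftBaseChange_fst :
    Function.Bijective (LinearMap.liftBaseChange D (EtMil.glueFst D' φ)) := by
  have hB := (Groth.Agent.S2019.result B' B A' A hsq N M' (φ₀ B' B A' A D' D C' C φ)).1
  let cancel := Algebra.IsPushout.cancelBaseChange B' B D' D ↥(EtMil.glue D' φ)
  let ψL := (ψ B' B A' A D' D C' C φ).lTensor B
  have key : ∀ y : B ⊗[B'] ↥(EtMil.glue D' φ),
      LinearMap.liftBaseChange D (EtMil.glueFst D' φ) (cancel.symm y) =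
        LinearMap.liftBaseChange B (EtMil.glueFst B' (φ₀ B' B A' A D' D C' C φ)) (ψL y) := by
    intro y
    induction y using TensorProduct.induction_on with
    | zero => simp
    | tmul b n' =>
      rw [Algebra.IsPushout.cancelBaseChange_symm_tmul, LinearMap.liftBaseChange_tmul,
        LinearEquiv.lTensor_tmul, LinearMap.liftBaseChange_tmul, algebraMap_smul]
      rfl
    | add x y hx hy => rw [map_add, map_add, map_add, map_add, hx, hy]
  have hfun : (LinearMap.liftBaseChange D (EtMil.glueFst D' φ) : _ → _) =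
      (LinearMap.liftBaseChange B (EtMil.glueFst B' (φ₀ B' B A' A D' D C' C φ))) ∘ ψL ∘ cancel := by
    funext x
    have := key (cancel x)
    rw [LinearEquiv.symm_apply_apply] at this
    exact this
  rw [hfun]
  exact hB.comp (ψL.bijective.comp cancel.bijective)

include hsq in
theorem bijective_liftBaseChange_snd :
    Function.Bijective (LinearMap.liftBaseChange C' (EtMil.glueSnd D' φ)) := by
  have hB := (Groth.Agent.S2019.result B' B A' A hsq N M' (φ₀ B' B A' A D' D C' C φ)).2
  let cancel := Algebra.IsPushout.cancelBaseChange B' A' D' C' ↥(EtMil.glue D' φ)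
  let ψL := (ψ B' B A' A D' D C' C φ).lTensor A'
  have key : ∀ y : A' ⊗[B'] ↥(EtMil.glue D' φ),
      LinearMap.liftBaseChange C' (EtMil.glueSnd D' φ) (cancel.symm y) =
        LinearMap.liftBaseChange A' (EtMil.glueSnd B' (φ₀ B' B A' A D' D C' C φ)) (ψL y) := by
    intro y
    induction y using TensorProduct.induction_on with
    | zero => simp
    | tmul b n' =>
      rw [Algebra.IsPushout.cancelBaseChange_symm_tmul, LinearMap.liftBaseChange_tmul,
        LinearEquiv.lTensor_tmul, LinearMap.liftBaseChange_tmul, algebraMap_smul]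
      rfl
    | add x y hx hy => rw [map_add, map_add, map_add, map_add, hx, hy]
  have hfun : (LinearMap.liftBaseChange C' (EtMil.glueSnd D' φ) : _ → _) =
      (LinearMap.liftBaseChange A' (EtMil.glueSnd B' (φ₀ B' B A' A D' D C' C φ))) ∘ ψL ∘ cancel := by
    funext x
    have := key (cancel x)
    rw [LinearEquiv.symm_apply_apply] at this
    exact this
  rw [hfun]
  exact hB.comp (ψL.bijective.comp cancel.bijective)

end

end Groth.Agent.Lib.Helper79.MilnorRelFP
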