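import Groth.Agent.S6921
import Groth.Agent.Lib.Helper79.MilnorRelFP6

/-!
# The relative glued module of finitely presented flat modules is finitely presented
-/

set_option autoImplicit false
universe u
open TensorProduct

namespace Groth.Agent.Lib.Helper79.MilnorRelFP

section RFD

variable (B' B A' A : Type u) [CommRing B'] [CommRing B] [CommRing A'] [CommRing A]
    [Algebra B' B] [Algebra B' A'] [Algebra B A] [Algebra A' A] [Algebra B' A] [IsScalarTower B' B A] [IsScalarTower B' A' A]
    (hsq : EtMil.IsFibreSquare B' B A' A)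
    (D' D C' : Type u) [CommRing D'] [CommRing D] [CommRing C']
    [Algebra B' D'] [Algebra B D] [Algebra A' C']
    [Algebra D' D] [Algebra B' D] [IsScalarTower B' B D] [IsScalarTower B' D' D] [Algebra.IsPushout B' B D' D]
    [Algebra D' C'] [Algebra B' C'] [IsScalarTower B' A' C'] [IsScalarTower B' D' C'] [Algebra.IsPushout B' A' D' C']

include hsq in
/-- finiteness descends along a relative Milnor square. -/
theorem finite_of_finite_baseChange_relative
    (K' : Type u) [AddCommGroup K'] [Module D' K'] [Module B' K'] [IsScalarTower B' D' K']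
    [Module.Finite D (D ⊗[D'] K')] [Module.Finite C' (C' ⊗[D'] K')] : Module.Finite D' K' := by
  classical
  obtain ⟨T1, hT1⟩ := Groth.Agent.S14953.aux D' D K'
  obtain ⟨T2, hT2⟩ := Groth.Agent.S14953.aux D' C' K'
  set N₀ : Submodule D' K' := Submodule.span D' ((T1 ∪ T2 : Finset K') : Set K') with hN
  have h1 : Subsingleton (D ⊗[D'] (K' ⧸ N₀)) :=
    hT1 N₀ (fun x hx => Submodule.subset_span (by
      rw [Finset.coe_union]; exact Or.inl hx))
  have h2 : Subsingleton (C' ⊗[D'] (K' ⧸ N₀)) :=
    hT2 N₀ (fun x hx => Submodule.subset_span (by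
      rw [Finset.coe_union]; exact Or.inr hx))
  haveI h1' : Subsingleton (B ⊗[B'] (K' ⧸ N₀)) :=
    (Algebra.IsPushout.cancelBaseChange B' B D' D (K' ⧸ N₀)).symm.toEquiv.subsingleton
  haveI h2' : Subsingleton (A' ⊗[B'] (K' ⧸ N₀)) :=
    (Algebra.IsPushout.cancelBaseChange B' A' D' C' (K' ⧸ N₀)).symm.toEquiv.subsingleton
  have hQ : Subsingleton (K' ⧸ N₀) := Groth.Agent.S14949.result B' B A' A hsq (K' ⧸ N₀)
  have htop : N₀ = ⊤ := Submodule.Quotient.subsingleton_iff.1 hQ
  exact ⟨⟨T1 ∪ T2, htop⟩⟩

end RFD

section main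

variable (B' B A' A : Type u) [CommRing B'] [CommRing B] [CommRing A'] [CommRing A]
    [Algebra B' B] [Algebra B' A'] [Algebra B A] [Algebra A' A] [Algebra B' A] [IsScalarTower B' B A] [IsScalarTower B' A' A]
    (hsq : EtMil.IsFibreSquare B' B A' A)
    (D' D C' C : Type u) [CommRing D'] [CommRing D] [CommRing C'] [CommRing C]
    [Algebra B' D'] [Algebra B D] [Algebra A' C'] [Algebra A C]
    [Algebra D' D] [Algebra B' D] [IsScalarTower B' B D] [IsScalarTower B' D' D] [Algebra.IsPushout B' B D' D]
    [Algebra D' C'] [Algebra B' C'] [IsScalarTower B' A' C'] [IsScalarTower B' D' C'] [Algebra.IsPushout B' A' D' C']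
    [Algebra D' C] [Algebra B' C] [IsScalarTower B' A C] [IsScalarTower B' D' C] [Algebra.IsPushout B' A D' C]
    [Algebra D C] [IsScalarTower D' D C] [Algebra B C] [IsScalarTower B A C] [IsScalarTower B D C]
    [Algebra C' C] [IsScalarTower D' C' C] [Algebra A' C] [IsScalarTower A' A C] [IsScalarTower A' C' C]
    {N M' : Type u} [AddCommGroup N] [Module D N] [Module D' N] [IsScalarTower D' D N]
    [AddCommGroup M'] [Module C' M'] [Module D' M'] [IsScalarTower D' C' M'] (φ : C ⊗[D] N ≃ₗ[C] C ⊗[C'] M')
    [Module B N] [IsScalarTower B D N] [Module A' M'] [IsScalarTower A' C' M']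
    [Module B' N] [IsScalarTower B' D' N] [IsScalarTower B' B N]
    [Module B' M'] [IsScalarTower B' D' M'] [IsScalarTower B' A' M']

include hsq in
theorem finitePresentation_glue_relative
    [Module.FinitePresentation D N] [Module.Flat B N] [Module.FinitePresentation C' M']
    [Module.Flat A' M'] : Module.FinitePresentation D' ↥(EtMil.glue D' φ) := by
  haveI fin : Module.Finite D' ↥(EtMil.glue D' φ) :=
    Groth.Agent.S6921.result B' B A' A hsq D' D C' C φ
  haveI flat : Module.Flat B' ↥(EtMil.glue D' φ) := flat_glue B' B A' A hsq D' D C' C φ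
  haveI fpD : Module.FinitePresentation D (D ⊗[D'] ↥(EtMil.glue D' φ)) :=
    Module.FinitePresentation.of_equiv (LinearEquiv.ofBijective _
      (bijective_liftBaseChange_fst B' B A' A hsq D' D C' C φ)).symm
  haveI fpC' : Module.FinitePresentation C' (C' ⊗[D'] ↥(EtMil.glue D' φ)) :=
    Module.FinitePresentation.of_equiv (LinearEquiv.ofBijective _
      (bijective_liftBaseChange_snd B' B A' A hsq D' D C' C φ)).symm
  obtain ⟨n, π, hπ⟩ := Module.Finite.exists_fin' D' ↥(EtMil.glue D' φ)
  let K := LinearMap.ker π
  let ι : K →ₗ[D'] (Fin n → D') := K.subtype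
  have hι : Function.Injective ι := Subtype.val_injective
  have hex : Function.Exact ι π := LinearMap.exact_subtype_ker_map π
  have hinjD : Function.Injective (ι.baseChange D) :=
    baseChange_injective_of_isPushout B' B D' D ι π hι hex hπ
  have hinjC' : Function.Injective (ι.baseChange C') :=
    baseChange_injective_of_isPushout B' A' D' C' ι π hι hex hπ
  haveI finD : Module.Finite D (D ⊗[D'] K) := finite_baseChange_ker D' D ι π hex hπ hinjD
  haveI finC' : Module.Finite C' (C' ⊗[D'] K) := finite_baseChange_ker D' C' ι π hex hπ hinjC'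
  haveI : Module.Finite D' K := finite_of_finite_baseChange_relative B' B A' A hsq D' D C' K
  exact Module.finitePresentation_of_surjective π hπ
    ((Submodule.fg_top K).mp Module.Finite.fg_top)

end main

end Groth.Agent.Lib.Helper79.MilnorRelFP
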