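import Mathlib

set_option autoImplicit false

namespace Groth.Agent.Lib.Helper79

open Polynomial

section
variable (k : Type*) [Field k] (m n : ℕ)

abbrev QA : Type _ := AdjoinRoot (X ^ m : k[X])

abbrev QT : Type _ := AdjoinRoot (X ^ n : (QA k m)[X])

noncomputable abbrev QI : Ideal (MvPolynomial (Fin 2) k) :=
  Ideal.span ({MvPolynomial.X 0 ^ m, MvPolynomial.X 1 ^ n} : Set (MvPolynomial (Fin 2) k))

theorem finrank_QA : Module.finrank k (QA k m) = m := by
  rw [(AdjoinRoot.powerBasis' (monic_X_pow m)).finrank, AdjoinRoot.powerBasis'_dim,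
    natDegree_X_pow]

theorem nontrivial_QA (hm : 0 < m) : Nontrivial (QA k m) := by
  apply AdjoinRoot.nontrivial
  rw [degree_X_pow]
  exact_mod_cast hm.ne'

theorem finrank_QT (hm : 0 < m) : Module.finrank (QA k m) (QT k m n) = n := by
  have := nontrivial_QA k m hm
  rw [(AdjoinRoot.powerBasis' (monic_X_pow n)).finrank, AdjoinRoot.powerBasis'_dim,
    natDegree_X_pow]

theorem finrank_QT_k (hm : 0 < m) : Module.finrank k (QT k m n) = m * n := by
  have := nontrivial_QA k m hm
  have : Module.Free k (QA k m) :=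
    Module.Free.of_basis (AdjoinRoot.powerBasis' (monic_X_pow m)).basis
  have : Module.Free (QA k m) (QT k m n) :=
    Module.Free.of_basis (AdjoinRoot.powerBasis' (monic_X_pow n)).basis
  rw [← Module.finrank_mul_finrank k (QA k m) (QT k m n), finrank_QA k m, finrank_QT k m n hm]

noncomputable def xT : QT k m n := AdjoinRoot.of _ (AdjoinRoot.root (X ^ m : k[X]))

noncomputable def yT : QT k m n := AdjoinRoot.root (X ^ n : (QA k m)[X])

theorem xT_pow : xT k m n ^ m = 0 := by
  rw [xT, ← map_pow]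
  have : (AdjoinRoot.root (X ^ m : k[X])) ^ m = 0 := by
    have := AdjoinRoot.eval₂_root (X ^ m : k[X])
    simpa using this
  rw [this, map_zero]

theorem yT_pow : yT k m n ^ n = 0 := by
  have := AdjoinRoot.eval₂_root (X ^ n : (QA k m)[X])
  rw [yT]
  simpa using this

noncomputable def QF : MvPolynomial (Fin 2) k →ₐ[k] QT k m n :=
  MvPolynomial.aeval ![xT k m n, yT k m n]

theorem QF_le : QI k m n ≤ RingHom.ker (QF k m n).toRingHom := by
  rw [Ideal.span_le]
  rintro p hp
  simp only [Set.mem_insert_iff, Set.mem_singleton_iff] at hp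
  rcases hp with rfl | rfl
  · simp [QF, xT_pow]
  · simp [QF, yT_pow]

noncomputable def QFbar : (MvPolynomial (Fin 2) k ⧸ QI k m n) →ₐ[k] QT k m n :=
  Ideal.Quotient.liftₐ (QI k m n) (QF k m n) (fun _ ha => QF_le k m n ha)

noncomputable def QGA : QA k m →ₐ[k] (MvPolynomial (Fin 2) k ⧸ QI k m n) :=
  AdjoinRoot.liftAlgHom (X ^ m : k[X]) (Algebra.ofId k _)
    (Ideal.Quotient.mk (QI k m n) (MvPolynomial.X 0)) (by
      simp only [eval₂_X_pow]
      rw [← map_pow, Ideal.Quotient.eq_zero_iff_mem]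
      exact Ideal.subset_span (by simp))

noncomputable def QG : QT k m n →ₐ[k] (MvPolynomial (Fin 2) k ⧸ QI k m n) :=
  AdjoinRoot.liftAlgHom (X ^ n : (QA k m)[X]) (QGA k m n)
    (Ideal.Quotient.mk (QI k m n) (MvPolynomial.X 1)) (by
      simp only [eval₂_X_pow]
      rw [← map_pow, Ideal.Quotient.eq_zero_iff_mem]
      exact Ideal.subset_span (by simp))

theorem QG_comp_QFbar : (QG k m n).comp (QFbar k m n) = AlgHom.id k _ := by
  apply Ideal.Quotient.algHom_ext
  apply MvPolynomial.algHom_ext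
  intro i
  fin_cases i
  · simp [QFbar, QF, QG, QGA, xT]
  · simp [QFbar, QF, QG, QGA, yT]

theorem QFbar_comp_QG : (QFbar k m n).comp (QG k m n) = AlgHom.id k _ := by
  apply AdjoinRoot.algHom_ext'
  · apply AdjoinRoot.algHom_ext
    simp [QFbar, QF, QG, QGA, xT]
  · simp [QFbar, QF, QG, QGA, yT]

theorem finrank_monomial_quot (hm : 0 < m) :
    Module.finrank k (MvPolynomial (Fin 2) k ⧸ Ideal.span
      ({MvPolynomial.X 0 ^ m, MvPolynomial.X 1 ^ n} : Set (MvPolynomial (Fin 2) k))) = m * n := by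
  let e : (MvPolynomial (Fin 2) k ⧸ QI k m n) ≃ₐ[k] QT k m n :=
    AlgEquiv.ofAlgHom (QFbar k m n) (QG k m n) (QFbar_comp_QG k m n) (QG_comp_QFbar k m n)
  rw [e.toLinearEquiv.finrank_eq, finrank_QT_k k m n hm]

end

end Groth.Agent.Lib.Helper79
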