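import Mathlib

set_option autoImplicit false

namespace Groth.Agent.Lib.Helper79

open Topology

theorem exists_open_addSubgroup_subset {B : Type*} [AddCommGroup B] [TopologicalSpace B]
    [IsTopologicalAddGroup B] [T2Space B] [LocallyCompactSpace B] [TotallyDisconnectedSpace B]
    {U : Set B} (hU : U ∈ 𝓝 (0 : B)) :
    ∃ H : AddSubgroup B, IsOpen (H : Set B) ∧ (H : Set B) ⊆ U := by
  obtain ⟨s, hs_nhds, hsU, hs_comp⟩ := local_compact_nhds hU
  have hbasis := loc_compact_Haus_tot_disc_of_zero_dim (H := B)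
  obtain ⟨W, hWclopen, h0W, hWs⟩ := hbasis.mem_nhds_iff.mp (interior_mem_nhds.mpr hs_nhds)
  have hWclopen : IsClopen W := hWclopen
  have hWcomp : IsCompact W := hs_comp.of_isClosed_subset hWclopen.1 (hWs.trans interior_subset)
  obtain ⟨V, hV, hWV⟩ := compact_open_separated_add_right hWcomp hWclopen.2 subset_rfl
  have hT : V ∩ -V ∈ 𝓝 (0 : B) := Filter.inter_mem hV (neg_mem_nhds_zero B hV)
  refine ⟨AddSubgroup.closure (V ∩ -V),
    AddSubgroup.isOpen_of_mem_nhds _ (Filter.mem_of_superset hT AddSubgroup.subset_closure), ?_⟩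
  intro x hx
  have key : ∀ w ∈ W, w + x ∈ W ∧ w - x ∈ W := by
    induction hx using AddSubgroup.closure_induction with
    | mem y hy =>
      intro w hw
      refine ⟨hWV (Set.add_mem_add hw hy.1), hWV ?_⟩
      rw [sub_eq_add_neg]
      exact Set.add_mem_add hw hy.2
    | zero => intro w hw; simp [hw]
    | add y z _ _ ihy ihz =>
      intro w hw
      refine ⟨?_, ?_⟩
      · rw [← add_assoc]; exact (ihz _ (ihy w hw).1).1
      · rw [sub_add_eq_sub_sub]; exact (ihz _ (ihy w hw).2).2
    | neg y _ ih =>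
      intro w hw
      have := ih w hw
      rw [sub_neg_eq_add, ← sub_eq_add_neg]
      exact ⟨this.2, this.1⟩
  have := (key 0 h0W).1
  rw [zero_add] at this
  exact hsU (interior_subset (hWs this))

theorem exists_finiteIndex_not_mem {G : Type*} [AddCommGroup G] [AddGroup.FG G] (g : G)
    (hg : g ≠ 0) : ∃ N : AddSubgroup G, N.FiniteIndex ∧ g ∉ N := by
  obtain ⟨N, hN⟩ : ∃ N : AddSubgroup G, Maximal (fun N => g ∉ N) N := by
    apply zorn_le₀ {N : AddSubgroup G | g ∉ N}
    intro c hc hchain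
    by_cases hne : c.Nonempty
    · refine ⟨sSup c, ?_, fun z hz => le_sSup hz⟩
      show g ∉ sSup c
      rw [AddSubgroup.mem_sSup_of_directedOn hne hchain.directedOn]
      rintro ⟨s, hs, hgs⟩
      exact hc hs hgs
    · rw [Set.not_nonempty_iff_eq_empty] at hne
      subst hne
      exact ⟨⊥, by simpa using hg, by simp⟩
  refine ⟨N, ?_, hN.prop⟩
  have hgN : (QuotientAddGroup.mk g : G ⧸ N) ≠ 0 := by
    rw [Ne, QuotientAddGroup.eq_zero_iff]
    exact hN.prop
  have htors : IsAddTorsion (G ⧸ N) := by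
    intro x
    by_contra hx
    obtain ⟨y, rfl⟩ := QuotientAddGroup.mk_surjective x
    have hinj : ∀ k : ℤ, k • (QuotientAddGroup.mk y : G ⧸ N) = 0 → k = 0 := by
      intro k hk
      by_contra hk0
      exact hx (isOfFinAddOrder_iff_zsmul_eq_zero.mpr ⟨k, hk0, hk⟩)
    have hmult : ∀ n : ℕ, 0 < n → ∃ a : ℤ,
        (QuotientAddGroup.mk g : G ⧸ N) = (a * n) • (QuotientAddGroup.mk y : G ⧸ N) := by
      intro n hn
      have hny : n • y ∉ N := by
        intro h
        have h0 : ((n : ℤ)) • (QuotientAddGroup.mk y : G ⧸ N) = 0 := by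
          rw [natCast_zsmul, ← QuotientAddGroup.mk_nsmul, QuotientAddGroup.eq_zero_iff]
          exact h
        have := hinj _ h0
        omega
      have hmem : g ∈ N ⊔ AddSubgroup.zmultiples (n • y) := by
        by_contra hcon
        have hle : N ⊔ AddSubgroup.zmultiples (n • y) ≤ N := hN.le_of_ge hcon le_sup_left
        exact hny (hle (AddSubgroup.mem_sup_right (AddSubgroup.mem_zmultiples _)))
      obtain ⟨ν, hν, z, hz, hsum⟩ := AddSubgroup.mem_sup.mp hmem
      obtain ⟨a, rfl⟩ := AddSubgroup.mem_zmultiples_iff.mp hz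
      refine ⟨a, ?_⟩
      rw [← hsum, QuotientAddGroup.mk_add, (QuotientAddGroup.eq_zero_iff ν).mpr hν, zero_add,
        QuotientAddGroup.mk_zsmul, QuotientAddGroup.mk_nsmul, mul_smul, natCast_zsmul]
    obtain ⟨c, hc⟩ := hmult 1 one_pos
    have hc0 : c ≠ 0 := by
      rintro rfl
      apply hgN
      rw [hc]; simp
    obtain ⟨a, ha⟩ := hmult (2 * c.natAbs) (by have := Int.natAbs_pos.mpr hc0; omega)
    have heq : c * (1 : ℕ) - a * ((2 * c.natAbs : ℕ) : ℤ) = 0 := by
      apply hinj
      rw [sub_smul, ← hc, ← ha, sub_self]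
    have h1 : c = a * (2 * |c|) := by
      push_cast at heq
      linarith
    have h3 : |c| = |a| * (2 * |c|) := by
      conv_lhs => rw [h1]
      rw [abs_mul, abs_mul, abs_abs]; simp
    have h4 : 0 < |c| := abs_pos.mpr hc0
    have h5 : |a| * 2 = 1 := by
      have : |c| * (|a| * 2) = |c| * 1 := by linarith
      exact mul_left_cancel₀ h4.ne' this
    omega
  have : Finite (G ⧸ N) := AddCommGroup.finite_of_fg_isAddTorsion _ htors
  exact AddSubgroup.finiteIndex_of_finite_quotient

theorem finite_image_of_compact {B : Type*} {G : Type*} [AddCommGroup B] [TopologicalSpace B]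
    [IsTopologicalAddGroup B] [AddCommGroup G] (K : Set B) (hK : IsCompact K) (χ : B →+ G)
    (hχ : IsOpen (χ.ker : Set B)) : (χ '' K).Finite := by
  have hopen : ∀ k : B, IsOpen {x | χ x = χ k} := by
    intro k
    have : {x | χ x = χ k} = (fun x => x - k) ⁻¹' (χ.ker : Set B) := by
      ext x
      simp [AddMonoidHom.mem_ker, sub_eq_zero]
    rw [this]
    exact hχ.preimage (continuous_id.sub continuous_const)
  obtain ⟨t, _, ht⟩ := hK.elim_nhds_subcover (fun k => {x | χ x = χ k})
    (fun k _ => (hopen k).mem_nhds rfl)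
  apply Set.Finite.subset (t.finite_toSet.image χ)
  rintro _ ⟨x, hx, rfl⟩
  obtain ⟨k, hk, hxk⟩ := Set.mem_iUnion₂.mp (ht hx)
  exact ⟨k, hk, hxk.symm⟩

theorem fg_quotient_of_compactlyGenerated {B : Type*} [AddCommGroup B] [TopologicalSpace B]
    [IsTopologicalAddGroup B] (hcg : ∃ K : Set B, IsCompact K ∧ AddSubgroup.closure K = ⊤)
    (H : AddSubgroup B) (hH : IsOpen (H : Set B)) : AddGroup.FG (B ⧸ H) := by
  obtain ⟨K, hK, hKtop⟩ := hcg
  rw [AddGroup.fg_iff]
  refine ⟨QuotientAddGroup.mk' H '' K, ?_, ?_⟩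
  · rw [← AddMonoidHom.map_closure, hKtop, ← AddMonoidHom.range_eq_map,
      AddMonoidHom.range_eq_top]
    exact QuotientAddGroup.mk'_surjective H
  · apply finite_image_of_compact K hK
    rw [QuotientAddGroup.ker_mk']
    exact hH

theorem exists_open_finiteIndex_not_mem {B : Type*} [AddCommGroup B] [TopologicalSpace B]
    [IsTopologicalAddGroup B] (hcg : ∃ K : Set B, IsCompact K ∧ AddSubgroup.closure K = ⊤)
    (H : AddSubgroup B) (hH : IsOpen (H : Set B)) (b : B) (hb : b ∉ H) :
    ∃ B' : AddSubgroup B, H ≤ B' ∧ IsOpen (B' : Set B) ∧ B'.FiniteIndex ∧ b ∉ B' := by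
  have := fg_quotient_of_compactlyGenerated hcg H hH
  have hb' : (QuotientAddGroup.mk' H b) ≠ 0 := by
    rw [Ne, QuotientAddGroup.mk'_apply, QuotientAddGroup.eq_zero_iff]
    exact hb
  obtain ⟨N, hNfin, hN⟩ := exists_finiteIndex_not_mem _ hb'
  have hle : H ≤ N.comap (QuotientAddGroup.mk' H) := by
    intro h hh
    rw [AddSubgroup.mem_comap, QuotientAddGroup.mk'_apply,
      (QuotientAddGroup.eq_zero_iff h).mpr hh]
    exact N.zero_mem
  refine ⟨N.comap (QuotientAddGroup.mk' H), hle, AddSubgroup.isOpen_mono hle hH, ?_, hN⟩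
  constructor
  rw [AddSubgroup.index_comap_of_surjective N (QuotientAddGroup.mk'_surjective H)]
  exact hNfin.index_ne_zero

end Groth.Agent.Lib.Helper79
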