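import Mathlib
import Groth.Agent.Lib.Helper79.ZarProj
import Groth.Agent.Lib.Lead.PullbackAff4
import Groth.Agent.S7392

/-!
# Locally projective quasi-coherent modules (helper79)

Projectivity of the sections of a quasi-coherent module over an affine open can be checked on a
covering by basic opens (no finiteness), via `ZarProj.projective_of_localizationSpan`.
-/

set_option autoImplicit false
universe u
open CategoryTheory AlgebraicGeometry Opposite TensorProduct

namespace Groth.Agent.Lib.Helper79.QCohZarProj

open Groth.Agent.Lib.Lead.PullbackAff Scheme.Modules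

theorem projective_away_of_ringHom {R S : Type u} [CommRing R] [CommRing S] (φ : R →+* S) (r : R)
    (hloc : @IsLocalization.Away R _ r S _ φ.toAlgebra) (M : Type u) [AddCommGroup M] [Module R M]
    (h : letI := φ.toAlgebra; Module.Projective S (S ⊗[R] M)) :
    Module.Projective (Localization.Away r) (Localization.Away r ⊗[R] M) := by
  letI := φ.toAlgebra
  haveI : IsLocalization.Away r S := hloc
  haveI : Module.Projective S (S ⊗[R] M) := h
  let e : S ≃ₐ[R] Localization.Away r :=
    IsLocalization.algEquiv (Submonoid.powers r) S (Localization.Away r)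
  letI : Algebra S (Localization.Away r) := e.toAlgHom.toRingHom.toAlgebra
  haveI : IsScalarTower R S (Localization.Away r) := by
    refine IsScalarTower.of_algebraMap_eq fun a => ?_
    change algebraMap R (Localization.Away r) a = e (algebraMap R S a)
    rw [AlgEquiv.commutes]
  exact Module.Projective.of_equiv'
    (AlgebraTensorModule.cancelBaseChange R S (Localization.Away r) (Localization.Away r) M)

/-- Projectivity of the sections over a basic open gives projectivity of the localisation. -/
theorem projective_away_of_basicOpen {X : Scheme.{u}} (F : X.Modules) [F.IsQuasicoherent]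
    {U : X.Opens} (hU : IsAffineOpen U) (r : Γ(X, U))
    (h : Module.Projective Γ(X, X.basicOpen r) Γ(F, X.basicOpen r)) :
    Module.Projective (Localization.Away r) (Localization.Away r ⊗[Γ(X, U)] Γ(F, U)) := by
  have hD : IsAffineOpen (X.basicOpen r) := hU.basicOpen r
  have e' : X.basicOpen r ≤ (𝟙 X) ⁻¹ᵁ U := X.basicOpen_le r
  have hφ : (𝟙 X : X ⟶ X).appLE U (X.basicOpen r) e' =
      X.presheaf.map (homOfLE (X.basicOpen_le r)).op := by
    rw [Scheme.Hom.appLE]
    exact Category.id_comp _
  refine projective_away_of_ringHom ((𝟙 X : X ⟶ X).appLE U (X.basicOpen r) e').hom r ?_ _ ?_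
  · rw [hφ]
    exact hU.isLocalization_of_eq_basicOpen r (homOfLE (X.basicOpen_le r)) rfl
  · letI := ((𝟙 X : X ⟶ X).appLE U (X.basicOpen r) e').hom.toAlgebra
    haveI : Module.Projective Γ(X, X.basicOpen r) Γ((𝟭 X.Modules).obj F, X.basicOpen r) := h
    have h2 : Module.Projective Γ(X, X.basicOpen r) Γ((pullback (𝟙 X)).obj F, X.basicOpen r) :=
      Module.Projective.of_equiv'
        (Groth.Agent.S7392.secIso ((pullbackId X).app F) (X.basicOpen r)).symm
    exact Module.Projective.of_equiv' (sectionsPullbackEquiv (𝟙 X) F hD hU e')

/-- **Zariski-local projectivity for quasi-coherent modules**: if `U` affine is covered by basic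
opens over which the sections are projective, then `Γ(F, U)` is projective. -/
theorem projective_of_basicOpen_cover {X : Scheme.{u}} (F : X.Modules) [F.IsQuasicoherent]
    {U : X.Opens} (hU : IsAffineOpen U)
    (h : ∀ x ∈ U, ∃ r : Γ(X, U), x ∈ X.basicOpen r ∧
      Module.Projective Γ(X, X.basicOpen r) Γ(F, X.basicOpen r)) :
    Module.Projective Γ(X, U) Γ(F, U) := by
  let s : Set Γ(X, U) := {r | Module.Projective Γ(X, X.basicOpen r) Γ(F, X.basicOpen r)}
  have hs : Ideal.span s = ⊤ := by
    rw [← hU.self_le_iSup_basicOpen_iff]
    intro x hx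
    obtain ⟨r, hxr, hr⟩ := h x hx
    exact TopologicalSpace.Opens.mem_iSup.mpr ⟨⟨r, hr⟩, hxr⟩
  exact Groth.Agent.Lib.Helper79.ZarProj.projective_of_localizationSpan s hs _
    (fun r hr => projective_away_of_basicOpen F hU r hr)

end Groth.Agent.Lib.Helper79.QCohZarProj
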