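import Groth.Agent.Lib.Helper79.QPatchD
import Mathlib.AlgebraicGeometry.AffineTransitionLimit

/-!
# `C ×_{Cs} Cs[V]` is the colimit of `C[V] --(V ↦ sV)--> C[V] --> ...` in `CommRingCat` (helper79)
-/

set_option autoImplicit false
universe u
open Polynomial CategoryTheory CategoryTheory.Limits AlgebraicGeometry

namespace Groth.Agent.Lib.Helper79.QPatch

variable {C Cs : Type u} [CommRing C] [CommRing Cs]

/-- the sequence `C[V] --(V ↦ sV)--> C[V] --> ...`. -/
noncomputable def seqF (s : C) : ℕ ⥤ CommRingCat.{u} where
  obj _ := CommRingCat.of C[X]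
  map {i j} _ := CommRingCat.ofHom (scale (s ^ (j - i)))
  map_id i := by
    rw [Nat.sub_self, pow_zero, scale_one]
    rfl
  map_comp {i j k} f g := by
    have h1 := leOfHom f
    have h2 := leOfHom g
    rw [← CommRingCat.ofHom_comp]
    congr 1
    apply RingHom.ext
    intro p
    have e : k - i = k - j + (j - i) := by omega
    rw [RingHom.comp_apply, scale_scale, ← pow_add, e]

@[simp] lemma seqF_map (s : C) {i j : ℕ} (f : i ⟶ j) :
    (seqF s).map f = CommRingCat.ofHom (scale (s ^ (j - i))) := rfl

/-- the cocone with point `C ×_{Cs} Cs[V]`. -/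
noncomputable def seqCocone (ι : C →+* Cs) (s : C) (w : Cs) (hw : ι s * w = 1) :
    Cocone (seqF s) where
  pt := CommRingCat.of (Dring ι)
  ι :=
    { app := fun n => CommRingCat.ofHom (stage ι (w ^ n))
      naturality := fun i j f => by
        have h1 := leOfHom f
        dsimp only [Functor.const_obj_obj, Functor.const_obj_map]
        rw [Category.comp_id]
        apply CommRingCat.hom_ext
        apply RingHom.ext
        intro p
        show stage ι (w ^ j) (scale (s ^ (j - i)) p) = stage ι (w ^ i) p
        rw [stage_scale]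
        congr 2
        obtain ⟨k, rfl⟩ := Nat.exists_eq_add_of_le h1
        rw [Nat.add_sub_cancel_left, map_pow, pow_add, mul_assoc, ← mul_pow, mul_comm w, hw,
          one_pow, mul_one] }

/-- the small version of the sequence. -/
noncomputable abbrev seqFS (s : C) : AsSmall.{u} ℕ ⥤ CommRingCat.{u} := AsSmall.down ⋙ seqF s

/-- the small version of the cocone. -/
noncomputable abbrev seqCoconeS (ι : C →+* Cs) (s : C) (w : Cs) (hw : ι s * w = 1) :
    Cocone (seqFS s) := (seqCocone ι s w hw).whisker AsSmall.down

instance : IsFiltered (AsSmall.{u} ℕ) := IsFiltered.of_equivalence AsSmall.equiv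

/-- `C ×_{Cs} Cs[V]` is the colimit of the sequence. -/
noncomputable def isColimitSeqCoconeS {ι : C →+* Cs} {s : C} (h : LocLike ι s) (w : Cs)
    (hw : ι s * w = 1) : IsColimit (seqCoconeS ι s w hw) := by
  haveI : PreservesColimitsOfShape (AsSmall.{u} ℕ) (forget CommRingCat.{u}) :=
    PreservesFilteredColimitsOfSize.preserves_filtered_colimits _
  haveI : ReflectsColimit (seqFS s) (forget CommRingCat.{u}) :=
    reflectsColimit_of_reflectsIsomorphisms _ _
  apply isColimitOfReflects (forget CommRingCat.{u})
  apply Types.FilteredColimit.isColimitOf'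
  · intro x
    obtain ⟨n, p, e⟩ := stage_surj h w hw x
    exact ⟨AsSmall.up.obj n, p, e.symm⟩
  · intro i x y e
    obtain ⟨m, hm⟩ := stage_inj h w hw (AsSmall.down.obj i) x y e
    refine ⟨AsSmall.up.obj ((AsSmall.down.obj i) + m), ⟨homOfLE (Nat.le_add_right _ _)⟩, ?_⟩
    have : (AsSmall.down.obj i) + m - (AsSmall.down.obj i) = m := Nat.add_sub_cancel_left _ _
    show scale (s ^ ((AsSmall.down.obj i) + m - (AsSmall.down.obj i))) x = scale (s ^ ((AsSmall.down.obj i) + m - (AsSmall.down.obj i))) y
    rw [this]
    exact hm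

end Groth.Agent.Lib.Helper79.QPatch
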