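import Groth.Agent.Lib.Helper79.QPatchRing

/-!
# The pinched ring `C ×_{Cs} Cs[V]` as a sequential colimit (helper79)
-/

set_option autoImplicit false
universe u
open Polynomial

namespace Groth.Agent.Lib.Helper79.QPatch

variable {C Cs : Type u} [CommRing C] [CommRing Cs]

/-- `C ×_{Cs} Cs[V]`, the fibre product over `ι : C → Cs` and `V ↦ 0`. -/
noncomputable def Dring (ι : C →+* Cs) : Subring (C × Cs[X]) :=
  RingHom.eqLocus (ι.comp (RingHom.fst C Cs[X])) ((evalRingHom (0 : Cs)).comp (RingHom.snd C Cs[X]))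

lemma mem_Dring (ι : C →+* Cs) (x : C × Cs[X]) : x ∈ Dring ι ↔ ι x.1 = x.2.eval 0 := Iff.rfl

/-- first projection. -/
noncomputable def Dfst (ι : C →+* Cs) : Dring ι →+* C := (RingHom.fst C Cs[X]).comp (Dring ι).subtype

/-- second projection. -/
noncomputable def Dsnd (ι : C →+* Cs) : Dring ι →+* Cs[X] := (RingHom.snd C Cs[X]).comp (Dring ι).subtype

lemma D_comm (ι : C →+* Cs) (d : Dring ι) : ι (Dfst ι d) = (Dsnd ι d).eval 0 := d.2

lemma D_ext (ι : C →+* Cs) (d d' : Dring ι) (h1 : Dfst ι d = Dfst ι d')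
    (h2 : Dsnd ι d = Dsnd ι d') : d = d' :=
  Subtype.ext (Prod.ext h1 h2)

/-- the map `C[V] → C ×_{Cs} Cs[V]`, `p ↦ (p(0), p(w V))`. -/
noncomputable def stage (ι : C →+* Cs) (w : Cs) : C[X] →+* Dring ι :=
  RingHom.codRestrict
    (RingHom.prod (evalRingHom (0 : C)) ((scale w).comp (Polynomial.mapRingHom ι))) (Dring ι)
    (fun p => by
      rw [mem_Dring]
      simp only [RingHom.prod_apply, coe_evalRingHom, RingHom.coe_comp, Function.comp_apply,
        coe_mapRingHom]
      rw [← coeff_zero_eq_eval_zero, ← coeff_zero_eq_eval_zero, coeff_scale, pow_zero, mul_one,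
        coeff_map])

@[simp] lemma Dfst_stage (ι : C →+* Cs) (w : Cs) (p : C[X]) :
    Dfst ι (stage ι w p) = p.eval 0 := rfl

@[simp] lemma Dsnd_stage (ι : C →+* Cs) (w : Cs) (p : C[X]) :
    Dsnd ι (stage ι w p) = scale w (p.map ι) := rfl

lemma stage_scale (ι : C →+* Cs) (w : Cs) (c : C) (p : C[X]) :
    stage ι w (scale c p) = stage ι (w * ι c) p := by
  apply D_ext
  · simp only [Dfst_stage]
    rw [← coeff_zero_eq_eval_zero, ← coeff_zero_eq_eval_zero, coeff_scale, pow_zero, mul_one]
  · simp only [Dsnd_stage]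
    rw [map_scale, scale_scale]

variable {ι : C →+* Cs} {s : C}

/-- every element of `C ×_{Cs} Cs[V]` comes from a finite stage. -/
lemma stage_surj (h : LocLike ι s) (w : Cs) (hw : ι s * w = 1) (d : Dring ι) :
    ∃ (n : ℕ) (p : C[X]), stage ι (w ^ n) p = d := by
  obtain ⟨n, p', e⟩ := h.exists_map_eq (Dsnd ι d)
  refine ⟨n, Polynomial.C (Dfst ι d) + X * scale (s ^ n) (divX p'), ?_⟩
  have hcoef : ∀ k, ι (p'.coeff k) = ι s ^ n * (Dsnd ι d).coeff k := by
    intro k
    have := congrArg (fun q => q.coeff k) e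
    simp only [coeff_map, coeff_C_mul] at this
    exact this
  have hpow : ∀ m : ℕ, w ^ m * ι s ^ m = 1 := by
    intro m
    rw [← mul_pow, mul_comm, hw, one_pow]
  apply D_ext
  · simp
  · simp only [Dsnd_stage]
    ext k
    rw [coeff_scale, coeff_map]
    cases k with
    | zero =>
      simp only [coeff_add, coeff_C_zero, mul_coeff_zero, coeff_X_zero, zero_mul, add_zero,
        pow_zero, mul_one]
      rw [D_comm, coeff_zero_eq_eval_zero]
    | succ k =>
      simp only [coeff_add, coeff_C_succ, zero_add, coeff_X_mul, coeff_scale, coeff_divX]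
      rw [map_mul, map_pow, map_pow, hcoef]
      calc ι s ^ n * (Dsnd ι d).coeff (k + 1) * (ι s ^ n) ^ k * (w ^ n) ^ (k + 1)
          = (w ^ (n * (k + 1)) * ι s ^ (n * (k + 1))) * (Dsnd ι d).coeff (k + 1) := by
            rw [← pow_mul, ← pow_mul, Nat.mul_succ, pow_add, pow_add]
            ring
        _ = (Dsnd ι d).coeff (k + 1) := by rw [hpow, one_mul]

/-- two elements of a stage with the same image become equal at a later stage. -/
lemma stage_inj (h : LocLike ι s) (w : Cs) (hw : ι s * w = 1) (n : ℕ) (p p' : C[X])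
    (e : stage ι (w ^ n) p = stage ι (w ^ n) p') :
    ∃ m : ℕ, scale (s ^ m) p = scale (s ^ m) p' := by
  have e1 : p.coeff 0 = p'.coeff 0 := by
    have := congrArg (Dfst ι) e
    simpa [coeff_zero_eq_eval_zero] using this
  have e2 : p.map ι = p'.map ι := by
    have := congrArg (fun d => scale (ι s ^ n) (Dsnd ι d)) e
    simp only [Dsnd_stage, scale_scale] at this
    have hh : ι s ^ n * w ^ n = 1 := by rw [← mul_pow, hw, one_pow]
    rw [hh] at this
    simpa [scale_one] using this
  have e3 : (p - p').map ι = 0 := by rw [Polynomial.map_sub, e2, sub_self]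
  obtain ⟨m, hm⟩ := h.exists_C_mul_eq_zero _ e3
  refine ⟨m, ?_⟩
  ext k
  rw [coeff_scale, coeff_scale]
  cases k with
  | zero => rw [e1]
  | succ k =>
    have := congrArg (fun q => q.coeff (k + 1)) hm
    simp only [coeff_C_mul, coeff_sub, coeff_zero] at this
    have h4 : (p.coeff (k + 1) - p'.coeff (k + 1)) * (s ^ m) ^ (k + 1) = 0 := by
      rw [pow_succ]
      calc (p.coeff (k + 1) - p'.coeff (k + 1)) * ((s ^ m) ^ k * s ^ m)
          = (s ^ m * (p.coeff (k + 1) - p'.coeff (k + 1))) * (s ^ m) ^ k := by ring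
        _ = 0 := by rw [this, zero_mul]
    rw [sub_mul, sub_eq_zero] at h4
    exact h4

end Groth.Agent.Lib.Helper79.QPatch
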