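import Groth.Prelude.Def_AlgGrp
import Mathlib.AlgebraicGeometry.Morphisms.FinitePresentation
import Mathlib.RingTheory.Localization.Away.Basic
import Mathlib.Algebra.Polynomial.AlgebraMap
import Mathlib.Algebra.Polynomial.Eval.Defs
import Mathlib.CategoryTheory.Monoidal.Cartesian.Over
import Mathlib.CategoryTheory.Monoidal.Grp

/-!
# Points of an `R`-group scheme with values in `R`-algebras (helper79)

`sp R C` is `Spec C` as an object of `Over (Spec R)`; `ov φ` is the morphism over `Spec R`
induced by an `R`-algebra homomorphism.  Pulling back points along `ov φ` is a group homomorphism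
(`MonObj.comp_one`, `MonObj.comp_mul`, `GrpObj.comp_inv`).
-/

set_option autoImplicit false
open CategoryTheory CategoryTheory.Limits MonoidalCategory CartesianMonoidalCategory MonObj GrpObj
  AlgebraicGeometry
universe u

namespace Groth.Agent.Lib.Helper79.QPatch

variable {R : Type u} [CommRing R]

/-- `Spec C` over `Spec R`. -/
noncomputable abbrev sp (R : Type u) [CommRing R] (C : Type u) [CommRing C] [Algebra R C] :
    Over (Spec (CommRingCat.of R)) :=
  Over.mk (Spec.map (CommRingCat.ofHom (algebraMap R C)))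

section
variable {C C' C'' : Type u} [CommRing C] [CommRing C'] [CommRing C'']
  [Algebra R C] [Algebra R C'] [Algebra R C'']

/-- the morphism over `Spec R` induced by an `R`-algebra homomorphism. -/
noncomputable def ov (φ : C →ₐ[R] C') : sp R C' ⟶ sp R C :=
  Over.homMk (Spec.map (CommRingCat.ofHom φ.toRingHom)) (by
    dsimp
    rw [← Spec.map_comp, ← CommRingCat.ofHom_comp]
    congr 2
    exact φ.comp_algebraMap)

@[simp] lemma ov_left (φ : C →ₐ[R] C') :
    (ov φ).left = Spec.map (CommRingCat.ofHom φ.toRingHom) := rfl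

lemma eq_ov (φ : C →ₐ[R] C') (e : sp R C' ⟶ sp R C)
    (h : e.left = Spec.map (CommRingCat.ofHom φ.toRingHom)) : e = ov φ :=
  Over.OverMorphism.ext h

lemma eq_ov' (φ : C →ₐ[R] C') (e : sp R C' ⟶ sp R C) (ψ : C →+* C')
    (h : e.left = Spec.map (CommRingCat.ofHom ψ)) (hψ : ψ = φ.toRingHom) : e = ov φ := by
  subst hψ
  exact eq_ov φ e h

lemma ov_comp (φ : C →ₐ[R] C') (ψ : C' →ₐ[R] C'') : ov ψ ≫ ov φ = ov (ψ.comp φ) := by
  apply Over.OverMorphism.ext
  simp only [Over.comp_left, ov_left]
  rw [← Spec.map_comp, ← CommRingCat.ofHom_comp]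
  rfl

lemma ov_id : ov (AlgHom.id R C) = 𝟙 (sp R C) := by
  apply Over.OverMorphism.ext
  simp only [ov_left, Over.id_left]
  exact Spec.map_id _

lemma ov_congr {φ ψ : C →ₐ[R] C'} (h : φ = ψ) : ov φ = ov ψ := by rw [h]

end

end Groth.Agent.Lib.Helper79.QPatch
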