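import Groth.Agent.Lib.Helper79.QPatchColim
import Groth.Agent.Lib.Helper79.QPatchPts
import Groth.Agent.Lib.Helper79.FerrandAffine

/-!
# The key lemma of Quillen patching for a group scheme locally of finite presentation (helper79)
-/

set_option autoImplicit false
universe u
open Polynomial CategoryTheory CategoryTheory.Limits AlgebraicGeometry MonoidalCategory
  CartesianMonoidalCategory MonObj

namespace Groth.Agent.Lib.Helper79.QPatch

variable {R : Type u} [CommRing R]

section alghoms
variable (R) (C : Type u) [CommRing C] [Algebra R C]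

/-- evaluation at `0` as an `R`-algebra homomorphism. -/
noncomputable def ev0A : C[X] →ₐ[R] C := (Polynomial.aeval (0 : C)).restrictScalars R

/-- `V ↦ cV` as an `R`-algebra homomorphism. -/
noncomputable def scaleA (c : C) : C[X] →ₐ[R] C[X] :=
  (Polynomial.aeval (Polynomial.C c * X)).restrictScalars R

variable {C}

@[simp] lemma ev0A_apply (p : C[X]) : ev0A R C p = p.eval 0 := by
  simp [ev0A, Polynomial.coe_aeval_eq_eval]

@[simp] lemma scaleA_apply (c : C) (p : C[X]) : scaleA R C c p = scale c p := by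
  simp [scaleA, scale_apply, Polynomial.aeval_def, Polynomial.comp]

lemma ev0A_toRingHom : (ev0A R C).toRingHom = evalRingHom (0 : C) :=
  RingHom.ext fun p => ev0A_apply R p

lemma scaleA_toRingHom (c : C) : (scaleA R C c).toRingHom = scale c :=
  RingHom.ext fun p => scaleA_apply R c p

end alghoms

section algD
variable {C Cs : Type u} [CommRing C] [CommRing Cs] [Algebra R C] [Algebra R Cs]

/-- the structure map `R → C ×_{Cs} Cs[V]`. -/
noncomputable def algD (φ : C →ₐ[R] Cs) : R →+* Dring φ.toRingHom :=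
  RingHom.codRestrict (RingHom.prod (algebraMap R C) (algebraMap R Cs[X])) (Dring φ.toRingHom)
    (fun r => by
      rw [mem_Dring]
      simp [Polynomial.algebraMap_apply])

lemma Dfst_algD (φ : C →ₐ[R] Cs) : (Dfst φ.toRingHom).comp (algD φ) = algebraMap R C := rfl

lemma Dsnd_algD (φ : C →ₐ[R] Cs) : (Dsnd φ.toRingHom).comp (algD φ) = algebraMap R Cs[X] := rfl

lemma stage_algebraMap (φ : C →ₐ[R] Cs) (w : Cs) :
    (stage φ.toRingHom w).comp (algebraMap R C[X]) = algD φ := by
  apply RingHom.ext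
  intro r
  apply D_ext
  · show Dfst φ.toRingHom (stage φ.toRingHom w (algebraMap R C[X] r)) = algebraMap R C r
    rw [Dfst_stage]
    simp [Polynomial.algebraMap_apply]
  · show Dsnd φ.toRingHom (stage φ.toRingHom w (algebraMap R C[X] r)) = algebraMap R Cs[X] r
    rw [Dsnd_stage]
    simp [Polynomial.algebraMap_apply, scale_C]

end algD

section key
variable (G : Over (Spec (CommRingCat.of R))) [GrpObj G] [LocallyOfFinitePresentation G.hom]
variable {C Cs : Type u} [CommRing C] [CommRing Cs] [Algebra R C] [Algebra R Cs]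

lemma Spec_map_ofHom_comp {A₁ A₂ A₃ : Type u} [CommRing A₁] [CommRing A₂] [CommRing A₃]
    (α : A₁ →+* A₂) (β : A₂ →+* A₃) :
    Spec.map (CommRingCat.ofHom β) ≫ Spec.map (CommRingCat.ofHom α) =
      Spec.map (CommRingCat.ofHom (β.comp α)) := by
  rw [← Spec.map_comp, ← CommRingCat.ofHom_comp]

lemma Spec_scale_algebraMap (c : C) :
    Spec.map (CommRingCat.ofHom (scale c)) ≫ Spec.map (CommRingCat.ofHom (algebraMap R C[X])) =
      Spec.map (CommRingCat.ofHom (algebraMap R C[X])) := by
  rw [Spec_map_ofHom_comp]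
  congr 2
  apply RingHom.ext
  intro r
  rw [RingHom.comp_apply, Polynomial.algebraMap_apply, scale_C]

/-- the pinching square `Spec C ← Spec Cs → Spec Cs[V]` with pushout `Spec (C ×_{Cs} Cs[V])`. -/
lemma isPushout_D (φ : C →ₐ[R] Cs) :
    IsPushout (Spec.map (CommRingCat.ofHom (ev0A R Cs).toRingHom))
      (Spec.map (CommRingCat.ofHom φ.toRingHom))
      (Spec.map (CommRingCat.ofHom (Dsnd φ.toRingHom)))
      (Spec.map (CommRingCat.ofHom (Dfst φ.toRingHom))) := by
  apply Ferrand.isPushout_Spec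
  · intro d
    show _ = ev0A R Cs _
    rw [ev0A_apply]
    exact D_comm _ d
  · intro x
    exact ⟨Polynomial.C x, by show ev0A R Cs _ = x; simp⟩
  · intro b a' hb
    refine ⟨⟨(b, a'), ?_⟩, rfl, rfl⟩
    rw [mem_Dring]
    have : ev0A R Cs a' = a'.eval 0 := ev0A_apply R a'
    rw [← this]
    exact hb
  · intro d h1 h2
    exact D_ext _ d 0 (by rw [h1, map_zero]) (by rw [h2, map_zero])

theorem key_lemma (φ : C →ₐ[R] Cs) (s : C) (hl : LocLike φ.toRingHom s)
    (h : sp R Cs[X] ⟶ G) (h0 : ov (ev0A R Cs) ≫ h = 1) :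
    ∃ (n : ℕ) (h' : sp R C[X] ⟶ G), ov (ev0A R C) ≫ h' = 1 ∧
      ov (Polynomial.mapAlgHom φ) ≫ h' = ov (scaleA R Cs (φ s ^ n)) ≫ h := by
  obtain ⟨w, hw⟩ := hl.unit.exists_right_inv
  have P := isPushout_D (R := R) φ
  -- the two maps to glue
  have e1 : Spec.map (CommRingCat.ofHom (ev0A R Cs).toRingHom) ≫ h.left =
      (1 : sp R Cs ⟶ G).left := by
    rw [← h0]
    rfl
  have e2 : Spec.map (CommRingCat.ofHom φ.toRingHom) ≫ (1 : sp R C ⟶ G).left =
      (1 : sp R Cs ⟶ G).left := by
    have := MonObj.comp_one (M := G) (ov φ)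
    rw [← this]
    rfl
  let a : Spec (CommRingCat.of (Dring φ.toRingHom)) ⟶ G.left :=
    P.desc h.left (1 : sp R C ⟶ G).left (e1.trans e2.symm)
  have ha1 : Spec.map (CommRingCat.ofHom (Dsnd φ.toRingHom)) ≫ a = h.left := P.inl_desc _ _ _
  have ha2 : Spec.map (CommRingCat.ofHom (Dfst φ.toRingHom)) ≫ a = (1 : sp R C ⟶ G).left :=
    P.inr_desc _ _ _
  have haG : a ≫ G.hom = Spec.map (CommRingCat.ofHom (algD φ)) := by
    apply P.hom_ext
    · rw [← Category.assoc, ha1, Spec_map_ofHom_comp, Dsnd_algD]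
      exact Over.w h
    · rw [← Category.assoc, ha2, Spec_map_ofHom_comp, Dfst_algD]
      exact Over.w (1 : sp R C ⟶ G)
  -- the limit cone
  let cc := seqCoconeS φ.toRingHom s w hw
  have hcc : IsColimit cc := isColimitSeqCoconeS hl w hw
  let Dg : (AsSmall.{u} ℕ)ᵒᵖ ⥤ Scheme.{u} := (seqFS s).op ⋙ Scheme.Spec
  let cone : Cone Dg := Scheme.Spec.mapCone cc.op
  have hc : IsLimit cone := isLimitOfPreserves Scheme.Spec hcc.op
  let t : Dg ⟶ (Functor.const _).obj (Spec (CommRingCat.of R)) :=
    { app := fun _ => Spec.map (CommRingCat.ofHom (algebraMap R C[X]))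
      naturality := fun i j f => by
        exact (Spec_scale_algebraMap (R := R) (s ^ _)).trans (Category.comp_id _).symm }
  have ha : cone.π ≫ t = (Functor.const _).map (a ≫ G.hom) := by
    ext i : 2
    show Spec.map (CommRingCat.ofHom (stage φ.toRingHom (w ^ _))) ≫
      Spec.map (CommRingCat.ofHom (algebraMap R C[X])) = a ≫ G.hom
    rw [Spec_map_ofHom_comp, stage_algebraMap, haG]
  haveI : ∀ {i j : (AsSmall.{u} ℕ)ᵒᵖ} (f : i ⟶ j), IsAffineHom (Dg.map f) := by
    intro i j f
    show IsAffineHom (Spec.map _)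
    infer_instance
  haveI : ∀ i, CompactSpace (Dg.obj i) := by
    intro i
    show CompactSpace (Spec _)
    infer_instance
  haveI : ∀ i, QuasiSeparatedSpace (Dg.obj i) := by
    intro i
    show QuasiSeparatedSpace (Spec _)
    infer_instance
  obtain ⟨i, g, hg1, hg2⟩ :=
    Scheme.exists_π_app_comp_eq_of_locallyOfFinitePresentation Dg t G.hom cone hc a ha
  have hg1' : Spec.map (CommRingCat.ofHom (stage φ.toRingHom (w ^ (AsSmall.down.obj i.unop)))) ≫ g
      = a := hg1
  have hg2' : g ≫ G.hom = Spec.map (CommRingCat.ofHom (algebraMap R C[X])) := hg2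
  refine ⟨AsSmall.down.obj i.unop, Over.homMk (U := sp R C[X]) g hg2', ?_, ?_⟩
  · apply Over.OverMorphism.ext
    show Spec.map (CommRingCat.ofHom (ev0A R C).toRingHom) ≫ g = _
    rw [← ha2, ← hg1', ← Category.assoc, Spec_map_ofHom_comp]
    congr 3
  · apply Over.OverMorphism.ext
    show Spec.map (CommRingCat.ofHom (Polynomial.mapAlgHom φ).toRingHom) ≫ g =
      Spec.map (CommRingCat.ofHom (scaleA R Cs (φ s ^ _)).toRingHom) ≫ h.left
    rw [← ha1, ← hg1', ← Category.assoc, ← Category.assoc, Spec_map_ofHom_comp,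
      Spec_map_ofHom_comp]
    congr 3
    apply RingHom.ext
    intro p
    show Polynomial.map φ.toRingHom p =
      scaleA R Cs _ (Dsnd φ.toRingHom (stage φ.toRingHom _ p))
    rw [scaleA_apply, Dsnd_stage, scale_scale]
    have : φ s ^ (AsSmall.down.obj i.unop) * w ^ (AsSmall.down.obj i.unop) = 1 := by
      rw [← mul_pow]
      have hw' : φ s * w = 1 := hw
      rw [hw', one_pow]
    rw [this, scale_one]
    rfl

end key

end Groth.Agent.Lib.Helper79.QPatch
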