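import Groth.Agent.Lib.Helper79.QPatchKey

/-!
# Quillen patching for a group scheme locally of finite presentation (helper79)
-/

set_option autoImplicit false
universe u
open Polynomial CategoryTheory CategoryTheory.Limits AlgebraicGeometry MonoidalCategory
  CartesianMonoidalCategory MonObj GrpObj

namespace Groth.Agent.Lib.Helper79.QPatch

variable {R : Type u} [CommRing R]

section maps
variable (R) (K : Type u) [CommRing K] [Algebra R K]

/-- substitute `a` for the variable. -/
noncomputable def pe {A : Type u} [CommRing A] [Algebra K A] [Algebra R A] [IsScalarTower R K A]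
    (a : A) : K[X] →ₐ[R] A := (Polynomial.aeval a).restrictScalars R

@[simp] lemma pe_apply {A : Type u} [CommRing A] [Algebra K A] [Algebra R A] [IsScalarTower R K A]
    (a : A) (p : K[X]) : pe R K a p = Polynomial.aeval a p := rfl

/-- `T ↦ U T` from `K[T]` to `K[T][U][V]`. -/
noncomputable def alphaA : K[X] →ₐ[R] K[X][X][X] :=
  pe R K (A := K[X][X][X]) ((Polynomial.C X * Polynomial.C (Polynomial.C X) : K[X][X][X]))

/-- `T ↦ (U + V) T` from `K[T]` to `K[T][U][V]`. -/
noncomputable def betaA : K[X] →ₐ[R] K[X][X][X] :=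
  pe R K (A := K[X][X][X]) (((Polynomial.C X + X) * Polynomial.C (Polynomial.C X) : K[X][X][X]))

/-- `U ↦ u, V ↦ v` from `K[T][U][V]` to `K[T]`. -/
noncomputable def sigmaA (u v : K) : K[X][X][X] →ₐ[R] K[X] :=
  (pe R K[X] (A := K[X]) (Polynomial.C u)).comp
    (pe R K[X][X] (A := K[X][X]) (Polynomial.C (Polynomial.C v)))

variable {K}

lemma ev0A_comp_alphaA : (ev0A R K[X][X]).comp (alphaA R K) = (ev0A R K[X][X]).comp (betaA R K) := by
  apply Polynomial.algHom_ext'
  · apply AlgHom.ext
    intro k
    simp [alphaA, betaA]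
  · simp [alphaA, betaA]

lemma ev0A_comp_scaleA (c : K) : (ev0A R K).comp (scaleA R K c) = ev0A R K := by
  apply Polynomial.algHom_ext'
  · apply AlgHom.ext
    intro k
    simp [scale_C]
  · simp [scale_X]

lemma scaleA_comp_scaleA (a b : K) :
    (scaleA R K a).comp (scaleA R K b) = scaleA R K (a * b) := by
  apply AlgHom.ext
  intro p
  simp [scale_scale]

lemma scaleA_one : scaleA R K 1 = AlgHom.id R K[X] := by
  apply AlgHom.ext
  intro p
  simp [scale_one]

lemma ev0A_comp_CAlgHom : (ev0A R K).comp (CAlgHom) = AlgHom.id R K := by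
  apply AlgHom.ext
  intro x
  simp

variable {K' : Type u} [CommRing K'] [Algebra R K']

lemma mapAlgHom_comp_scaleA (j : K →ₐ[R] K') (c : K) :
    (Polynomial.mapAlgHom j).comp (scaleA R K c) =
      (scaleA R K' (j c)).comp (Polynomial.mapAlgHom j) := by
  apply Polynomial.algHom_ext'
  · apply AlgHom.ext
    intro k
    simp [scale_C]
  · simp [scale_X]

lemma mapAlgHom_comp_sigmaA (j : K →ₐ[R] K') (u v : K) :
    (Polynomial.mapAlgHom j).comp (sigmaA R K u v) =
      (sigmaA R K' (j u) (j v)).comp
        (Polynomial.mapAlgHom (Polynomial.mapAlgHom (Polynomial.mapAlgHom j))) := by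
  apply Polynomial.algHom_ext'
  · apply Polynomial.algHom_ext'
    · apply Polynomial.algHom_ext'
      · apply AlgHom.ext
        intro k
        simp [sigmaA]
      · simp [sigmaA]
    · simp [sigmaA]
  · simp [sigmaA]

lemma sigmaA_scaleA_alphaA (u v c : K) :
    ((sigmaA R K u v).comp (scaleA R K[X][X] (Polynomial.C (Polynomial.C c)))).comp (alphaA R K) =
      scaleA R K u := by
  apply Polynomial.algHom_ext'
  · apply AlgHom.ext
    intro k
    simp [sigmaA, alphaA, scale_C]
  · simp [sigmaA, alphaA, scale_C, scale_X]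

lemma sigmaA_scaleA_betaA (u v c : K) :
    ((sigmaA R K u v).comp (scaleA R K[X][X] (Polynomial.C (Polynomial.C c)))).comp (betaA R K) =
      scaleA R K (u + c * v) := by
  apply Polynomial.algHom_ext'
  · apply AlgHom.ext
    intro k
    simp [sigmaA, betaA, scale_C]
  · simp [sigmaA, betaA, scale_C, scale_X]

/-- `T, U, V ↦ 0, u, v` followed by the inclusion of constants. -/
noncomputable def tauA (u v : K) : K[X][X][X] →ₐ[R] K[X] :=
  ((CAlgHom).comp (ev0A R K)).comp (sigmaA R K u v)

lemma mapAlgHom_comp_tauA (j : K →ₐ[R] K') (u v : K) :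
    (Polynomial.mapAlgHom j).comp (tauA R u v) =
      (tauA R (j u) (j v)).comp
        (Polynomial.mapAlgHom (Polynomial.mapAlgHom (Polynomial.mapAlgHom j))) := by
  apply Polynomial.algHom_ext'
  · apply Polynomial.algHom_ext'
    · apply Polynomial.algHom_ext'
      · apply AlgHom.ext
        intro k
        simp [sigmaA, tauA]
      · simp [sigmaA, tauA]
    · simp [sigmaA, tauA]
  · simp [sigmaA, tauA]

lemma tauA_scaleA_alphaA (u v c : K) :
    ((tauA R u v).comp (scaleA R K[X][X] (Polynomial.C (Polynomial.C c)))).comp (alphaA R K) =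
      (CAlgHom).comp (ev0A R K) := by
  apply Polynomial.algHom_ext'
  · apply AlgHom.ext
    intro k
    simp [sigmaA, tauA, alphaA, scale_C]
  · simp [sigmaA, tauA, alphaA, scale_C, scale_X]

lemma tauA_scaleA_betaA (u v c : K) :
    ((tauA R u v).comp (scaleA R K[X][X] (Polynomial.C (Polynomial.C c)))).comp (betaA R K) =
      (CAlgHom).comp (ev0A R K) := by
  apply Polynomial.algHom_ext'
  · apply AlgHom.ext
    intro k
    simp [sigmaA, tauA, betaA, scale_C]
  · simp [sigmaA, tauA, betaA, scale_C, scale_X]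

lemma tauA_eq (u v : K) :
    tauA R u v = ((CAlgHom).comp (ev0A R K)).comp (sigmaA R K u v) := rfl

lemma ev0A_comp_tauA (u v : K) :
    (ev0A R K).comp (tauA R u v) = (ev0A R K).comp (sigmaA R K u v) := by
  rw [tauA_eq, ← AlgHom.comp_assoc, ← AlgHom.comp_assoc, ev0A_comp_CAlgHom, AlgHom.id_comp]

end maps


end Groth.Agent.Lib.Helper79.QPatch
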