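import Mathlib

/-!
# Ring-level input for Quillen patching (helper79)

`LocLike ι s`: the ring map `ι : C → Cs` behaves like the localization at `s`.
`Dring ι = C ×_{Cs} Cs[V]`, the stage maps `C[V] → Dring ι`, and the two facts which say
that `Dring ι` is the colimit of `C[V] --(V ↦ sV)--> C[V] --> ...`.
-/

set_option autoImplicit false
universe u
open Polynomial

namespace Groth.Agent.Lib.Helper79.QPatch

/-- `ι : C → Cs` behaves like the localization away from `s`. -/
structure LocLike {C Cs : Type u} [CommRing C] [CommRing Cs] (ι : C →+* Cs) (s : C) : Prop where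
  unit : IsUnit (ι s)
  surj : ∀ x : Cs, ∃ (n : ℕ) (c : C), ι c = ι s ^ n * x
  ker : ∀ c, ι c = 0 → ∃ n : ℕ, s ^ n * c = 0

section scale
variable {C Cs : Type u} [CommRing C] [CommRing Cs]

/-- `V ↦ cV`. -/
noncomputable def scale (c : C) : C[X] →+* C[X] := eval₂RingHom Polynomial.C (Polynomial.C c * X)

lemma scale_apply (c : C) (p : C[X]) : scale c p = p.comp (Polynomial.C c * X) := rfl

@[simp] lemma coeff_scale (c : C) (p : C[X]) (n : ℕ) : (scale c p).coeff n = p.coeff n * c ^ n := by
  rw [scale_apply, comp_C_mul_X_coeff]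

lemma scale_one : scale (1 : C) = RingHom.id _ := by
  ext p n <;> simp

lemma scale_scale (a b : C) (p : C[X]) : scale a (scale b p) = scale (a * b) p := by
  ext n
  simp only [coeff_scale, mul_pow]
  ring

lemma map_scale (ι : C →+* Cs) (c : C) (p : C[X]) :
    (scale c p).map ι = scale (ι c) (p.map ι) := by
  ext n
  simp

lemma scale_C (c x : C) : scale c (Polynomial.C x) = Polynomial.C x := by
  ext n
  simp only [coeff_scale, coeff_C]
  split_ifs with h
  · subst h; simp
  · simp

lemma scale_X (c : C) : scale c (X : C[X]) = Polynomial.C c * X := by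
  rw [scale_apply, X_comp]

end scale

namespace LocLike
variable {C Cs : Type u} [CommRing C] [CommRing Cs] {ι : C →+* Cs} {s : C}

lemma exists_map_eq (h : LocLike ι s) (P : Cs[X]) :
    ∃ (n : ℕ) (p : C[X]), p.map ι = Polynomial.C (ι s ^ n) * P := by
  induction P using Polynomial.induction_on' with
  | add P₁ P₂ h₁ h₂ =>
    obtain ⟨n₁, p₁, e₁⟩ := h₁
    obtain ⟨n₂, p₂, e₂⟩ := h₂
    refine ⟨n₁ + n₂, Polynomial.C (s ^ n₂) * p₁ + Polynomial.C (s ^ n₁) * p₂, ?_⟩
    simp only [Polynomial.map_add, Polynomial.map_mul, Polynomial.map_pow, Polynomial.map_C, e₁, e₂,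
      pow_add, Polynomial.C_mul, Polynomial.C_pow]
    ring
  | monomial k x =>
    obtain ⟨n, c, e⟩ := h.surj x
    refine ⟨n, monomial k c, ?_⟩
    rw [Polynomial.map_monomial, e, C_mul_monomial]

lemma exists_C_mul_eq_zero (h : LocLike ι s) (p : C[X]) (hp : p.map ι = 0) :
    ∃ n : ℕ, Polynomial.C (s ^ n) * p = 0 := by
  have h1 : ∀ i, ∃ n : ℕ, s ^ n * p.coeff i = 0 := by
    intro i
    apply h.ker
    have := congrArg (fun q => q.coeff i) hp
    simpa using this
  choose n hn using h1
  refine ⟨p.support.sup n, ?_⟩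
  ext i
  rw [coeff_C_mul, coeff_zero]
  by_cases hi : i ∈ p.support
  · have hle : n i ≤ p.support.sup n := Finset.le_sup hi
    obtain ⟨k, hk⟩ := Nat.exists_eq_add_of_le hle
    rw [hk, pow_add, mul_comm (s ^ n i), mul_assoc, hn, mul_zero]
  · rw [notMem_support_iff.mp hi, mul_zero]

lemma poly (h : LocLike ι s) : LocLike (Polynomial.mapRingHom ι) (Polynomial.C s) where
  unit := by
    rw [coe_mapRingHom, Polynomial.map_C]
    exact h.unit.map Polynomial.C
  surj P := by
    obtain ⟨n, p, e⟩ := h.exists_map_eq P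
    refine ⟨n, p, ?_⟩
    rw [coe_mapRingHom, e, Polynomial.map_C, ← Polynomial.C_pow]
  ker p hp := by
    obtain ⟨n, e⟩ := h.exists_C_mul_eq_zero p hp
    exact ⟨n, by rw [← Polynomial.C_pow]; exact e⟩

lemma of_away {C Cs : Type u} [CommRing C] [CommRing Cs] [Algebra C Cs] (s : C)
    [IsLocalization.Away s Cs] : LocLike (algebraMap C Cs) s where
  unit := IsLocalization.Away.algebraMap_isUnit s
  surj x := by
    obtain ⟨n, c, e⟩ := IsLocalization.Away.surj s x
    exact ⟨n, c, by rw [← e, mul_comm]⟩
  ker c hc := by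
    have : algebraMap C Cs c = algebraMap C Cs 0 := by rw [hc, map_zero]
    obtain ⟨n, e⟩ := IsLocalization.Away.exists_of_eq s this
    exact ⟨n, by rw [e, mul_zero]⟩

/-- `R[1/r] → R[1/(r r')]` is like the localization at `r'`. -/
lemma of_away_mul {R A B : Type u} [CommRing R] [CommRing A] [CommRing B] [Algebra R A]
    [Algebra R B] [Algebra A B] [IsScalarTower R A B] (r r' : R)
    [IsLocalization.Away r A] [IsLocalization.Away (r * r') B] :
    LocLike (algebraMap A B) (algebraMap R A r') where
  unit := by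
    rw [← IsScalarTower.algebraMap_apply]
    have h := IsLocalization.Away.algebraMap_isUnit (S := B) (r * r')
    rw [map_mul] at h
    exact isUnit_of_mul_isUnit_right h
  surj x := by
    obtain ⟨n, y, e⟩ := IsLocalization.Away.surj (r * r') x
    have hu : IsUnit (algebraMap R A r) := IsLocalization.Away.algebraMap_isUnit r
    obtain ⟨v, hv⟩ := hu
    refine ⟨n, algebraMap R A y * ((v⁻¹ : Aˣ) : A) ^ n, ?_⟩
    have hB : algebraMap A B (v : A) = algebraMap R B r := by
      rw [hv, ← IsScalarTower.algebraMap_apply]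
    have h1 : algebraMap A B ((v⁻¹ : Aˣ) : A) * algebraMap R B r = 1 := by
      rw [← hB, ← map_mul, Units.inv_mul, map_one]
    rw [map_mul, map_pow, ← IsScalarTower.algebraMap_apply, ← IsScalarTower.algebraMap_apply, ← e,
      map_mul (algebraMap R B), mul_pow]
    calc x * (algebraMap R B r ^ n * algebraMap R B r' ^ n) * algebraMap A B ((v⁻¹ : Aˣ) : A) ^ n
        = (algebraMap A B ((v⁻¹ : Aˣ) : A) * algebraMap R B r) ^ n * (algebraMap R B r' ^ n * x) := by
          rw [mul_pow]; ring
      _ = algebraMap R B r' ^ n * x := by rw [h1, one_pow, one_mul]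
  ker a ha := by
    obtain ⟨n, y, e⟩ := IsLocalization.Away.surj r a
    -- a * r^n = y
    have h1 : algebraMap R B y = 0 := by
      rw [IsScalarTower.algebraMap_apply R A B, ← e, map_mul, ha, zero_mul]
    have h2 : algebraMap R B y = algebraMap R B 0 := by rw [h1, map_zero]
    obtain ⟨m, hm⟩ := IsLocalization.Away.exists_of_eq (r * r') h2
    rw [mul_zero] at hm
    -- (r r')^m y = 0 in R
    refine ⟨m, ?_⟩
    have hu : IsUnit (algebraMap R A r) := IsLocalization.Away.algebraMap_isUnit r
    have h3 : algebraMap R A r ^ (m + n) * (algebraMap R A r' ^ m * a) = 0 := by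
      have := congrArg (algebraMap R A) hm
      rw [map_mul, map_pow, map_mul, map_zero, ← e, mul_pow] at this
      rw [← this]
      ring
    exact (hu.pow (m + n)).mul_right_eq_zero.mp h3

end LocLike

end Groth.Agent.Lib.Helper79.QPatch
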