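import Groth.Agent.Lib.Helper79.QPatchMain

/-!
# Quillen patching for a group scheme locally of finite presentation: the theorem (helper79)
-/

set_option autoImplicit false
universe u
open Polynomial CategoryTheory CategoryTheory.Limits AlgebraicGeometry MonoidalCategory
  CartesianMonoidalCategory MonObj GrpObj

namespace Groth.Agent.Lib.Helper79.QPatch

variable {R : Type u} [CommRing R]

section patch
variable (G : Over (Spec (CommRingCat.of R))) [GrpObj G] [LocallyOfFinitePresentation G.hom]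
variable {A A' B : Type u} [CommRing A] [CommRing A'] [CommRing B] [Algebra R A] [Algebra R A']
  [Algebra R B]

omit [LocallyOfFinitePresentation G.hom] in
lemma ovc {C C' C'' : Type u} [CommRing C] [CommRing C'] [CommRing C''] [Algebra R C]
    [Algebra R C'] [Algebra R C''] (φ : C →ₐ[R] C') (ψ : C' →ₐ[R] C'') (x : sp R C ⟶ G) :
    ov ψ ≫ ov φ ≫ x = ov (ψ.comp φ) ≫ x := by
  rw [← Category.assoc, ov_comp]

omit [LocallyOfFinitePresentation G.hom] in
lemma hk0 (g : sp R B[X] ⟶ G) :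
    ov (ev0A R B[X][X]) ≫ ((ov (alphaA R B) ≫ g)⁻¹ * (ov (betaA R B) ≫ g)) = 1 := by
  rw [MonObj.comp_mul, GrpObj.comp_inv, ovc, ovc, ev0A_comp_alphaA, inv_mul_cancel]

lemma hs (jA' : A' →ₐ[R] B) (r : R) (N : ℕ) :
    (Polynomial.mapAlgHom (Polynomial.mapAlgHom jA'))
      (Polynomial.C (Polynomial.C (algebraMap R A' r))) ^ N =
      Polynomial.C (Polynomial.C (algebraMap R B (r ^ N))) := by
  simp

lemma hlφ (jA' : A' →ₐ[R] B) (r : R) (hlA' : LocLike jA'.toRingHom (algebraMap R A' r)) :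
    LocLike (Polynomial.mapAlgHom (Polynomial.mapAlgHom jA')).toRingHom
      (Polynomial.C (Polynomial.C (algebraMap R A' r))) := hlA'.poly.poly

theorem step2 (jA' : A' →ₐ[R] B) (r : R)
    (hlA' : LocLike jA'.toRingHom (algebraMap R A' r))
    (k : sp R B[X][X][X] ⟶ G) (hk : ov (ev0A R B[X][X]) ≫ k = 1) :
    ∃ (N : ℕ) (kt : sp R A'[X][X][X] ⟶ G),
      ov (Polynomial.mapAlgHom (Polynomial.mapAlgHom (Polynomial.mapAlgHom jA'))) ≫ kt =
        ov (scaleA R B[X][X] (Polynomial.C (Polynomial.C (algebraMap R B (r ^ N))))) ≫ k := by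
  obtain ⟨N, kt, -, hkt⟩ := key_lemma (C := A'[X][X]) (Cs := B[X][X]) G
    (Polynomial.mapAlgHom (Polynomial.mapAlgHom jA'))
    (Polynomial.C (Polynomial.C (algebraMap R A' r))) (hlφ jA' r hlA') k hk
  rw [hs] at hkt
  exact ⟨N, kt, hkt⟩

theorem patch (jA : A →ₐ[R] B) (jA' : A' →ₐ[R] B) (r r' : R)
    (hlA : LocLike jA.toRingHom (algebraMap R A r'))
    (hlA' : LocLike jA'.toRingHom (algebraMap R A' r))
    (hcop : ∀ N M : ℕ, ∃ a b : R, a * r ^ N + b * r' ^ M = 1)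
    (g : sp R B[X] ⟶ G) (hg : ov (ev0A R B) ≫ g = 1) :
    ∃ (g₁ : sp R A[X] ⟶ G) (g₂ : sp R A'[X] ⟶ G), ov (ev0A R A) ≫ g₁ = 1 ∧
      ov (ev0A R A') ≫ g₂ = 1 ∧
      g = (ov (Polynomial.mapAlgHom jA) ≫ g₁) * (ov (Polynomial.mapAlgHom jA') ≫ g₂) := by
  -- step 1: key lemma for `g` over `A`
  obtain ⟨M, gt, hgt0, hgt⟩ := key_lemma G jA (algebraMap R A r') hlA g hg
  -- step 2: key lemma for `k` over `A'[T][U]`
  have hk0' := hk0 G g
  generalize hkdef :
    ((ov (alphaA R B) ≫ g)⁻¹ * (ov (betaA R B) ≫ g) : sp R B[X][X][X] ⟶ G) = k at hk0'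
  obtain ⟨N, kt, hkt⟩ := step2 G jA' r hlA' k hk0'
  obtain ⟨a, b, hab⟩ := hcop N M
  -- the two factors
  refine ⟨ov (scaleA R A (algebraMap R A b)) ≫ gt,
    (ov (sigmaA R A' (algebraMap R A' (b * r' ^ M)) (algebraMap R A' a)) ≫ kt) *
      (ov (tauA R (algebraMap R A' (b * r' ^ M)) (algebraMap R A' a)) ≫ kt)⁻¹, ?_, ?_, ?_⟩
  · rw [ovc, ev0A_comp_scaleA, hgt0]
  · rw [MonObj.comp_mul, GrpObj.comp_inv, ovc, ovc, ev0A_comp_tauA, mul_inv_cancel]
  · have h3 : ov (Polynomial.mapAlgHom jA) ≫ ov (scaleA R A (algebraMap R A b)) ≫ gt =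
        ov (scaleA R B (algebraMap R B (b * r' ^ M))) ≫ g := by
      rw [ovc, mapAlgHom_comp_scaleA, ← ovc, hgt, ovc, scaleA_comp_scaleA]
      congr 3
      simp
    have h4 : ov (Polynomial.mapAlgHom jA') ≫
        ov (sigmaA R A' (algebraMap R A' (b * r' ^ M)) (algebraMap R A' a)) ≫ kt =
        (ov (scaleA R B (algebraMap R B (b * r' ^ M))) ≫ g)⁻¹ * g := by
      rw [ovc, mapAlgHom_comp_sigmaA,
        ← ovc (C := A'[X][X][X]) (C' := B[X][X][X]) (C'' := B[X]) G
          (Polynomial.mapAlgHom (Polynomial.mapAlgHom (Polynomial.mapAlgHom jA')))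
          (sigmaA R B _ _) kt, hkt, ovc, ← hkdef, MonObj.comp_mul, GrpObj.comp_inv,
        ovc, ovc, sigmaA_scaleA_alphaA, sigmaA_scaleA_betaA]
      have e1 : jA' (algebraMap R A' (b * r' ^ M)) = algebraMap R B (b * r' ^ M) := jA'.commutes _
      have e2 : jA' (algebraMap R A' (b * r' ^ M)) + algebraMap R B (r ^ N) * jA' (algebraMap R A' a)
          = 1 := by
        rw [jA'.commutes, jA'.commutes, ← map_mul, ← map_add, ← map_one (algebraMap R B)]
        congr 1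
        rw [← hab]
        ring
      rw [e2, e1, scaleA_one, ov_id, Category.id_comp]
    have h5 : ov (Polynomial.mapAlgHom jA') ≫
        ov (tauA R (algebraMap R A' (b * r' ^ M)) (algebraMap R A' a)) ≫ kt = 1 := by
      rw [ovc, mapAlgHom_comp_tauA,
        ← ovc (C := A'[X][X][X]) (C' := B[X][X][X]) (C'' := B[X]) G
          (Polynomial.mapAlgHom (Polynomial.mapAlgHom (Polynomial.mapAlgHom jA')))
          (tauA R _ _) kt, hkt, ovc, ← hkdef, MonObj.comp_mul, GrpObj.comp_inv,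
        ovc, ovc, tauA_scaleA_alphaA, tauA_scaleA_betaA, inv_mul_cancel]
    rw [h3, MonObj.comp_mul, GrpObj.comp_inv, h4, h5]
    group

end patch

end Groth.Agent.Lib.Helper79.QPatch
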