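import Mathlib

set_option autoImplicit false

namespace Groth.Agent.Lib.Helper79

open MvPolynomial Algebra

theorem smooth_of_isUnit_pderiv {R : Type*} [CommRing R] (g : MvPolynomial (Fin 2) R) (i : Fin 2)
    (h : IsUnit (Ideal.Quotient.mk (Ideal.span ({g} : Set (MvPolynomial (Fin 2) R))) (pderiv i g))) :
    Algebra.Smooth R (MvPolynomial (Fin 2) R ⧸ Ideal.span ({g} : Set (MvPolynomial (Fin 2) R))) := by
  have hset : ({g} : Set (MvPolynomial (Fin 2) R)) = Set.range (fun _ : Unit => g) :=
    Set.range_const.symm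
  rw [hset] at h ⊢
  let P := PreSubmersivePresentation.naive (R := R) (v := fun _ : Unit => g) (fun _ => i)
    (fun _ _ _ => rfl)
  have hjac : P.jacobian = Ideal.Quotient.mk _ (pderiv i g) := by
    rw [PreSubmersivePresentation.jacobian_eq_jacobiMatrix_det, Matrix.det_unique,
      PreSubmersivePresentation.jacobiMatrix_naive]
    rfl
  let SP : SubmersivePresentation R _ (Fin 2) Unit := ⟨P, hjac ▸ h⟩
  have := SP.isStandardSmooth
  infer_instance

end Groth.Agent.Lib.Helper79
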